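import Cfsg.Agent.Lib.Lead.ON45.Data

/-! # The relators of the triple cover hold on the 45-dimensional module: products of at most four letters at a time,
with the intermediate matrices written out (generated), part 0 -/

set_option autoImplicit false
set_option maxRecDepth 1000000
set_option maxHeartbeats 4000000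

namespace Cfsg.Agent.Lib.Lead.ON45

theorem s9_0 : List.foldl (fun P x => mulT P (T x)) idL [1, 3, 1, 3] = idL := by decide +kernel

theorem wd9 : evalW T ([1, 3, 1, 3] ++ []) = idL := by
  unfold evalW
  rw [List.foldl_append, s9_0]
  rfl

theorem s18_0 : List.foldl (fun P x => mulT P (T x)) idL [3, 0, 3, 0] = idL := by decide +kernel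

theorem wd18 : evalW T ([3, 0, 3, 0] ++ []) = idL := by
  unfold evalW
  rw [List.foldl_append, s18_0]
  rfl

theorem s21_0 : List.foldl (fun P x => mulT P (T x)) idL [3, 3] = idL := by decide +kernel

theorem wd21 : evalW T ([3, 3] ++ []) = idL := by
  unfold evalW
  rw [List.foldl_append, s21_0]
  rfl

/-- an intermediate product -/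
def m27_0 : LM := [
  [1, 0, 6, 0, 5, 6, 2, 6, 0, 0, 0, 0, 0, 0, 0, 4, 1, 0, 6, 0, 0, 0, 2, 1, 1, 0, 2, 0, 4, 2, 6, 5, 5, 0, 0, 1, 4, 5, 5, 6, 2, 3, 0, 6, 5],
  [0, 6, 0, 3, 2, 5, 2, 2, 1, 5, 5, 3, 5, 6, 2, 0, 2, 2, 2, 0, 6, 4, 2, 4, 1, 0, 5, 3, 0, 5, 2, 2, 3, 4, 6, 6, 3, 5, 5, 6, 2, 4, 3, 4, 4],
  [5, 0, 6, 0, 4, 4, 6, 5, 6, 0, 0, 0, 0, 0, 0, 1, 2, 3, 2, 0, 5, 0, 4, 1, 6, 6, 5, 5, 1, 6, 0, 4, 1, 4, 6, 3, 0, 0, 4, 5, 3, 1, 1, 0, 6],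
  [1, 0, 0, 4, 4, 1, 1, 5, 0, 0, 0, 0, 0, 0, 0, 2, 3, 1, 0, 0, 3, 0, 4, 0, 4, 3, 3, 2, 1, 3, 5, 5, 0, 6, 1, 4, 5, 6, 4, 2, 1, 2, 2, 5, 6],
  [4, 0, 6, 0, 6, 0, 0, 1, 6, 0, 0, 0, 0, 0, 0, 3, 5, 5, 2, 0, 2, 0, 6, 0, 5, 5, 2, 2, 3, 0, 6, 5, 4, 2, 5, 4, 4, 5, 1, 1, 6, 5, 4, 6, 5],
  [0, 0, 2, 0, 2, 0, 5, 3, 4, 0, 0, 0, 0, 0, 0, 2, 2, 0, 4, 0, 6, 0, 2, 0, 3, 6, 3, 6, 2, 0, 4, 3, 5, 2, 2, 1, 5, 1, 3, 3, 4, 0, 2, 4, 5],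
  [2, 0, 5, 0, 2, 1, 1, 0, 2, 0, 0, 0, 0, 0, 0, 0, 1, 6, 2, 0, 0, 0, 6, 0, 2, 5, 5, 0, 0, 5, 0, 5, 0, 2, 2, 0, 0, 0, 0, 0, 0, 1, 0, 1, 3],
  [0, 0, 5, 6, 0, 3, 6, 3, 4, 0, 0, 0, 0, 0, 0, 5, 4, 6, 5, 0, 5, 5, 0, 2, 6, 0, 3, 6, 3, 6, 6, 1, 5, 4, 6, 1, 4, 0, 0, 0, 0, 5, 5, 5, 2],
  [6, 0, 0, 5, 4, 5, 1, 2, 3, 0, 0, 0, 0, 0, 0, 1, 5, 4, 2, 0, 6, 3, 5, 2, 5, 6, 3, 4, 2, 5, 2, 4, 5, 3, 6, 1, 6, 1, 5, 4, 4, 5, 0, 4, 3],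
  [4, 0, 4, 1, 2, 4, 2, 6, 6, 1, 0, 6, 3, 0, 4, 1, 1, 5, 1, 3, 3, 6, 1, 0, 2, 4, 5, 5, 5, 4, 6, 4, 3, 4, 4, 1, 6, 0, 4, 5, 3, 1, 5, 4, 0],
  [0, 6, 3, 0, 0, 6, 1, 6, 2, 3, 4, 1, 2, 5, 5, 5, 5, 6, 3, 1, 6, 4, 0, 3, 4, 4, 3, 5, 2, 4, 0, 6, 2, 1, 6, 2, 6, 3, 0, 5, 2, 3, 5, 6, 2],
  [6, 1, 0, 2, 2, 4, 6, 3, 6, 2, 5, 6, 2, 0, 1, 6, 5, 0, 6, 4, 3, 5, 5, 4, 0, 2, 0, 5, 2, 0, 3, 2, 0, 5, 3, 2, 4, 5, 1, 1, 6, 1, 3, 5, 4],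
  [6, 0, 1, 6, 5, 2, 1, 2, 3, 0, 4, 2, 2, 6, 5, 1, 3, 6, 6, 6, 6, 4, 6, 0, 2, 0, 5, 5, 1, 1, 1, 6, 6, 3, 3, 3, 6, 0, 0, 0, 0, 1, 6, 0, 1],
  [2, 2, 2, 6, 1, 5, 6, 2, 1, 0, 1, 3, 6, 3, 2, 4, 5, 3, 6, 5, 2, 1, 6, 5, 5, 1, 4, 1, 6, 3, 2, 1, 0, 6, 0, 6, 5, 1, 3, 3, 4, 6, 4, 5, 1],
  [2, 0, 5, 0, 0, 4, 6, 0, 3, 0, 0, 4, 0, 1, 6, 0, 5, 2, 1, 0, 0, 0, 5, 0, 4, 3, 2, 0, 0, 6, 0, 0, 0, 5, 1, 3, 0, 0, 0, 0, 0, 3, 0, 3, 1],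
  [2, 0, 6, 0, 6, 6, 0, 4, 4, 0, 0, 0, 0, 0, 0, 5, 0, 6, 5, 0, 4, 6, 3, 0, 1, 1, 5, 2, 4, 3, 3, 3, 3, 5, 1, 2, 3, 0, 0, 0, 0, 3, 4, 1, 2],
  [5, 0, 1, 1, 0, 4, 0, 3, 4, 0, 0, 0, 0, 0, 0, 2, 4, 3, 6, 0, 6, 5, 4, 6, 5, 3, 5, 3, 5, 2, 0, 5, 2, 5, 0, 2, 5, 6, 2, 3, 3, 6, 2, 2, 1],
  [4, 0, 5, 1, 1, 4, 2, 3, 1, 0, 0, 0, 0, 0, 0, 0, 1, 4, 3, 0, 5, 3, 5, 4, 0, 4, 4, 1, 0, 3, 2, 0, 4, 0, 4, 6, 0, 3, 0, 5, 2, 3, 0, 3, 6],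
  [2, 0, 1, 5, 5, 6, 0, 2, 0, 0, 0, 0, 0, 0, 0, 3, 2, 2, 5, 0, 0, 5, 6, 4, 5, 3, 6, 6, 0, 0, 0, 2, 3, 3, 1, 1, 4, 4, 0, 2, 5, 4, 5, 0, 3],
  [3, 5, 3, 6, 6, 2, 2, 0, 2, 4, 5, 1, 6, 5, 0, 1, 0, 5, 1, 6, 2, 6, 3, 1, 5, 3, 1, 0, 3, 0, 3, 3, 3, 5, 3, 3, 2, 0, 0, 0, 0, 6, 1, 3, 2],
  [0, 0, 1, 5, 0, 3, 3, 0, 1, 0, 0, 0, 0, 0, 0, 3, 3, 5, 5, 0, 1, 5, 5, 3, 4, 4, 4, 4, 0, 2, 3, 0, 5, 2, 3, 4, 2, 5, 4, 6, 6, 4, 4, 1, 6],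
  [6, 0, 5, 2, 3, 2, 1, 5, 3, 0, 0, 0, 0, 0, 0, 0, 5, 0, 6, 0, 5, 0, 3, 6, 1, 4, 5, 4, 1, 5, 5, 5, 5, 5, 0, 2, 3, 6, 0, 3, 4, 4, 0, 3, 5],
  [4, 0, 0, 5, 6, 5, 0, 2, 6, 0, 0, 0, 0, 0, 0, 0, 1, 0, 0, 0, 2, 2, 3, 1, 1, 1, 2, 3, 3, 5, 3, 2, 6, 6, 3, 1, 0, 3, 4, 5, 0, 1, 0, 2, 4],
  [6, 0, 5, 5, 4, 0, 2, 0, 1, 0, 0, 0, 0, 0, 0, 6, 4, 2, 4, 0, 6, 6, 2, 2, 0, 4, 6, 3, 0, 3, 4, 2, 3, 3, 3, 1, 4, 4, 6, 2, 2, 6, 3, 5, 5],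
  [3, 0, 0, 5, 5, 2, 2, 2, 3, 0, 0, 0, 0, 0, 0, 4, 6, 6, 3, 0, 0, 3, 0, 5, 1, 5, 5, 5, 5, 6, 0, 2, 0, 4, 2, 2, 4, 3, 0, 5, 2, 3, 1, 6, 4],
  [5, 0, 3, 1, 6, 6, 4, 6, 6, 0, 0, 0, 0, 0, 0, 6, 5, 4, 2, 0, 5, 2, 6, 2, 6, 1, 1, 6, 2, 1, 4, 0, 3, 0, 0, 6, 2, 5, 3, 6, 3, 3, 3, 5, 3],
  [3, 0, 0, 6, 5, 5, 5, 1, 6, 0, 0, 0, 0, 0, 0, 4, 3, 5, 0, 0, 3, 5, 5, 1, 4, 5, 5, 2, 1, 6, 1, 6, 6, 5, 2, 5, 3, 4, 6, 2, 2, 3, 3, 6, 3],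
  [5, 0, 4, 0, 2, 6, 2, 3, 5, 0, 0, 0, 0, 0, 0, 0, 6, 5, 1, 0, 4, 1, 0, 0, 2, 6, 3, 1, 6, 2, 0, 1, 1, 6, 6, 6, 5, 2, 3, 1, 1, 4, 2, 0, 6],
  [5, 0, 6, 0, 5, 4, 4, 3, 2, 0, 0, 0, 0, 0, 0, 3, 0, 6, 2, 0, 6, 1, 3, 3, 4, 3, 1, 3, 0, 2, 6, 3, 0, 5, 6, 4, 2, 3, 1, 5, 5, 1, 6, 0, 3],
  [3, 0, 5, 2, 0, 0, 6, 5, 0, 0, 0, 0, 0, 0, 0, 6, 6, 6, 1, 0, 1, 4, 2, 5, 1, 2, 1, 3, 5, 3, 5, 1, 2, 6, 1, 6, 1, 6, 2, 3, 3, 4, 6, 2, 5],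
  [1, 0, 0, 0, 3, 5, 5, 2, 0, 0, 0, 0, 0, 0, 0, 2, 4, 2, 5, 0, 5, 4, 6, 3, 2, 0, 4, 3, 0, 6, 2, 6, 5, 5, 0, 0, 2, 6, 3, 5, 1, 2, 5, 5, 5],
  [5, 0, 0, 6, 0, 2, 1, 1, 2, 0, 0, 0, 0, 0, 0, 4, 0, 0, 5, 0, 2, 4, 5, 0, 5, 1, 3, 5, 0, 5, 3, 3, 6, 5, 2, 3, 1, 4, 5, 2, 6, 2, 5, 2, 5],
  [5, 0, 1, 3, 6, 5, 4, 3, 4, 0, 0, 0, 0, 0, 0, 1, 1, 4, 1, 0, 3, 6, 4, 3, 6, 6, 3, 6, 0, 2, 4, 0, 4, 4, 1, 2, 3, 5, 4, 6, 6, 6, 5, 2, 4],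
  [3, 0, 3, 1, 5, 2, 1, 6, 5, 0, 0, 0, 0, 0, 0, 3, 2, 3, 4, 0, 3, 1, 2, 5, 1, 1, 6, 1, 5, 4, 1, 0, 1, 5, 2, 3, 2, 3, 0, 5, 2, 5, 6, 2, 6],
  [5, 0, 1, 5, 5, 5, 2, 2, 4, 0, 0, 0, 0, 0, 0, 1, 3, 6, 4, 0, 6, 3, 5, 2, 0, 4, 1, 4, 2, 5, 2, 0, 5, 2, 1, 5, 6, 1, 5, 4, 4, 5, 6, 1, 1],
  [6, 0, 4, 1, 5, 0, 1, 6, 5, 0, 0, 0, 0, 0, 0, 3, 5, 5, 1, 0, 1, 6, 1, 3, 4, 6, 5, 0, 3, 5, 5, 3, 1, 6, 0, 5, 5, 3, 5, 5, 3, 1, 0, 1, 4],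
  [0, 0, 3, 3, 4, 3, 6, 5, 5, 0, 0, 0, 0, 0, 0, 3, 6, 6, 1, 0, 0, 4, 3, 1, 5, 3, 2, 6, 0, 0, 6, 0, 2, 4, 5, 2, 4, 4, 6, 2, 2, 0, 0, 2, 0],
  [6, 0, 3, 4, 5, 3, 6, 3, 4, 0, 0, 0, 0, 0, 0, 5, 4, 6, 4, 0, 2, 1, 6, 3, 2, 4, 6, 6, 3, 3, 3, 3, 4, 1, 1, 6, 2, 6, 2, 6, 3, 6, 2, 1, 0],
  [6, 0, 4, 6, 0, 1, 6, 1, 3, 0, 0, 0, 0, 0, 0, 4, 2, 6, 1, 0, 3, 5, 5, 1, 1, 1, 5, 2, 1, 2, 1, 4, 6, 5, 1, 1, 3, 6, 3, 2, 1, 2, 6, 4, 2],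
  [2, 0, 4, 1, 5, 3, 3, 0, 5, 0, 0, 0, 0, 0, 0, 1, 5, 2, 1, 0, 3, 0, 6, 4, 1, 1, 5, 4, 6, 4, 4, 6, 4, 1, 3, 1, 3, 0, 2, 5, 2, 3, 0, 1, 1],
  [5, 0, 3, 2, 0, 4, 5, 5, 1, 0, 0, 0, 0, 0, 0, 6, 1, 4, 1, 0, 1, 4, 6, 5, 0, 3, 6, 3, 5, 2, 5, 1, 2, 4, 2, 2, 1, 6, 5, 3, 5, 2, 1, 6, 4],
  [3, 0, 4, 0, 4, 0, 1, 0, 0, 0, 0, 0, 0, 0, 0, 0, 0, 0, 6, 0, 0, 0, 5, 0, 3, 4, 4, 0, 0, 2, 0, 6, 0, 3, 6, 4, 0, 0, 0, 0, 0, 2, 1, 2, 6],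
  [1, 0, 6, 0, 6, 0, 3, 0, 6, 0, 0, 0, 0, 0, 0, 0, 6, 1, 4, 0, 0, 0, 6, 0, 6, 1, 1, 0, 0, 6, 0, 2, 0, 1, 4, 6, 0, 0, 0, 0, 0, 3, 6, 6, 5],
  [2, 0, 5, 0, 4, 5, 0, 0, 0, 0, 0, 0, 0, 0, 0, 0, 1, 6, 2, 0, 0, 0, 6, 0, 1, 6, 6, 0, 0, 0, 0, 5, 0, 2, 0, 0, 0, 0, 0, 0, 0, 3, 3, 3, 6],
  [6, 0, 1, 0, 6, 3, 3, 0, 0, 0, 0, 0, 0, 0, 0, 0, 2, 5, 1, 0, 0, 0, 6, 0, 3, 4, 0, 0, 0, 3, 0, 0, 0, 6, 4, 5, 0, 0, 0, 0, 0, 0, 0, 1, 0]]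

theorem s27_0 : List.foldl (fun P x => mulT P (T x)) idL [4, 3, 4, 3] = m27_0 := by decide +kernel

theorem s27_1 : List.foldl (fun P x => mulT P (T x)) m27_0 [4, 3] = idL := by decide +kernel

theorem wd27 : evalW T ([4, 3, 4, 3] ++ ([4, 3] ++ [])) = idL := by
  unfold evalW
  rw [List.foldl_append, s27_0, List.foldl_append, s27_1]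
  rfl

theorem s30_0 : List.foldl (fun P x => mulT P (T x)) idL [5, 0, 5, 0] = idL := by decide +kernel

theorem wd30 : evalW T ([5, 0, 5, 0] ++ []) = idL := by
  unfold evalW
  rw [List.foldl_append, s30_0]
  rfl

theorem s39_0 : List.foldl (fun P x => mulT P (T x)) idL [9, 8] = idL := by decide +kernel

theorem wd39 : evalW T ([9, 8] ++ []) = idL := by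
  unfold evalW
  rw [List.foldl_append, s39_0]
  rfl

/-- an intermediate product -/
def m44_0 : LM := [
  [0, 1, 0, 0, 0, 0, 0, 0, 0, 1, 6, 3, 1, 5, 3, 0, 0, 0, 0, 1, 0, 0, 0, 0, 6, 1, 3, 4, 5, 6, 4, 3, 6, 5, 4, 4, 0, 4, 1, 5, 3, 5, 5, 0, 6],
  [5, 6, 5, 0, 3, 1, 5, 2, 0, 6, 4, 0, 4, 4, 1, 0, 0, 0, 0, 2, 0, 0, 0, 0, 2, 2, 4, 2, 6, 3, 1, 6, 4, 1, 0, 2, 4, 3, 4, 6, 6, 4, 4, 2, 3],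
  [0, 1, 0, 0, 0, 0, 0, 0, 6, 3, 4, 5, 2, 5, 5, 0, 6, 4, 0, 5, 5, 2, 5, 1, 3, 5, 0, 2, 5, 3, 0, 0, 1, 3, 4, 0, 5, 0, 3, 4, 0, 1, 3, 2, 4],
  [0, 6, 0, 0, 0, 0, 0, 0, 1, 4, 4, 2, 3, 6, 4, 0, 2, 0, 1, 5, 0, 3, 1, 0, 4, 0, 1, 1, 2, 2, 6, 6, 5, 5, 1, 4, 3, 1, 6, 1, 3, 4, 0, 0, 6],
  [0, 4, 0, 0, 0, 0, 0, 0, 1, 2, 4, 6, 2, 3, 6, 0, 1, 3, 0, 1, 2, 5, 2, 6, 1, 2, 1, 1, 6, 4, 0, 4, 4, 6, 4, 3, 3, 3, 0, 5, 3, 5, 4, 3, 0],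
  [0, 1, 0, 0, 0, 0, 0, 0, 3, 6, 0, 5, 2, 0, 0, 0, 3, 2, 0, 6, 6, 1, 6, 4, 6, 6, 0, 4, 2, 1, 6, 3, 6, 1, 3, 3, 0, 4, 6, 0, 4, 5, 2, 0, 3],
  [0, 0, 0, 0, 0, 0, 0, 0, 0, 0, 0, 0, 5, 0, 1, 0, 0, 0, 0, 6, 0, 0, 0, 0, 0, 0, 0, 5, 0, 6, 0, 0, 0, 0, 4, 0, 4, 0, 0, 3, 5, 3, 1, 3, 5],
  [0, 0, 0, 0, 0, 0, 0, 0, 0, 0, 0, 0, 6, 0, 5, 0, 0, 0, 0, 5, 0, 0, 0, 0, 0, 0, 0, 0, 6, 1, 0, 0, 1, 0, 6, 0, 1, 0, 0, 4, 3, 3, 0, 6, 5],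
  [0, 0, 0, 0, 0, 0, 0, 0, 0, 0, 0, 0, 3, 0, 2, 0, 0, 0, 0, 5, 0, 0, 0, 0, 0, 0, 0, 6, 0, 0, 0, 0, 0, 0, 3, 0, 4, 0, 0, 3, 5, 0, 3, 6, 1],
  [5, 0, 6, 6, 2, 6, 6, 6, 6, 3, 1, 3, 0, 1, 4, 5, 6, 4, 0, 1, 5, 2, 5, 1, 6, 0, 2, 0, 1, 4, 1, 2, 1, 4, 4, 3, 0, 2, 5, 3, 5, 2, 6, 0, 0],
  [0, 3, 5, 2, 4, 2, 2, 0, 2, 4, 3, 6, 3, 5, 6, 6, 1, 2, 6, 2, 6, 5, 5, 4, 5, 3, 5, 1, 4, 4, 5, 6, 3, 3, 3, 1, 5, 5, 3, 3, 6, 0, 4, 1, 2],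
  [0, 5, 1, 0, 5, 3, 1, 0, 1, 1, 4, 3, 4, 0, 5, 2, 1, 3, 0, 2, 2, 5, 2, 6, 3, 0, 1, 0, 5, 4, 1, 3, 5, 5, 2, 3, 6, 4, 4, 6, 3, 6, 4, 3, 4],
  [0, 0, 0, 0, 0, 0, 0, 1, 0, 0, 0, 0, 2, 0, 5, 3, 0, 0, 0, 1, 0, 0, 0, 0, 0, 0, 0, 0, 0, 0, 0, 0, 5, 0, 4, 0, 2, 0, 0, 2, 2, 2, 1, 5, 4],
  [0, 4, 6, 0, 5, 6, 3, 2, 3, 0, 4, 5, 2, 0, 0, 4, 3, 2, 0, 4, 6, 1, 6, 4, 0, 5, 5, 6, 5, 4, 3, 4, 3, 0, 4, 5, 5, 5, 3, 2, 6, 5, 3, 6, 0],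
  [0, 0, 0, 0, 0, 0, 3, 5, 0, 0, 0, 0, 0, 0, 3, 6, 0, 0, 0, 5, 0, 0, 0, 0, 0, 0, 0, 2, 0, 2, 0, 0, 6, 0, 1, 0, 4, 0, 0, 2, 3, 1, 6, 4, 3],
  [0, 0, 0, 0, 0, 0, 0, 0, 0, 0, 0, 0, 4, 0, 1, 0, 0, 0, 0, 0, 0, 0, 0, 0, 0, 0, 0, 1, 1, 2, 0, 0, 3, 0, 6, 0, 0, 0, 0, 4, 0, 4, 0, 1, 1],
  [0, 5, 0, 0, 0, 0, 0, 0, 0, 5, 6, 3, 3, 5, 5, 0, 0, 0, 0, 1, 0, 0, 0, 0, 4, 6, 4, 1, 1, 1, 2, 6, 0, 3, 2, 3, 1, 4, 1, 1, 4, 1, 3, 3, 6],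
  [0, 0, 0, 0, 0, 0, 0, 0, 1, 2, 4, 3, 6, 4, 4, 0, 2, 0, 1, 4, 0, 3, 1, 0, 6, 6, 3, 2, 2, 6, 1, 1, 4, 3, 5, 5, 4, 2, 1, 2, 4, 4, 4, 6, 4],
  [0, 1, 0, 0, 0, 0, 0, 0, 6, 2, 4, 5, 0, 3, 5, 0, 5, 0, 6, 5, 0, 4, 6, 0, 1, 4, 0, 1, 4, 3, 3, 6, 6, 4, 1, 0, 6, 3, 2, 4, 2, 3, 5, 2, 5],
  [0, 0, 0, 0, 0, 0, 2, 5, 0, 0, 0, 0, 5, 0, 4, 0, 0, 0, 0, 3, 0, 0, 0, 0, 0, 0, 0, 3, 0, 2, 0, 0, 2, 0, 1, 0, 1, 0, 0, 0, 1, 5, 0, 4, 5],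
  [0, 0, 0, 0, 0, 0, 0, 0, 0, 0, 0, 0, 3, 0, 3, 0, 0, 0, 0, 6, 0, 0, 0, 0, 0, 0, 0, 1, 0, 5, 0, 0, 4, 0, 2, 0, 5, 0, 0, 3, 5, 5, 6, 4, 0],
  [0, 5, 0, 0, 0, 0, 0, 0, 6, 2, 4, 2, 5, 1, 4, 0, 6, 4, 0, 6, 5, 2, 5, 1, 4, 6, 4, 1, 0, 4, 1, 4, 3, 0, 3, 6, 3, 4, 2, 0, 3, 4, 2, 3, 6],
  [0, 6, 0, 0, 0, 0, 0, 0, 4, 2, 0, 6, 1, 6, 3, 0, 1, 0, 4, 0, 0, 5, 4, 0, 5, 4, 2, 5, 4, 5, 3, 2, 4, 1, 3, 3, 5, 1, 3, 4, 3, 1, 1, 0, 3],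
  [0, 0, 0, 0, 0, 0, 0, 0, 0, 0, 0, 0, 4, 0, 1, 0, 0, 0, 0, 1, 0, 0, 0, 0, 0, 0, 0, 5, 0, 3, 0, 0, 1, 0, 2, 0, 6, 0, 0, 5, 5, 1, 6, 5, 0],
  [0, 5, 0, 0, 0, 0, 0, 0, 5, 6, 2, 3, 5, 2, 0, 0, 4, 5, 0, 5, 0, 4, 1, 4, 0, 6, 1, 4, 6, 2, 6, 0, 6, 2, 5, 0, 4, 1, 5, 4, 1, 5, 1, 5, 4],
  [0, 5, 0, 0, 0, 0, 0, 0, 5, 5, 1, 3, 4, 5, 2, 0, 4, 5, 1, 6, 3, 5, 3, 0, 4, 1, 1, 3, 2, 4, 3, 6, 5, 2, 3, 6, 3, 1, 1, 1, 6, 5, 6, 3, 0],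
  [0, 4, 0, 0, 0, 0, 0, 0, 4, 1, 5, 0, 4, 1, 1, 0, 1, 5, 3, 0, 4, 0, 6, 0, 3, 6, 3, 1, 3, 3, 1, 4, 4, 6, 2, 0, 0, 6, 5, 0, 1, 2, 6, 3, 4],
  [0, 0, 0, 0, 0, 0, 0, 0, 4, 0, 0, 0, 6, 0, 6, 0, 0, 0, 0, 4, 2, 0, 0, 5, 0, 0, 0, 4, 0, 3, 0, 0, 3, 0, 1, 0, 6, 0, 0, 0, 6, 5, 0, 5, 2],
  [0, 0, 0, 0, 0, 0, 0, 0, 6, 0, 0, 0, 3, 0, 1, 0, 0, 0, 0, 6, 5, 0, 0, 2, 0, 0, 0, 0, 0, 4, 0, 0, 6, 0, 4, 0, 5, 0, 0, 6, 3, 2, 2, 4, 1],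
  [0, 0, 0, 0, 0, 0, 0, 0, 5, 0, 0, 0, 2, 0, 3, 0, 0, 0, 0, 6, 1, 0, 0, 0, 0, 0, 0, 1, 0, 0, 0, 0, 4, 0, 3, 0, 0, 0, 0, 2, 3, 3, 4, 0, 3],
  [0, 6, 0, 0, 0, 0, 0, 0, 0, 0, 6, 5, 4, 2, 6, 0, 0, 0, 0, 3, 0, 0, 0, 0, 2, 0, 6, 1, 6, 1, 4, 3, 3, 0, 6, 6, 2, 0, 2, 0, 4, 5, 0, 0, 0],
  [0, 6, 0, 0, 0, 0, 0, 0, 0, 5, 4, 4, 3, 1, 2, 0, 0, 0, 0, 6, 0, 0, 0, 0, 1, 1, 3, 5, 6, 5, 6, 3, 4, 4, 0, 4, 2, 3, 6, 1, 4, 2, 1, 0, 4],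
  [0, 0, 0, 0, 0, 0, 0, 0, 0, 0, 0, 0, 1, 0, 0, 0, 0, 0, 0, 4, 0, 0, 0, 0, 0, 0, 0, 3, 0, 6, 0, 0, 0, 0, 6, 0, 2, 0, 0, 0, 0, 6, 3, 6, 4],
  [0, 6, 0, 0, 0, 0, 0, 0, 0, 0, 6, 4, 1, 1, 2, 0, 0, 0, 0, 5, 0, 0, 0, 0, 0, 3, 0, 5, 2, 3, 0, 0, 6, 3, 1, 3, 6, 4, 4, 0, 2, 2, 5, 0, 5],
  [0, 0, 0, 0, 0, 0, 0, 0, 0, 0, 0, 0, 6, 0, 2, 0, 0, 0, 0, 3, 0, 0, 0, 0, 0, 0, 0, 4, 0, 6, 0, 0, 4, 0, 0, 0, 5, 0, 0, 0, 0, 4, 5, 3, 0],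
  [0, 3, 0, 0, 0, 0, 0, 0, 0, 4, 0, 1, 1, 2, 3, 0, 0, 0, 0, 5, 0, 0, 0, 0, 3, 1, 2, 6, 3, 4, 0, 6, 3, 5, 6, 4, 1, 2, 2, 5, 0, 3, 1, 4, 1],
  [0, 0, 0, 0, 0, 0, 0, 0, 0, 0, 0, 0, 6, 0, 2, 0, 0, 0, 0, 6, 0, 0, 0, 0, 0, 0, 0, 6, 6, 2, 0, 0, 3, 0, 3, 0, 6, 0, 0, 0, 0, 4, 5, 0, 2],
  [0, 2, 0, 0, 0, 0, 0, 0, 0, 1, 5, 2, 3, 0, 1, 0, 0, 0, 0, 0, 0, 0, 0, 0, 5, 0, 1, 3, 1, 6, 0, 2, 5, 0, 3, 6, 3, 3, 2, 1, 4, 0, 5, 5, 4],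
  [0, 3, 0, 0, 0, 0, 0, 0, 0, 3, 6, 6, 3, 1, 6, 0, 0, 0, 0, 3, 0, 0, 0, 0, 6, 2, 0, 1, 0, 1, 3, 4, 1, 5, 2, 4, 3, 2, 6, 5, 4, 2, 4, 5, 5],
  [0, 0, 0, 0, 0, 0, 0, 0, 0, 0, 0, 0, 0, 0, 0, 0, 0, 0, 0, 0, 0, 0, 0, 0, 0, 0, 0, 0, 0, 0, 0, 0, 6, 0, 2, 0, 6, 0, 0, 0, 0, 4, 4, 0, 4],
  [0, 0, 0, 0, 0, 0, 0, 0, 0, 0, 0, 0, 1, 0, 4, 0, 0, 0, 0, 4, 0, 0, 0, 0, 0, 0, 0, 3, 0, 2, 0, 0, 3, 0, 1, 0, 2, 0, 0, 0, 0, 1, 3, 3, 6],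
  [0, 0, 0, 0, 0, 0, 0, 0, 0, 0, 0, 0, 6, 0, 5, 0, 0, 0, 0, 3, 0, 0, 0, 0, 0, 0, 0, 4, 0, 3, 0, 0, 3, 0, 6, 0, 2, 0, 0, 0, 6, 3, 0, 3, 3],
  [0, 0, 0, 0, 0, 0, 0, 0, 0, 0, 0, 0, 4, 0, 0, 0, 0, 0, 0, 5, 0, 0, 0, 0, 0, 0, 0, 0, 6, 6, 0, 0, 5, 0, 1, 0, 5, 0, 0, 6, 0, 3, 2, 1, 2],
  [0, 0, 0, 0, 0, 0, 0, 0, 0, 0, 0, 0, 6, 0, 1, 0, 0, 0, 0, 0, 0, 0, 0, 0, 0, 0, 0, 2, 1, 4, 0, 0, 2, 0, 2, 0, 4, 0, 0, 4, 0, 3, 2, 3, 0],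
  [0, 0, 0, 0, 0, 0, 0, 0, 0, 0, 0, 0, 0, 0, 0, 0, 0, 0, 0, 0, 0, 0, 0, 0, 0, 0, 0, 0, 0, 0, 0, 0, 6, 0, 2, 0, 6, 0, 0, 0, 0, 3, 5, 5, 4]]

theorem s44_0 : List.foldl (fun P x => mulT P (T x)) idL [1, 2, 3, 6] = m44_0 := by decide +kernel

/-- an intermediate product -/
def m44_1 : LM := [
  [3, 5, 4, 4, 6, 2, 3, 4, 5, 6, 0, 3, 0, 3, 2, 4, 5, 1, 4, 1, 5, 4, 0, 5, 4, 5, 6, 5, 6, 6, 3, 1, 2, 3, 6, 6, 6, 1, 0, 3, 6, 6, 6, 4, 5],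
  [4, 6, 5, 2, 3, 4, 2, 5, 5, 6, 4, 6, 2, 4, 6, 4, 3, 6, 3, 4, 6, 3, 3, 4, 6, 3, 1, 1, 4, 5, 4, 5, 3, 1, 2, 5, 3, 6, 2, 3, 3, 4, 0, 1, 1],
  [6, 4, 1, 5, 5, 2, 6, 5, 0, 0, 5, 2, 5, 2, 2, 0, 1, 2, 4, 5, 3, 1, 1, 5, 6, 1, 3, 2, 4, 0, 0, 3, 0, 6, 2, 3, 5, 5, 5, 2, 6, 0, 0, 6, 6],
  [1, 6, 0, 4, 5, 3, 6, 5, 4, 1, 6, 6, 0, 4, 3, 0, 5, 2, 2, 0, 5, 5, 3, 0, 1, 5, 1, 5, 1, 3, 5, 3, 1, 4, 0, 2, 3, 4, 3, 4, 4, 1, 1, 2, 1],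
  [2, 4, 6, 6, 0, 4, 5, 0, 1, 3, 5, 1, 4, 3, 4, 2, 5, 3, 5, 1, 2, 2, 4, 1, 2, 3, 6, 2, 5, 4, 3, 6, 2, 3, 5, 6, 3, 6, 2, 3, 4, 1, 4, 1, 1],
  [0, 4, 4, 1, 5, 3, 2, 0, 5, 2, 6, 5, 2, 0, 2, 4, 0, 5, 4, 1, 5, 3, 4, 1, 5, 6, 3, 5, 1, 4, 6, 0, 2, 1, 5, 1, 3, 4, 3, 6, 0, 6, 3, 0, 2],
  [0, 0, 0, 0, 0, 0, 1, 5, 1, 0, 0, 0, 0, 0, 0, 0, 0, 0, 0, 0, 2, 0, 0, 4, 0, 0, 0, 0, 5, 0, 0, 0, 4, 0, 3, 0, 0, 0, 0, 0, 1, 1, 2, 2, 1],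
  [0, 0, 0, 0, 0, 0, 4, 0, 6, 0, 0, 0, 3, 0, 2, 6, 0, 0, 0, 4, 3, 0, 0, 5, 0, 0, 0, 1, 5, 1, 0, 0, 4, 0, 2, 0, 6, 0, 0, 0, 1, 5, 5, 4, 2],
  [0, 0, 0, 0, 0, 0, 2, 3, 3, 0, 0, 0, 1, 0, 5, 0, 0, 0, 0, 1, 5, 0, 0, 2, 0, 0, 0, 1, 6, 5, 0, 0, 5, 0, 2, 0, 6, 0, 0, 3, 4, 5, 2, 4, 3],
  [1, 2, 4, 6, 2, 0, 5, 3, 6, 1, 2, 3, 0, 6, 2, 6, 4, 3, 0, 2, 4, 5, 6, 1, 2, 5, 2, 0, 0, 2, 5, 2, 6, 2, 2, 3, 5, 2, 1, 0, 0, 5, 2, 4, 0],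
  [0, 1, 6, 2, 0, 4, 4, 6, 2, 6, 2, 0, 5, 4, 5, 3, 2, 3, 5, 0, 2, 0, 6, 0, 6, 3, 1, 6, 2, 2, 1, 2, 5, 1, 0, 2, 2, 0, 6, 4, 0, 2, 2, 6, 2],
  [2, 1, 5, 0, 6, 0, 5, 6, 0, 2, 0, 5, 2, 3, 2, 0, 0, 2, 3, 1, 0, 3, 4, 0, 2, 2, 6, 5, 6, 3, 4, 3, 5, 6, 2, 0, 6, 4, 6, 2, 3, 5, 0, 2, 5],
  [0, 0, 0, 0, 0, 0, 3, 4, 0, 0, 0, 0, 4, 0, 2, 1, 0, 0, 0, 0, 0, 0, 0, 0, 0, 0, 0, 6, 4, 1, 0, 0, 4, 0, 6, 0, 4, 0, 0, 0, 0, 3, 4, 0, 6],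
  [6, 4, 3, 1, 4, 6, 6, 2, 6, 2, 5, 2, 6, 5, 0, 5, 4, 2, 0, 4, 2, 4, 0, 0, 4, 3, 5, 5, 3, 6, 3, 1, 0, 2, 3, 5, 1, 6, 1, 0, 5, 3, 4, 2, 6],
  [0, 0, 0, 0, 0, 0, 5, 5, 4, 0, 0, 0, 0, 0, 0, 4, 0, 0, 0, 0, 6, 0, 0, 3, 0, 0, 0, 0, 2, 0, 0, 0, 0, 0, 0, 0, 3, 0, 0, 3, 5, 5, 5, 3, 0],
  [0, 0, 0, 0, 0, 0, 3, 2, 6, 0, 0, 0, 6, 0, 6, 4, 0, 0, 0, 3, 2, 0, 0, 0, 0, 0, 0, 3, 1, 2, 0, 0, 6, 0, 5, 0, 3, 0, 0, 3, 1, 0, 5, 5, 2],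
  [1, 4, 6, 0, 5, 2, 4, 6, 1, 4, 0, 3, 2, 5, 5, 0, 0, 2, 5, 4, 6, 1, 4, 6, 6, 1, 3, 6, 3, 0, 4, 1, 6, 1, 2, 4, 4, 1, 5, 1, 6, 3, 3, 1, 4],
  [3, 3, 3, 6, 6, 4, 6, 3, 3, 4, 0, 0, 4, 1, 1, 0, 1, 1, 0, 6, 3, 0, 1, 2, 1, 0, 6, 5, 6, 5, 1, 2, 4, 5, 0, 3, 5, 3, 3, 2, 1, 0, 0, 1, 3],
  [1, 5, 4, 6, 0, 5, 1, 0, 4, 1, 2, 6, 5, 2, 5, 2, 5, 1, 4, 1, 0, 5, 4, 4, 1, 2, 0, 3, 5, 5, 5, 3, 3, 0, 1, 0, 2, 6, 1, 5, 4, 5, 5, 6, 3],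
  [0, 0, 0, 0, 0, 0, 4, 5, 1, 0, 0, 0, 2, 0, 4, 4, 0, 0, 0, 5, 1, 0, 0, 1, 0, 0, 0, 4, 5, 2, 0, 0, 0, 0, 5, 0, 0, 0, 0, 1, 6, 1, 0, 6, 5],
  [0, 0, 0, 0, 0, 0, 0, 6, 1, 0, 0, 0, 6, 0, 6, 6, 0, 0, 0, 5, 0, 0, 0, 5, 0, 0, 0, 0, 0, 4, 0, 0, 2, 0, 5, 0, 1, 0, 0, 4, 2, 5, 2, 1, 2],
  [0, 2, 2, 6, 1, 2, 4, 2, 4, 1, 5, 0, 4, 0, 5, 4, 6, 4, 3, 1, 3, 3, 1, 1, 4, 5, 0, 5, 6, 0, 5, 0, 0, 2, 3, 0, 4, 3, 4, 2, 5, 3, 6, 6, 5],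
  [5, 5, 0, 5, 5, 2, 5, 3, 4, 2, 6, 6, 5, 3, 1, 4, 2, 1, 1, 0, 5, 0, 5, 1, 5, 2, 2, 3, 1, 6, 0, 2, 3, 5, 2, 5, 2, 1, 5, 2, 1, 2, 0, 2, 2],
  [0, 0, 0, 0, 0, 0, 5, 0, 0, 0, 0, 0, 2, 0, 0, 4, 0, 0, 0, 2, 6, 0, 0, 4, 0, 0, 0, 6, 0, 6, 0, 0, 1, 0, 2, 0, 1, 0, 0, 2, 1, 0, 3, 6, 5],
  [6, 1, 2, 5, 4, 3, 0, 3, 3, 6, 3, 3, 1, 3, 3, 1, 2, 1, 2, 4, 2, 6, 6, 6, 3, 3, 3, 2, 3, 4, 3, 2, 0, 1, 1, 0, 5, 2, 3, 6, 0, 3, 0, 4, 1],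
  [1, 5, 2, 4, 6, 6, 2, 3, 1, 6, 4, 2, 1, 4, 4, 4, 6, 0, 5, 0, 0, 2, 1, 3, 2, 0, 2, 3, 6, 6, 2, 5, 3, 4, 0, 0, 2, 5, 5, 3, 4, 1, 3, 2, 6],
  [4, 6, 1, 2, 4, 5, 0, 4, 6, 4, 2, 4, 1, 0, 3, 1, 0, 6, 1, 1, 0, 1, 3, 6, 2, 6, 2, 6, 6, 1, 2, 0, 0, 0, 0, 3, 5, 3, 1, 5, 3, 6, 0, 2, 6],
  [0, 0, 0, 0, 0, 0, 5, 0, 3, 0, 0, 0, 1, 0, 2, 5, 0, 0, 0, 6, 4, 0, 0, 6, 0, 0, 0, 2, 6, 0, 0, 0, 6, 0, 5, 0, 4, 0, 0, 2, 5, 2, 1, 2, 5],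
  [0, 0, 0, 0, 0, 0, 1, 3, 6, 0, 0, 0, 3, 0, 1, 1, 0, 0, 0, 3, 4, 0, 0, 0, 0, 0, 0, 3, 4, 1, 0, 0, 2, 0, 6, 0, 0, 0, 0, 3, 6, 6, 2, 2, 6],
  [0, 0, 0, 0, 0, 0, 0, 5, 4, 0, 0, 0, 5, 0, 4, 3, 0, 0, 0, 3, 2, 0, 0, 5, 0, 0, 0, 6, 3, 2, 0, 0, 1, 0, 3, 0, 5, 0, 0, 3, 3, 5, 3, 1, 6],
  [2, 5, 0, 5, 0, 3, 0, 2, 4, 2, 5, 5, 5, 5, 3, 4, 3, 1, 5, 0, 3, 2, 6, 3, 4, 3, 1, 1, 1, 4, 0, 2, 0, 1, 2, 6, 6, 1, 4, 1, 5, 0, 1, 3, 1],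
  [6, 5, 6, 3, 6, 6, 2, 3, 1, 4, 6, 5, 0, 1, 1, 5, 3, 4, 6, 6, 4, 4, 4, 6, 4, 1, 4, 0, 5, 6, 5, 3, 0, 0, 5, 4, 6, 3, 1, 2, 6, 4, 0, 5, 0],
  [0, 0, 0, 0, 0, 0, 1, 0, 0, 0, 0, 0, 2, 0, 4, 3, 0, 0, 0, 5, 5, 0, 0, 1, 0, 0, 0, 4, 1, 5, 0, 0, 5, 0, 3, 0, 1, 0, 0, 0, 1, 4, 5, 1, 1],
  [2, 0, 0, 5, 4, 1, 2, 1, 4, 2, 1, 4, 1, 5, 5, 0, 4, 6, 4, 1, 5, 3, 4, 4, 0, 2, 6, 0, 1, 2, 1, 1, 6, 3, 0, 2, 0, 5, 2, 1, 6, 1, 3, 6, 2],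
  [0, 0, 0, 0, 0, 0, 5, 3, 4, 0, 0, 0, 5, 0, 4, 2, 0, 0, 0, 6, 0, 0, 0, 6, 0, 0, 0, 1, 0, 5, 0, 0, 2, 0, 6, 0, 4, 0, 0, 0, 3, 0, 4, 1, 0],
  [0, 0, 3, 3, 4, 0, 2, 5, 2, 5, 2, 3, 5, 1, 5, 2, 0, 4, 0, 2, 6, 4, 3, 3, 6, 6, 6, 6, 6, 2, 2, 0, 5, 1, 0, 0, 3, 5, 1, 0, 2, 3, 2, 6, 1],
  [0, 0, 0, 0, 0, 0, 4, 4, 0, 0, 0, 0, 5, 0, 6, 2, 0, 0, 0, 4, 2, 0, 0, 0, 0, 0, 0, 2, 3, 1, 0, 0, 6, 0, 4, 0, 5, 0, 0, 2, 3, 4, 0, 2, 5],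
  [1, 3, 1, 2, 3, 3, 3, 4, 4, 6, 5, 2, 4, 5, 4, 5, 6, 1, 5, 4, 4, 1, 3, 0, 0, 4, 3, 6, 1, 1, 2, 5, 3, 4, 2, 6, 4, 6, 3, 1, 2, 4, 3, 4, 1],
  [2, 6, 5, 2, 4, 1, 1, 4, 4, 5, 3, 5, 0, 5, 0, 0, 2, 0, 3, 3, 1, 3, 5, 5, 1, 4, 2, 0, 2, 2, 1, 6, 6, 6, 6, 3, 2, 0, 6, 5, 5, 2, 4, 6, 3],
  [0, 0, 0, 0, 0, 0, 0, 0, 0, 0, 0, 0, 3, 0, 1, 0, 0, 0, 0, 0, 0, 0, 0, 0, 0, 0, 0, 1, 4, 5, 0, 0, 5, 0, 6, 0, 5, 0, 0, 3, 3, 6, 2, 1, 2],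
  [0, 0, 0, 0, 0, 0, 6, 6, 1, 0, 0, 0, 3, 0, 1, 6, 0, 0, 0, 4, 1, 0, 0, 1, 0, 0, 0, 6, 5, 2, 0, 0, 5, 0, 2, 0, 2, 0, 0, 2, 6, 4, 1, 6, 6],
  [0, 0, 0, 0, 0, 0, 0, 4, 3, 0, 0, 0, 3, 0, 1, 6, 0, 0, 0, 2, 4, 0, 0, 6, 0, 0, 0, 0, 1, 0, 0, 0, 3, 0, 0, 0, 1, 0, 0, 5, 4, 4, 3, 1, 4],
  [0, 0, 0, 0, 0, 0, 3, 1, 3, 0, 0, 0, 3, 0, 1, 5, 0, 0, 0, 2, 1, 0, 0, 5, 0, 0, 0, 0, 1, 0, 0, 0, 3, 0, 6, 0, 2, 0, 0, 2, 4, 4, 6, 2, 0],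
  [0, 0, 0, 0, 0, 0, 3, 4, 6, 0, 0, 0, 5, 0, 4, 3, 0, 0, 0, 1, 6, 0, 0, 5, 0, 0, 0, 0, 4, 0, 0, 0, 0, 0, 3, 0, 4, 0, 0, 3, 4, 1, 1, 2, 5],
  [0, 0, 0, 0, 0, 0, 0, 0, 0, 0, 0, 0, 3, 0, 1, 0, 0, 0, 0, 2, 0, 0, 0, 0, 0, 0, 0, 0, 1, 0, 0, 0, 3, 0, 4, 0, 0, 0, 0, 1, 4, 0, 0, 0, 1]]

theorem s44_1 : List.foldl (fun P x => mulT P (T x)) m44_0 [1, 2, 3, 6] = m44_1 := by decide +kernel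

/-- an intermediate product -/
def m44_2 : LM := [
  [6, 0, 5, 1, 1, 5, 4, 4, 5, 3, 5, 6, 4, 6, 6, 4, 5, 0, 3, 0, 0, 3, 6, 1, 2, 5, 1, 2, 6, 5, 0, 0, 1, 1, 6, 1, 2, 4, 6, 0, 0, 6, 4, 6, 4],
  [4, 2, 4, 2, 5, 1, 6, 3, 6, 0, 2, 3, 5, 1, 4, 5, 3, 3, 5, 3, 4, 2, 5, 6, 1, 2, 4, 0, 5, 2, 2, 5, 5, 4, 1, 4, 5, 6, 0, 1, 2, 5, 1, 1, 0],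
  [6, 5, 3, 3, 3, 4, 5, 3, 1, 6, 5, 4, 0, 4, 2, 6, 4, 6, 5, 4, 5, 6, 2, 3, 0, 3, 0, 0, 3, 3, 2, 3, 2, 2, 3, 4, 4, 4, 1, 1, 6, 1, 0, 1, 5],
  [0, 4, 5, 4, 3, 3, 5, 6, 3, 0, 6, 4, 1, 3, 6, 3, 5, 6, 4, 4, 6, 6, 1, 1, 1, 1, 6, 6, 1, 2, 6, 2, 2, 5, 6, 1, 2, 3, 0, 1, 2, 5, 6, 3, 1],
  [0, 3, 5, 0, 2, 4, 2, 5, 1, 1, 4, 4, 0, 0, 4, 4, 5, 0, 1, 5, 6, 2, 2, 2, 4, 0, 1, 6, 3, 4, 2, 4, 0, 6, 5, 2, 4, 5, 5, 0, 2, 4, 1, 6, 4],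
  [2, 6, 4, 3, 2, 1, 1, 2, 6, 5, 3, 3, 5, 6, 4, 4, 1, 0, 6, 2, 0, 2, 4, 5, 4, 1, 4, 2, 3, 2, 6, 3, 6, 0, 3, 2, 4, 3, 4, 1, 6, 6, 1, 0, 2],
  [0, 0, 0, 0, 0, 0, 0, 0, 2, 0, 0, 0, 5, 0, 4, 0, 0, 0, 0, 5, 4, 0, 0, 3, 0, 0, 0, 5, 2, 1, 0, 0, 1, 0, 3, 0, 4, 0, 0, 4, 6, 6, 2, 6, 6],
  [0, 0, 0, 0, 0, 0, 0, 5, 4, 0, 0, 0, 1, 0, 3, 0, 0, 0, 0, 6, 0, 0, 0, 1, 0, 0, 0, 2, 6, 2, 0, 0, 0, 0, 1, 0, 1, 0, 0, 1, 6, 4, 0, 6, 0],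
  [0, 0, 0, 0, 0, 0, 3, 3, 2, 0, 0, 0, 3, 0, 5, 5, 0, 0, 0, 3, 2, 0, 0, 3, 0, 0, 0, 3, 0, 1, 0, 0, 4, 0, 0, 0, 3, 0, 0, 5, 2, 3, 5, 5, 6],
  [1, 6, 2, 3, 5, 1, 2, 0, 5, 6, 1, 5, 6, 1, 0, 3, 6, 4, 0, 5, 0, 4, 0, 3, 3, 0, 3, 4, 3, 4, 4, 5, 1, 5, 0, 0, 4, 3, 1, 1, 2, 4, 6, 1, 5],
  [0, 2, 5, 5, 1, 2, 2, 6, 2, 5, 2, 3, 3, 3, 2, 5, 1, 6, 0, 2, 3, 6, 2, 5, 3, 3, 0, 2, 1, 5, 3, 5, 5, 4, 5, 0, 1, 6, 4, 2, 5, 0, 5, 3, 6],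
  [1, 5, 5, 5, 5, 4, 4, 2, 0, 2, 3, 0, 4, 6, 3, 1, 6, 3, 0, 4, 2, 1, 2, 0, 6, 1, 6, 0, 2, 2, 1, 0, 5, 4, 3, 1, 0, 5, 5, 4, 6, 6, 6, 2, 0],
  [0, 0, 0, 0, 0, 0, 6, 0, 4, 0, 0, 0, 3, 0, 2, 3, 0, 0, 0, 4, 5, 0, 0, 3, 0, 0, 0, 5, 3, 2, 0, 0, 4, 0, 1, 0, 2, 0, 0, 0, 5, 4, 5, 4, 2],
  [2, 1, 5, 1, 1, 6, 4, 0, 5, 1, 3, 1, 5, 4, 1, 5, 4, 6, 2, 5, 3, 5, 5, 2, 3, 6, 3, 0, 0, 5, 5, 0, 5, 3, 6, 1, 5, 4, 0, 2, 1, 1, 4, 3, 0],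
  [0, 0, 0, 0, 0, 0, 0, 0, 5, 0, 0, 0, 0, 0, 0, 0, 0, 0, 0, 1, 3, 0, 0, 4, 0, 0, 0, 0, 1, 2, 0, 0, 4, 0, 5, 0, 3, 0, 0, 3, 1, 4, 0, 3, 0],
  [0, 0, 0, 0, 0, 0, 3, 2, 0, 0, 0, 0, 0, 0, 5, 5, 0, 0, 0, 0, 6, 0, 0, 3, 0, 0, 0, 0, 6, 4, 0, 0, 4, 0, 5, 0, 4, 0, 0, 1, 2, 4, 6, 0, 3],
  [5, 3, 0, 3, 4, 4, 1, 5, 1, 3, 0, 2, 1, 0, 2, 5, 5, 6, 2, 6, 1, 4, 6, 0, 3, 3, 4, 6, 5, 5, 4, 3, 0, 1, 1, 4, 3, 3, 0, 0, 0, 3, 6, 2, 2],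
  [0, 1, 3, 3, 1, 5, 1, 1, 2, 3, 0, 2, 4, 1, 0, 0, 4, 0, 1, 2, 6, 2, 6, 6, 1, 2, 4, 1, 2, 4, 6, 0, 1, 1, 1, 3, 0, 4, 1, 0, 6, 3, 6, 6, 0],
  [2, 3, 3, 3, 2, 3, 1, 6, 3, 4, 5, 1, 1, 6, 3, 5, 6, 0, 5, 5, 4, 5, 0, 6, 5, 6, 2, 3, 6, 0, 2, 0, 3, 4, 5, 4, 2, 6, 5, 0, 0, 6, 4, 2, 4],
  [0, 0, 0, 0, 0, 0, 1, 5, 0, 0, 0, 0, 2, 0, 0, 2, 0, 0, 0, 2, 0, 0, 0, 2, 0, 0, 0, 5, 5, 3, 0, 0, 2, 0, 6, 0, 6, 0, 0, 3, 3, 2, 0, 2, 2],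
  [0, 0, 0, 0, 0, 0, 0, 5, 6, 0, 0, 0, 2, 0, 1, 5, 0, 0, 0, 2, 4, 0, 0, 0, 0, 0, 0, 2, 5, 1, 0, 0, 3, 0, 6, 0, 5, 0, 0, 5, 6, 4, 4, 0, 6],
  [1, 6, 6, 2, 0, 4, 1, 2, 4, 6, 6, 1, 3, 0, 4, 0, 1, 2, 4, 1, 3, 6, 1, 2, 5, 5, 1, 3, 3, 1, 3, 5, 0, 5, 0, 1, 4, 5, 5, 5, 5, 5, 1, 2, 4],
  [0, 4, 0, 3, 4, 2, 4, 3, 5, 1, 2, 4, 1, 3, 3, 0, 5, 3, 6, 0, 3, 3, 0, 2, 5, 6, 4, 1, 4, 3, 6, 5, 2, 1, 5, 6, 4, 5, 0, 3, 4, 0, 3, 1, 3],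
  [0, 0, 0, 0, 0, 0, 4, 5, 5, 0, 0, 0, 2, 0, 0, 6, 0, 0, 0, 5, 4, 0, 0, 2, 0, 0, 0, 4, 6, 5, 0, 0, 4, 0, 4, 0, 0, 0, 0, 1, 2, 0, 2, 4, 4],
  [0, 2, 0, 0, 1, 0, 6, 3, 0, 5, 3, 5, 3, 2, 0, 3, 6, 0, 2, 5, 0, 6, 4, 1, 0, 1, 3, 6, 3, 2, 1, 0, 0, 6, 5, 3, 6, 6, 0, 0, 1, 3, 3, 5, 5],
  [6, 5, 2, 2, 3, 2, 4, 5, 2, 4, 4, 6, 1, 5, 2, 3, 6, 0, 5, 5, 4, 2, 2, 2, 2, 0, 0, 4, 2, 1, 5, 5, 1, 5, 2, 3, 5, 5, 2, 0, 1, 0, 4, 4, 5],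
  [1, 6, 5, 0, 5, 4, 3, 1, 6, 1, 5, 2, 0, 5, 2, 5, 0, 0, 1, 2, 3, 1, 4, 6, 2, 4, 1, 5, 4, 1, 4, 6, 0, 1, 2, 6, 0, 0, 0, 3, 3, 6, 5, 5, 0],
  [0, 0, 0, 0, 0, 0, 4, 6, 2, 0, 0, 0, 0, 0, 4, 1, 0, 0, 0, 4, 6, 0, 0, 1, 0, 0, 0, 5, 2, 4, 0, 0, 2, 0, 5, 0, 3, 0, 0, 2, 6, 1, 6, 0, 6],
  [0, 0, 0, 0, 0, 0, 2, 2, 6, 0, 0, 0, 0, 0, 3, 1, 0, 0, 0, 2, 6, 0, 0, 2, 0, 0, 0, 6, 5, 1, 0, 0, 4, 0, 2, 0, 1, 0, 0, 5, 5, 4, 0, 2, 4],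
  [0, 0, 0, 0, 0, 0, 4, 5, 3, 0, 0, 0, 2, 0, 6, 4, 0, 0, 0, 4, 1, 0, 0, 1, 0, 0, 0, 5, 5, 3, 0, 0, 3, 0, 6, 0, 4, 0, 0, 4, 1, 1, 3, 1, 0],
  [0, 0, 6, 1, 5, 2, 6, 3, 3, 0, 1, 4, 3, 6, 3, 5, 4, 6, 5, 4, 6, 4, 0, 4, 6, 6, 0, 6, 3, 3, 5, 1, 0, 0, 6, 0, 0, 0, 3, 6, 4, 0, 3, 6, 0],
  [3, 4, 6, 1, 0, 6, 0, 1, 1, 3, 6, 3, 5, 0, 3, 6, 5, 6, 3, 1, 3, 3, 2, 4, 5, 1, 0, 5, 5, 1, 3, 4, 2, 2, 3, 5, 2, 3, 0, 5, 1, 0, 1, 6, 1],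
  [0, 0, 0, 0, 0, 0, 1, 5, 5, 0, 0, 0, 0, 0, 2, 2, 0, 0, 0, 6, 4, 0, 0, 1, 0, 0, 0, 4, 5, 4, 0, 0, 0, 0, 1, 0, 4, 0, 0, 6, 3, 2, 0, 0, 5],
  [3, 3, 2, 0, 4, 0, 1, 4, 5, 4, 3, 1, 5, 2, 4, 0, 5, 0, 0, 0, 1, 0, 0, 6, 0, 5, 5, 3, 2, 5, 6, 5, 0, 4, 3, 5, 6, 1, 0, 2, 6, 6, 4, 6, 3],
  [0, 0, 0, 0, 0, 0, 3, 6, 1, 0, 0, 0, 6, 0, 4, 4, 0, 0, 0, 6, 0, 0, 0, 5, 0, 0, 0, 6, 6, 0, 0, 0, 5, 0, 6, 0, 5, 0, 0, 0, 0, 4, 2, 2, 6],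
  [4, 5, 0, 6, 3, 0, 3, 2, 0, 3, 0, 1, 3, 5, 3, 1, 1, 4, 6, 5, 3, 6, 1, 6, 3, 2, 4, 3, 6, 1, 1, 0, 1, 4, 4, 4, 0, 1, 2, 4, 6, 5, 6, 6, 0],
  [0, 0, 0, 0, 0, 0, 5, 6, 3, 0, 0, 0, 0, 0, 0, 2, 0, 0, 0, 1, 6, 0, 0, 2, 0, 0, 0, 3, 2, 1, 0, 0, 3, 0, 3, 0, 4, 0, 0, 1, 3, 3, 1, 2, 6],
  [3, 0, 3, 4, 6, 1, 0, 5, 3, 0, 5, 4, 5, 4, 2, 1, 2, 3, 4, 5, 2, 5, 2, 3, 6, 4, 4, 5, 1, 5, 3, 1, 6, 0, 3, 2, 3, 5, 1, 4, 2, 0, 5, 5, 2],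
  [6, 0, 5, 1, 6, 3, 1, 4, 3, 3, 1, 0, 1, 2, 0, 3, 0, 6, 5, 1, 1, 5, 3, 6, 2, 0, 1, 0, 1, 6, 6, 3, 1, 0, 5, 3, 6, 1, 0, 4, 4, 5, 3, 2, 0],
  [0, 0, 0, 0, 0, 0, 3, 1, 4, 0, 0, 0, 4, 0, 3, 1, 0, 0, 0, 6, 6, 0, 0, 6, 0, 0, 0, 3, 1, 4, 0, 0, 1, 0, 3, 0, 0, 0, 0, 2, 1, 3, 4, 4, 0],
  [0, 0, 0, 0, 0, 0, 4, 0, 1, 0, 0, 0, 0, 0, 5, 1, 0, 0, 0, 5, 4, 0, 0, 5, 0, 0, 0, 1, 3, 0, 0, 0, 6, 0, 2, 0, 4, 0, 0, 2, 3, 5, 6, 2, 0],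
  [0, 0, 0, 0, 0, 0, 0, 4, 6, 0, 0, 0, 6, 0, 4, 1, 0, 0, 0, 6, 5, 0, 0, 2, 0, 0, 0, 6, 6, 0, 0, 0, 5, 0, 5, 0, 1, 0, 0, 1, 3, 2, 0, 4, 0],
  [0, 0, 0, 0, 0, 0, 0, 4, 6, 0, 0, 0, 4, 0, 3, 1, 0, 0, 0, 1, 5, 0, 0, 2, 0, 0, 0, 2, 5, 6, 0, 0, 2, 0, 0, 0, 2, 0, 0, 2, 3, 5, 4, 2, 0],
  [0, 0, 0, 0, 0, 0, 0, 2, 3, 0, 0, 0, 6, 0, 3, 4, 0, 0, 0, 1, 6, 0, 0, 1, 0, 0, 0, 5, 3, 3, 0, 0, 3, 0, 3, 0, 5, 0, 0, 0, 6, 5, 4, 0, 0],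
  [0, 0, 0, 0, 0, 0, 0, 4, 6, 0, 0, 0, 1, 0, 2, 1, 0, 0, 0, 4, 5, 0, 0, 2, 0, 0, 0, 3, 0, 4, 0, 0, 1, 0, 3, 0, 0, 0, 0, 0, 0, 1, 5, 1, 0]]

theorem s44_2 : List.foldl (fun P x => mulT P (T x)) m44_1 [1, 2, 3, 6] = m44_2 := by decide +kernel

/-- an intermediate product -/
def m44_3 : LM := [
  [1, 3, 1, 0, 2, 5, 0, 1, 1, 2, 1, 4, 0, 1, 0, 3, 2, 4, 4, 3, 6, 3, 2, 0, 0, 0, 0, 0, 0, 0, 2, 6, 1, 6, 0, 6, 5, 6, 3, 0, 6, 4, 1, 1, 1],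
  [3, 0, 1, 4, 6, 0, 3, 4, 5, 0, 0, 0, 0, 0, 0, 5, 3, 0, 4, 0, 0, 5, 0, 0, 0, 0, 0, 0, 0, 0, 0, 0, 5, 4, 1, 4, 1, 4, 6, 2, 4, 6, 6, 4, 4],
  [6, 5, 2, 4, 3, 3, 3, 0, 2, 2, 1, 6, 5, 2, 2, 5, 1, 3, 3, 3, 5, 2, 1, 3, 0, 0, 0, 0, 0, 0, 1, 2, 1, 3, 4, 4, 4, 6, 5, 0, 0, 3, 4, 0, 4],
  [6, 3, 2, 5, 1, 4, 1, 2, 5, 4, 4, 5, 4, 1, 0, 4, 5, 3, 2, 4, 5, 6, 3, 4, 0, 0, 0, 0, 0, 0, 2, 1, 6, 6, 4, 1, 4, 4, 0, 3, 0, 2, 4, 2, 6],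
  [6, 4, 3, 0, 5, 1, 6, 1, 6, 3, 5, 5, 6, 5, 2, 5, 3, 0, 6, 5, 2, 2, 1, 2, 0, 0, 0, 0, 0, 0, 5, 6, 3, 6, 0, 5, 0, 2, 5, 0, 0, 3, 4, 1, 0],
  [6, 1, 2, 1, 1, 3, 5, 5, 6, 6, 3, 5, 6, 5, 5, 0, 5, 5, 2, 1, 4, 3, 5, 1, 0, 0, 0, 0, 0, 0, 2, 0, 6, 4, 3, 4, 3, 3, 1, 3, 1, 1, 5, 3, 4],
  [0, 0, 0, 0, 0, 0, 1, 1, 2, 0, 0, 0, 1, 0, 3, 4, 0, 0, 0, 1, 0, 0, 0, 1, 0, 0, 0, 0, 0, 0, 0, 0, 6, 0, 5, 0, 3, 0, 0, 3, 0, 0, 0, 0, 2],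
  [0, 0, 0, 0, 0, 0, 0, 4, 5, 0, 0, 0, 1, 0, 3, 0, 0, 0, 0, 6, 1, 0, 0, 1, 0, 0, 0, 0, 0, 0, 0, 0, 6, 0, 3, 0, 3, 0, 0, 4, 5, 1, 3, 3, 2],
  [0, 0, 0, 0, 0, 0, 0, 1, 3, 0, 0, 0, 0, 0, 0, 4, 0, 0, 0, 0, 0, 0, 0, 1, 0, 0, 0, 6, 6, 0, 0, 0, 1, 0, 3, 0, 0, 0, 0, 3, 3, 0, 4, 1, 3],
  [4, 0, 5, 3, 1, 2, 2, 4, 3, 0, 0, 0, 0, 0, 0, 5, 6, 2, 1, 0, 4, 2, 6, 3, 0, 0, 0, 0, 0, 0, 3, 5, 1, 6, 2, 4, 1, 5, 5, 1, 2, 1, 3, 2, 0],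
  [0, 0, 1, 6, 5, 0, 3, 0, 4, 0, 0, 0, 0, 0, 0, 6, 4, 1, 6, 0, 6, 4, 5, 1, 0, 0, 0, 0, 0, 0, 4, 2, 1, 3, 6, 3, 5, 6, 3, 4, 6, 4, 3, 2, 1],
  [0, 0, 4, 4, 5, 3, 1, 3, 4, 0, 0, 0, 0, 0, 0, 5, 5, 5, 4, 0, 6, 3, 4, 6, 0, 0, 0, 0, 0, 0, 2, 5, 0, 5, 4, 6, 2, 2, 6, 2, 6, 6, 3, 2, 1],
  [0, 0, 0, 0, 0, 0, 0, 5, 6, 0, 0, 0, 0, 0, 0, 0, 0, 0, 0, 0, 6, 0, 0, 3, 0, 0, 0, 0, 0, 0, 0, 0, 1, 0, 5, 0, 4, 0, 0, 3, 0, 6, 4, 6, 6],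
  [3, 0, 2, 5, 0, 5, 1, 2, 1, 0, 0, 0, 0, 0, 0, 6, 1, 3, 2, 0, 4, 6, 2, 3, 0, 0, 0, 0, 0, 0, 4, 4, 5, 0, 0, 2, 0, 3, 4, 4, 2, 3, 2, 6, 5],
  [0, 0, 0, 0, 0, 0, 2, 5, 2, 0, 0, 0, 0, 0, 0, 0, 0, 0, 0, 0, 0, 0, 0, 2, 0, 0, 0, 0, 0, 0, 0, 0, 2, 0, 5, 0, 2, 0, 0, 3, 3, 3, 0, 0, 6],
  [0, 0, 0, 0, 0, 0, 1, 4, 0, 0, 0, 0, 1, 0, 6, 2, 0, 0, 0, 5, 6, 0, 0, 5, 0, 0, 0, 0, 0, 0, 0, 0, 6, 0, 0, 0, 4, 0, 0, 6, 2, 6, 6, 5, 6],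
  [2, 0, 0, 4, 4, 6, 4, 2, 6, 0, 0, 0, 0, 0, 0, 6, 3, 6, 4, 0, 5, 0, 5, 6, 0, 3, 2, 3, 0, 3, 4, 0, 1, 1, 0, 3, 6, 5, 2, 1, 0, 2, 6, 5, 2],
  [6, 0, 3, 4, 3, 3, 4, 1, 1, 0, 0, 0, 0, 0, 0, 0, 4, 4, 5, 0, 1, 3, 6, 0, 4, 4, 6, 2, 4, 5, 5, 3, 3, 0, 1, 3, 2, 6, 3, 1, 6, 0, 4, 6, 6],
  [0, 0, 3, 6, 2, 6, 3, 6, 4, 0, 0, 0, 0, 0, 0, 6, 2, 3, 5, 0, 2, 5, 3, 0, 0, 5, 6, 3, 2, 5, 4, 1, 2, 0, 3, 5, 5, 1, 1, 4, 6, 2, 6, 0, 4],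
  [0, 0, 0, 0, 0, 0, 4, 5, 2, 0, 0, 0, 0, 0, 0, 6, 0, 0, 0, 0, 3, 0, 0, 0, 0, 0, 0, 0, 0, 0, 0, 0, 0, 0, 6, 0, 4, 0, 0, 5, 4, 4, 5, 1, 5],
  [0, 0, 0, 0, 0, 0, 0, 3, 1, 0, 0, 0, 0, 0, 0, 5, 0, 0, 0, 0, 2, 0, 0, 6, 0, 0, 0, 5, 5, 4, 0, 0, 6, 0, 1, 0, 2, 0, 0, 6, 2, 6, 1, 1, 2],
  [4, 0, 6, 6, 3, 1, 2, 6, 2, 0, 0, 0, 0, 0, 0, 3, 1, 3, 6, 0, 4, 6, 1, 0, 5, 0, 0, 1, 2, 0, 1, 0, 0, 4, 5, 0, 4, 6, 3, 2, 4, 5, 0, 1, 0],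
  [4, 0, 2, 3, 1, 2, 3, 1, 4, 0, 0, 0, 0, 0, 0, 2, 6, 3, 2, 0, 4, 1, 4, 1, 6, 3, 4, 3, 0, 3, 2, 6, 1, 5, 0, 1, 2, 5, 3, 4, 3, 6, 3, 5, 0],
  [0, 0, 0, 0, 0, 0, 3, 6, 0, 0, 0, 0, 0, 0, 0, 6, 0, 0, 0, 0, 1, 0, 0, 4, 0, 0, 0, 1, 3, 4, 0, 0, 3, 0, 1, 0, 0, 0, 0, 3, 2, 1, 2, 2, 2],
  [0, 0, 2, 1, 0, 2, 4, 3, 6, 0, 0, 0, 0, 0, 0, 0, 4, 1, 0, 0, 1, 4, 3, 5, 0, 0, 0, 0, 0, 0, 2, 2, 0, 5, 0, 5, 0, 0, 1, 2, 1, 3, 3, 0, 4],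
  [3, 0, 0, 4, 3, 1, 3, 3, 1, 0, 0, 0, 0, 0, 0, 0, 2, 0, 1, 0, 3, 6, 1, 5, 0, 0, 0, 0, 0, 0, 5, 5, 5, 2, 4, 1, 4, 1, 6, 0, 4, 3, 4, 2, 0],
  [0, 0, 2, 2, 5, 2, 3, 6, 2, 0, 0, 0, 0, 0, 0, 1, 3, 0, 3, 0, 5, 2, 2, 6, 0, 0, 0, 0, 0, 0, 2, 3, 2, 4, 1, 3, 5, 2, 6, 0, 3, 0, 2, 4, 0],
  [0, 0, 0, 0, 0, 0, 6, 5, 3, 0, 0, 0, 0, 0, 0, 3, 0, 0, 0, 0, 3, 0, 0, 1, 0, 0, 0, 0, 0, 0, 0, 0, 6, 0, 5, 0, 6, 0, 0, 0, 6, 3, 0, 1, 3],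
  [0, 0, 0, 0, 0, 0, 6, 4, 3, 0, 0, 0, 0, 0, 0, 4, 0, 0, 0, 0, 3, 0, 0, 5, 0, 0, 0, 0, 0, 0, 0, 0, 5, 0, 4, 0, 3, 0, 0, 5, 0, 6, 4, 4, 1],
  [0, 0, 0, 0, 0, 0, 5, 3, 2, 0, 0, 0, 0, 0, 0, 0, 0, 0, 0, 0, 3, 0, 0, 0, 0, 0, 0, 0, 0, 0, 0, 0, 6, 0, 3, 0, 0, 0, 0, 6, 6, 3, 3, 6, 5],
  [0, 0, 3, 2, 5, 1, 6, 1, 4, 0, 0, 0, 0, 0, 0, 2, 6, 5, 0, 0, 2, 5, 0, 6, 0, 0, 0, 0, 0, 0, 6, 6, 3, 3, 4, 6, 1, 1, 3, 3, 5, 2, 3, 0, 2],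
  [0, 0, 1, 2, 1, 1, 1, 2, 6, 0, 0, 0, 0, 0, 0, 6, 0, 6, 0, 0, 2, 3, 5, 0, 0, 0, 0, 0, 0, 0, 1, 3, 5, 3, 6, 2, 5, 1, 2, 1, 1, 6, 6, 5, 2],
  [0, 0, 0, 0, 0, 0, 4, 5, 3, 0, 0, 0, 0, 0, 0, 5, 0, 0, 0, 0, 2, 0, 0, 2, 0, 0, 0, 0, 0, 0, 0, 0, 4, 0, 3, 0, 6, 0, 0, 0, 5, 0, 6, 5, 6],
  [0, 0, 4, 2, 2, 6, 1, 3, 0, 0, 0, 0, 0, 0, 0, 3, 5, 1, 3, 0, 0, 2, 0, 5, 0, 0, 0, 0, 0, 0, 6, 1, 4, 1, 1, 1, 5, 1, 4, 1, 6, 0, 2, 4, 1],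
  [0, 0, 0, 0, 0, 0, 3, 0, 4, 0, 0, 0, 0, 0, 0, 0, 0, 0, 0, 0, 0, 0, 0, 0, 0, 0, 0, 0, 0, 0, 0, 0, 6, 0, 5, 0, 4, 0, 0, 6, 3, 0, 4, 1, 1],
  [5, 0, 4, 4, 2, 0, 1, 4, 0, 0, 0, 0, 0, 0, 0, 1, 1, 5, 1, 0, 2, 5, 5, 1, 0, 0, 0, 0, 0, 0, 0, 4, 6, 3, 3, 1, 0, 0, 0, 5, 4, 3, 3, 6, 0],
  [0, 0, 0, 0, 0, 0, 2, 5, 1, 0, 0, 0, 0, 0, 0, 0, 0, 0, 0, 0, 3, 0, 0, 5, 0, 0, 0, 0, 0, 0, 0, 0, 4, 0, 3, 0, 4, 0, 0, 0, 4, 0, 2, 4, 6],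
  [0, 0, 4, 3, 4, 4, 0, 6, 1, 0, 0, 0, 0, 0, 0, 4, 4, 5, 1, 0, 0, 5, 0, 5, 0, 0, 0, 0, 0, 0, 4, 0, 2, 2, 2, 0, 5, 2, 4, 1, 6, 0, 6, 5, 3],
  [1, 0, 0, 6, 6, 4, 0, 0, 4, 0, 0, 0, 0, 0, 0, 4, 4, 6, 2, 0, 2, 4, 1, 6, 0, 0, 0, 0, 0, 0, 5, 1, 3, 0, 6, 0, 3, 5, 3, 0, 5, 6, 2, 4, 6],
  [0, 0, 0, 0, 0, 0, 0, 0, 3, 0, 0, 0, 0, 0, 0, 2, 0, 0, 0, 0, 1, 0, 0, 3, 0, 0, 0, 0, 0, 0, 0, 0, 4, 0, 5, 0, 0, 0, 0, 5, 4, 0, 4, 2, 1],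
  [0, 0, 0, 0, 0, 0, 4, 1, 1, 0, 0, 0, 0, 0, 0, 2, 0, 0, 0, 0, 3, 0, 0, 4, 0, 0, 0, 0, 0, 0, 0, 0, 0, 0, 0, 0, 4, 0, 0, 2, 2, 3, 3, 6, 5],
  [0, 0, 0, 0, 0, 0, 3, 0, 4, 0, 0, 0, 0, 0, 0, 0, 0, 0, 0, 0, 0, 0, 0, 0, 0, 0, 0, 0, 0, 0, 0, 0, 5, 0, 2, 0, 0, 0, 0, 2, 5, 0, 0, 0, 0],
  [0, 0, 0, 0, 0, 0, 4, 3, 5, 0, 0, 0, 0, 0, 0, 2, 0, 0, 0, 0, 0, 0, 0, 6, 0, 0, 0, 0, 0, 0, 0, 0, 6, 0, 3, 0, 6, 0, 0, 4, 2, 0, 0, 0, 5],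
  [0, 0, 0, 0, 0, 0, 4, 5, 4, 0, 0, 0, 0, 0, 0, 1, 0, 0, 0, 0, 0, 0, 0, 3, 0, 0, 0, 0, 0, 0, 0, 0, 4, 0, 4, 0, 3, 0, 0, 3, 2, 0, 0, 0, 4],
  [0, 0, 0, 0, 0, 0, 0, 3, 4, 0, 0, 0, 0, 0, 0, 1, 0, 0, 0, 0, 3, 0, 0, 1, 0, 0, 0, 0, 0, 0, 0, 0, 2, 0, 1, 0, 5, 0, 0, 6, 6, 0, 0, 0, 1]]

theorem s44_3 : List.foldl (fun P x => mulT P (T x)) m44_2 [1, 2, 3, 6] = m44_3 := by decide +kernel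

/-- an intermediate product -/
def m44_4 : LM := [
  [4, 0, 0, 0, 0, 0, 0, 0, 0, 0, 0, 0, 0, 0, 0, 0, 0, 0, 0, 0, 0, 0, 0, 0, 0, 0, 0, 0, 0, 0, 0, 0, 0, 0, 0, 0, 0, 0, 0, 0, 0, 0, 0, 0, 0],
  [0, 4, 0, 0, 0, 0, 0, 0, 0, 0, 0, 0, 0, 0, 0, 0, 0, 0, 0, 0, 0, 0, 0, 0, 0, 0, 0, 0, 0, 0, 0, 0, 0, 0, 0, 0, 0, 0, 0, 0, 0, 0, 0, 0, 0],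
  [0, 0, 4, 0, 0, 0, 0, 0, 0, 0, 0, 0, 0, 0, 0, 0, 0, 0, 0, 0, 0, 0, 0, 0, 0, 0, 0, 0, 0, 0, 0, 0, 0, 0, 0, 0, 0, 0, 0, 0, 0, 0, 0, 0, 0],
  [0, 0, 0, 4, 0, 0, 0, 0, 0, 0, 0, 0, 0, 0, 0, 0, 0, 0, 0, 0, 0, 0, 0, 0, 0, 0, 0, 0, 0, 0, 0, 0, 0, 0, 0, 0, 0, 0, 0, 0, 0, 0, 0, 0, 0],
  [0, 0, 0, 0, 4, 0, 0, 0, 0, 0, 0, 0, 0, 0, 0, 0, 0, 0, 0, 0, 0, 0, 0, 0, 0, 0, 0, 0, 0, 0, 0, 0, 0, 0, 0, 0, 0, 0, 0, 0, 0, 0, 0, 0, 0],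
  [0, 0, 0, 0, 0, 4, 0, 0, 0, 0, 0, 0, 0, 0, 0, 0, 0, 0, 0, 0, 0, 0, 0, 0, 0, 0, 0, 0, 0, 0, 0, 0, 0, 0, 0, 0, 0, 0, 0, 0, 0, 0, 0, 0, 0],
  [0, 0, 0, 0, 0, 0, 4, 0, 0, 0, 0, 0, 0, 0, 0, 0, 0, 0, 0, 0, 0, 0, 0, 0, 0, 0, 0, 0, 0, 0, 0, 0, 0, 0, 0, 0, 0, 0, 0, 0, 0, 0, 0, 0, 0],
  [0, 0, 0, 0, 0, 0, 0, 4, 0, 0, 0, 0, 0, 0, 0, 0, 0, 0, 0, 0, 0, 0, 0, 0, 0, 0, 0, 0, 0, 0, 0, 0, 0, 0, 0, 0, 0, 0, 0, 0, 0, 0, 0, 0, 0],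
  [0, 0, 0, 0, 0, 0, 0, 0, 4, 0, 0, 0, 0, 0, 0, 0, 0, 0, 0, 0, 0, 0, 0, 0, 0, 0, 0, 0, 0, 0, 0, 0, 0, 0, 0, 0, 0, 0, 0, 0, 0, 0, 0, 0, 0],
  [0, 0, 0, 0, 0, 0, 0, 0, 0, 4, 0, 0, 0, 0, 0, 0, 0, 0, 0, 0, 0, 0, 0, 0, 0, 0, 0, 0, 0, 0, 0, 0, 0, 0, 0, 0, 0, 0, 0, 0, 0, 0, 0, 0, 0],
  [0, 0, 0, 0, 0, 0, 0, 0, 0, 0, 4, 0, 0, 0, 0, 0, 0, 0, 0, 0, 0, 0, 0, 0, 0, 0, 0, 0, 0, 0, 0, 0, 0, 0, 0, 0, 0, 0, 0, 0, 0, 0, 0, 0, 0],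
  [0, 0, 0, 0, 0, 0, 0, 0, 0, 0, 0, 4, 0, 0, 0, 0, 0, 0, 0, 0, 0, 0, 0, 0, 0, 0, 0, 0, 0, 0, 0, 0, 0, 0, 0, 0, 0, 0, 0, 0, 0, 0, 0, 0, 0],
  [0, 0, 0, 0, 0, 0, 0, 0, 0, 0, 0, 0, 4, 0, 0, 0, 0, 0, 0, 0, 0, 0, 0, 0, 0, 0, 0, 0, 0, 0, 0, 0, 0, 0, 0, 0, 0, 0, 0, 0, 0, 0, 0, 0, 0],
  [0, 0, 0, 0, 0, 0, 0, 0, 0, 0, 0, 0, 0, 4, 0, 0, 0, 0, 0, 0, 0, 0, 0, 0, 0, 0, 0, 0, 0, 0, 0, 0, 0, 0, 0, 0, 0, 0, 0, 0, 0, 0, 0, 0, 0],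
  [0, 0, 0, 0, 0, 0, 0, 0, 0, 0, 0, 0, 0, 0, 4, 0, 0, 0, 0, 0, 0, 0, 0, 0, 0, 0, 0, 0, 0, 0, 0, 0, 0, 0, 0, 0, 0, 0, 0, 0, 0, 0, 0, 0, 0],
  [0, 0, 0, 0, 0, 0, 0, 0, 0, 0, 0, 0, 0, 0, 0, 4, 0, 0, 0, 0, 0, 0, 0, 0, 0, 0, 0, 0, 0, 0, 0, 0, 0, 0, 0, 0, 0, 0, 0, 0, 0, 0, 0, 0, 0],
  [0, 0, 0, 0, 0, 0, 0, 0, 0, 0, 0, 0, 0, 0, 0, 0, 4, 0, 0, 0, 0, 0, 0, 0, 0, 0, 0, 0, 0, 0, 0, 0, 0, 0, 0, 0, 0, 0, 0, 0, 0, 0, 0, 0, 0],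
  [0, 0, 0, 0, 0, 0, 0, 0, 0, 0, 0, 0, 0, 0, 0, 0, 0, 4, 0, 0, 0, 0, 0, 0, 0, 0, 0, 0, 0, 0, 0, 0, 0, 0, 0, 0, 0, 0, 0, 0, 0, 0, 0, 0, 0],
  [0, 0, 0, 0, 0, 0, 0, 0, 0, 0, 0, 0, 0, 0, 0, 0, 0, 0, 4, 0, 0, 0, 0, 0, 0, 0, 0, 0, 0, 0, 0, 0, 0, 0, 0, 0, 0, 0, 0, 0, 0, 0, 0, 0, 0],
  [0, 0, 0, 0, 0, 0, 0, 0, 0, 0, 0, 0, 0, 0, 0, 0, 0, 0, 0, 4, 0, 0, 0, 0, 0, 0, 0, 0, 0, 0, 0, 0, 0, 0, 0, 0, 0, 0, 0, 0, 0, 0, 0, 0, 0],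
  [0, 0, 0, 0, 0, 0, 0, 0, 0, 0, 0, 0, 0, 0, 0, 0, 0, 0, 0, 0, 4, 0, 0, 0, 0, 0, 0, 0, 0, 0, 0, 0, 0, 0, 0, 0, 0, 0, 0, 0, 0, 0, 0, 0, 0],
  [0, 0, 0, 0, 0, 0, 0, 0, 0, 0, 0, 0, 0, 0, 0, 0, 0, 0, 0, 0, 0, 4, 0, 0, 0, 0, 0, 0, 0, 0, 0, 0, 0, 0, 0, 0, 0, 0, 0, 0, 0, 0, 0, 0, 0],
  [0, 0, 0, 0, 0, 0, 0, 0, 0, 0, 0, 0, 0, 0, 0, 0, 0, 0, 0, 0, 0, 0, 4, 0, 0, 0, 0, 0, 0, 0, 0, 0, 0, 0, 0, 0, 0, 0, 0, 0, 0, 0, 0, 0, 0],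
  [0, 0, 0, 0, 0, 0, 0, 0, 0, 0, 0, 0, 0, 0, 0, 0, 0, 0, 0, 0, 0, 0, 0, 4, 0, 0, 0, 0, 0, 0, 0, 0, 0, 0, 0, 0, 0, 0, 0, 0, 0, 0, 0, 0, 0],
  [0, 0, 0, 0, 0, 0, 0, 0, 0, 0, 0, 0, 0, 0, 0, 0, 0, 0, 0, 0, 0, 0, 0, 0, 4, 0, 0, 0, 0, 0, 0, 0, 0, 0, 0, 0, 0, 0, 0, 0, 0, 0, 0, 0, 0],
  [0, 0, 0, 0, 0, 0, 0, 0, 0, 0, 0, 0, 0, 0, 0, 0, 0, 0, 0, 0, 0, 0, 0, 0, 0, 4, 0, 0, 0, 0, 0, 0, 0, 0, 0, 0, 0, 0, 0, 0, 0, 0, 0, 0, 0],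
  [0, 0, 0, 0, 0, 0, 0, 0, 0, 0, 0, 0, 0, 0, 0, 0, 0, 0, 0, 0, 0, 0, 0, 0, 0, 0, 4, 0, 0, 0, 0, 0, 0, 0, 0, 0, 0, 0, 0, 0, 0, 0, 0, 0, 0],
  [0, 0, 0, 0, 0, 0, 0, 0, 0, 0, 0, 0, 0, 0, 0, 0, 0, 0, 0, 0, 0, 0, 0, 0, 0, 0, 0, 4, 0, 0, 0, 0, 0, 0, 0, 0, 0, 0, 0, 0, 0, 0, 0, 0, 0],
  [0, 0, 0, 0, 0, 0, 0, 0, 0, 0, 0, 0, 0, 0, 0, 0, 0, 0, 0, 0, 0, 0, 0, 0, 0, 0, 0, 0, 4, 0, 0, 0, 0, 0, 0, 0, 0, 0, 0, 0, 0, 0, 0, 0, 0],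
  [0, 0, 0, 0, 0, 0, 0, 0, 0, 0, 0, 0, 0, 0, 0, 0, 0, 0, 0, 0, 0, 0, 0, 0, 0, 0, 0, 0, 0, 4, 0, 0, 0, 0, 0, 0, 0, 0, 0, 0, 0, 0, 0, 0, 0],
  [0, 0, 0, 0, 0, 0, 0, 0, 0, 0, 0, 0, 0, 0, 0, 0, 0, 0, 0, 0, 0, 0, 0, 0, 0, 0, 0, 0, 0, 0, 4, 0, 0, 0, 0, 0, 0, 0, 0, 0, 0, 0, 0, 0, 0],
  [0, 0, 0, 0, 0, 0, 0, 0, 0, 0, 0, 0, 0, 0, 0, 0, 0, 0, 0, 0, 0, 0, 0, 0, 0, 0, 0, 0, 0, 0, 0, 4, 0, 0, 0, 0, 0, 0, 0, 0, 0, 0, 0, 0, 0],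
  [0, 0, 0, 0, 0, 0, 0, 0, 0, 0, 0, 0, 0, 0, 0, 0, 0, 0, 0, 0, 0, 0, 0, 0, 0, 0, 0, 0, 0, 0, 0, 0, 4, 0, 0, 0, 0, 0, 0, 0, 0, 0, 0, 0, 0],
  [0, 0, 0, 0, 0, 0, 0, 0, 0, 0, 0, 0, 0, 0, 0, 0, 0, 0, 0, 0, 0, 0, 0, 0, 0, 0, 0, 0, 0, 0, 0, 0, 0, 4, 0, 0, 0, 0, 0, 0, 0, 0, 0, 0, 0],
  [0, 0, 0, 0, 0, 0, 0, 0, 0, 0, 0, 0, 0, 0, 0, 0, 0, 0, 0, 0, 0, 0, 0, 0, 0, 0, 0, 0, 0, 0, 0, 0, 0, 0, 4, 0, 0, 0, 0, 0, 0, 0, 0, 0, 0],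
  [0, 0, 0, 0, 0, 0, 0, 0, 0, 0, 0, 0, 0, 0, 0, 0, 0, 0, 0, 0, 0, 0, 0, 0, 0, 0, 0, 0, 0, 0, 0, 0, 0, 0, 0, 4, 0, 0, 0, 0, 0, 0, 0, 0, 0],
  [0, 0, 0, 0, 0, 0, 0, 0, 0, 0, 0, 0, 0, 0, 0, 0, 0, 0, 0, 0, 0, 0, 0, 0, 0, 0, 0, 0, 0, 0, 0, 0, 0, 0, 0, 0, 4, 0, 0, 0, 0, 0, 0, 0, 0],
  [0, 0, 0, 0, 0, 0, 0, 0, 0, 0, 0, 0, 0, 0, 0, 0, 0, 0, 0, 0, 0, 0, 0, 0, 0, 0, 0, 0, 0, 0, 0, 0, 0, 0, 0, 0, 0, 4, 0, 0, 0, 0, 0, 0, 0],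
  [0, 0, 0, 0, 0, 0, 0, 0, 0, 0, 0, 0, 0, 0, 0, 0, 0, 0, 0, 0, 0, 0, 0, 0, 0, 0, 0, 0, 0, 0, 0, 0, 0, 0, 0, 0, 0, 0, 4, 0, 0, 0, 0, 0, 0],
  [0, 0, 0, 0, 0, 0, 0, 0, 0, 0, 0, 0, 0, 0, 0, 0, 0, 0, 0, 0, 0, 0, 0, 0, 0, 0, 0, 0, 0, 0, 0, 0, 0, 0, 0, 0, 0, 0, 0, 4, 0, 0, 0, 0, 0],
  [0, 0, 0, 0, 0, 0, 0, 0, 0, 0, 0, 0, 0, 0, 0, 0, 0, 0, 0, 0, 0, 0, 0, 0, 0, 0, 0, 0, 0, 0, 0, 0, 0, 0, 0, 0, 0, 0, 0, 0, 4, 0, 0, 0, 0],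
  [0, 0, 0, 0, 0, 0, 0, 0, 0, 0, 0, 0, 0, 0, 0, 0, 0, 0, 0, 0, 0, 0, 0, 0, 0, 0, 0, 0, 0, 0, 0, 0, 0, 0, 0, 0, 0, 0, 0, 0, 0, 4, 0, 0, 0],
  [0, 0, 0, 0, 0, 0, 0, 0, 0, 0, 0, 0, 0, 0, 0, 0, 0, 0, 0, 0, 0, 0, 0, 0, 0, 0, 0, 0, 0, 0, 0, 0, 0, 0, 0, 0, 0, 0, 0, 0, 0, 0, 4, 0, 0],
  [0, 0, 0, 0, 0, 0, 0, 0, 0, 0, 0, 0, 0, 0, 0, 0, 0, 0, 0, 0, 0, 0, 0, 0, 0, 0, 0, 0, 0, 0, 0, 0, 0, 0, 0, 0, 0, 0, 0, 0, 0, 0, 0, 4, 0],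
  [0, 0, 0, 0, 0, 0, 0, 0, 0, 0, 0, 0, 0, 0, 0, 0, 0, 0, 0, 0, 0, 0, 0, 0, 0, 0, 0, 0, 0, 0, 0, 0, 0, 0, 0, 0, 0, 0, 0, 0, 0, 0, 0, 0, 4]]

theorem s44_4 : List.foldl (fun P x => mulT P (T x)) m44_3 [1, 2, 3, 6] = m44_4 := by decide +kernel

theorem s44_5 : List.foldl (fun P x => mulT P (T x)) m44_4 [9] = idL := by decide +kernel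

theorem wd44 : evalW T ([1, 2, 3, 6] ++ ([1, 2, 3, 6] ++ ([1, 2, 3, 6] ++ ([1, 2, 3, 6] ++ ([1, 2, 3, 6] ++ ([9] ++ [])))))) = idL := by
  unfold evalW
  rw [List.foldl_append, s44_0, List.foldl_append, s44_1, List.foldl_append, s44_2, List.foldl_append, s44_3, List.foldl_append, s44_4, List.foldl_append, s44_5]
  rfl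

theorem s48_0 : List.foldl (fun P x => mulT P (T x)) idL [8, 0, 9, 0] = idL := by decide +kernel

theorem wd48 : evalW T ([8, 0, 9, 0] ++ []) = idL := by
  unfold evalW
  rw [List.foldl_append, s48_0]
  rfl

theorem s54_0 : List.foldl (fun P x => mulT P (T x)) idL [8, 8, 8] = idL := by decide +kernel

theorem wd54 : evalW T ([8, 8, 8] ++ []) = idL := by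
  unfold evalW
  rw [List.foldl_append, s54_0]
  rfl

end Cfsg.Agent.Lib.Lead.ON45
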