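import Cfsg.Agent.Lib.Lead.ON45.Data

/-! # The relators of the triple cover hold on the 45-dimensional module: products of at most four letters at a time,
with the intermediate matrices written out (generated), part 1 -/

set_option autoImplicit false
set_option maxRecDepth 1000000
set_option maxHeartbeats 4000000

namespace Cfsg.Agent.Lib.Lead.ON45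

theorem s0_0 : List.foldl (fun P x => mulT P (T x)) idL [0, 0] = idL := by decide +kernel

theorem wd0 : evalW T ([0, 0] ++ []) = idL := by
  unfold evalW
  rw [List.foldl_append, s0_0]
  rfl

/-- an intermediate product -/
def m6_0 : LM := [
  [4, 0, 1, 1, 5, 2, 4, 0, 2, 0, 0, 0, 0, 0, 0, 3, 6, 3, 2, 0, 5, 3, 3, 1, 0, 0, 0, 0, 0, 0, 4, 3, 5, 3, 0, 0, 0, 3, 6, 0, 5, 2, 0, 0, 3],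
  [1, 1, 0, 2, 5, 3, 4, 5, 2, 4, 2, 2, 4, 4, 5, 2, 1, 1, 0, 0, 6, 2, 5, 2, 0, 0, 0, 0, 0, 0, 3, 0, 3, 0, 4, 2, 1, 4, 1, 6, 1, 0, 0, 0, 6],
  [1, 0, 3, 1, 1, 3, 0, 3, 3, 0, 0, 0, 0, 0, 0, 2, 5, 2, 3, 0, 6, 2, 1, 0, 3, 4, 0, 3, 6, 2, 6, 0, 2, 2, 6, 4, 2, 6, 1, 2, 1, 5, 0, 0, 6],
  [6, 0, 0, 1, 3, 0, 3, 0, 2, 0, 0, 0, 0, 0, 0, 5, 5, 1, 0, 0, 6, 4, 2, 2, 2, 6, 3, 0, 5, 0, 6, 6, 5, 3, 0, 5, 1, 1, 2, 2, 4, 0, 0, 0, 5],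
  [4, 0, 1, 6, 2, 1, 4, 4, 5, 0, 0, 0, 0, 0, 0, 1, 3, 5, 2, 0, 4, 2, 2, 2, 4, 3, 0, 4, 1, 5, 4, 1, 2, 6, 2, 4, 4, 4, 1, 5, 1, 4, 0, 0, 3],
  [5, 0, 0, 3, 2, 4, 5, 5, 4, 0, 0, 0, 0, 0, 0, 3, 4, 2, 3, 0, 3, 1, 0, 2, 5, 2, 0, 5, 3, 1, 0, 0, 0, 0, 2, 2, 3, 6, 6, 0, 4, 5, 0, 0, 3],
  [0, 0, 0, 0, 0, 0, 0, 0, 5, 0, 0, 0, 0, 0, 0, 0, 0, 0, 0, 0, 6, 0, 0, 6, 0, 0, 0, 0, 0, 0, 0, 0, 5, 0, 6, 0, 0, 0, 0, 2, 1, 1, 0, 0, 2],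
  [0, 0, 0, 0, 0, 0, 2, 0, 0, 0, 0, 0, 0, 0, 0, 4, 0, 0, 0, 0, 1, 0, 0, 6, 0, 0, 0, 0, 0, 0, 0, 0, 3, 0, 4, 0, 5, 0, 0, 0, 0, 3, 6, 0, 1],
  [0, 0, 0, 0, 0, 0, 5, 3, 0, 0, 0, 0, 0, 0, 0, 3, 0, 0, 0, 0, 3, 0, 0, 3, 0, 0, 0, 0, 0, 0, 0, 0, 3, 0, 0, 0, 0, 0, 0, 3, 5, 0, 0, 0, 3],
  [0, 3, 6, 6, 1, 1, 0, 3, 3, 3, 0, 6, 6, 6, 0, 2, 0, 3, 5, 0, 5, 0, 0, 0, 3, 4, 0, 3, 6, 2, 5, 3, 6, 4, 4, 6, 2, 5, 3, 3, 5, 0, 0, 0, 4],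
  [0, 2, 6, 2, 2, 2, 2, 5, 0, 6, 0, 4, 6, 2, 3, 1, 4, 3, 2, 3, 0, 6, 6, 6, 3, 3, 4, 5, 5, 1, 1, 4, 6, 4, 3, 6, 4, 0, 4, 4, 6, 0, 0, 0, 0],
  [5, 2, 0, 5, 3, 0, 4, 2, 2, 1, 2, 4, 0, 4, 2, 0, 6, 4, 6, 0, 4, 1, 4, 5, 4, 3, 0, 4, 1, 5, 6, 3, 2, 3, 5, 1, 6, 6, 1, 1, 1, 0, 0, 0, 6],
  [0, 0, 0, 0, 0, 0, 2, 0, 6, 0, 0, 0, 3, 0, 4, 0, 0, 0, 0, 2, 3, 0, 0, 6, 0, 0, 0, 0, 0, 0, 0, 0, 0, 0, 5, 0, 0, 0, 0, 1, 2, 0, 0, 0, 2],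
  [5, 2, 4, 3, 6, 3, 5, 6, 3, 4, 3, 0, 4, 5, 2, 0, 5, 4, 2, 5, 6, 4, 0, 3, 5, 2, 0, 5, 3, 1, 2, 4, 5, 0, 0, 6, 1, 4, 5, 3, 4, 0, 0, 0, 4],
  [0, 0, 0, 0, 0, 0, 0, 0, 4, 0, 0, 0, 2, 0, 6, 0, 0, 0, 0, 2, 6, 0, 0, 2, 0, 0, 0, 0, 0, 0, 0, 0, 2, 0, 2, 0, 0, 0, 0, 0, 4, 0, 0, 0, 5],
  [0, 0, 0, 0, 0, 0, 3, 1, 5, 0, 0, 0, 0, 0, 0, 4, 0, 0, 0, 0, 6, 0, 0, 1, 0, 0, 0, 0, 0, 0, 0, 0, 3, 0, 0, 0, 2, 0, 0, 1, 5, 1, 0, 6, 3],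
  [1, 0, 6, 1, 2, 6, 4, 2, 0, 0, 0, 0, 0, 0, 0, 1, 1, 4, 3, 0, 2, 0, 3, 5, 0, 0, 0, 0, 0, 0, 1, 4, 6, 4, 6, 6, 0, 5, 0, 5, 0, 0, 0, 0, 2],
  [5, 0, 1, 2, 4, 2, 3, 3, 4, 0, 0, 0, 0, 0, 0, 6, 4, 1, 4, 0, 6, 3, 1, 5, 2, 6, 3, 0, 5, 0, 2, 3, 2, 0, 3, 1, 0, 4, 1, 0, 6, 0, 0, 0, 1],
  [1, 0, 3, 2, 2, 6, 6, 2, 6, 0, 0, 0, 0, 0, 0, 5, 3, 5, 6, 0, 6, 2, 6, 3, 5, 1, 4, 0, 2, 0, 4, 0, 3, 0, 4, 5, 5, 6, 0, 0, 0, 0, 0, 0, 3],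
  [0, 0, 0, 0, 0, 0, 5, 4, 6, 0, 0, 0, 4, 0, 6, 4, 0, 0, 0, 5, 4, 0, 0, 3, 0, 0, 0, 0, 0, 0, 0, 0, 6, 0, 6, 0, 0, 0, 0, 6, 5, 0, 0, 0, 1],
  [0, 0, 0, 0, 0, 0, 4, 5, 1, 0, 0, 0, 0, 0, 0, 5, 0, 0, 0, 0, 4, 0, 0, 3, 0, 0, 0, 0, 0, 0, 0, 0, 3, 0, 0, 0, 0, 0, 0, 6, 6, 0, 0, 0, 4],
  [5, 0, 4, 2, 6, 2, 3, 3, 4, 0, 0, 0, 0, 0, 0, 3, 2, 3, 6, 0, 6, 3, 3, 3, 3, 4, 0, 3, 6, 2, 2, 1, 2, 4, 1, 4, 4, 3, 5, 4, 6, 0, 0, 0, 3],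
  [0, 0, 2, 4, 3, 2, 1, 0, 0, 0, 0, 0, 0, 0, 0, 2, 2, 6, 6, 0, 3, 4, 2, 0, 1, 3, 5, 0, 6, 0, 5, 2, 3, 2, 1, 3, 0, 5, 0, 1, 3, 0, 0, 0, 2],
  [0, 0, 0, 0, 0, 0, 3, 1, 2, 0, 0, 0, 0, 0, 0, 1, 0, 0, 0, 0, 5, 0, 0, 6, 0, 0, 0, 0, 0, 0, 0, 0, 4, 0, 4, 0, 0, 0, 0, 1, 0, 0, 0, 0, 6],
  [0, 0, 4, 6, 0, 2, 6, 4, 6, 0, 0, 0, 0, 0, 0, 3, 5, 5, 4, 0, 1, 2, 5, 4, 1, 4, 0, 1, 2, 6, 3, 4, 1, 3, 3, 2, 0, 0, 5, 3, 4, 0, 0, 0, 2],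
  [1, 0, 3, 4, 3, 3, 2, 3, 5, 0, 0, 0, 0, 0, 0, 2, 1, 0, 4, 0, 0, 3, 4, 5, 4, 5, 3, 0, 5, 1, 5, 4, 1, 0, 5, 0, 3, 4, 0, 3, 5, 0, 0, 0, 4],
  [0, 0, 4, 0, 4, 1, 6, 5, 0, 0, 0, 0, 0, 0, 0, 5, 2, 0, 1, 0, 5, 3, 6, 1, 1, 5, 2, 6, 4, 1, 3, 3, 3, 3, 3, 1, 3, 0, 6, 3, 6, 0, 0, 0, 5],
  [0, 0, 0, 0, 0, 0, 4, 4, 1, 0, 0, 0, 0, 0, 0, 4, 0, 0, 0, 0, 5, 0, 0, 4, 0, 0, 0, 4, 3, 6, 0, 0, 0, 0, 1, 0, 0, 0, 0, 0, 1, 0, 0, 0, 1],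
  [0, 0, 0, 0, 0, 0, 2, 5, 4, 0, 0, 0, 0, 0, 0, 5, 0, 0, 0, 0, 6, 0, 0, 3, 0, 0, 0, 2, 3, 5, 0, 0, 2, 0, 1, 0, 0, 0, 0, 6, 5, 0, 0, 0, 3],
  [0, 0, 0, 0, 0, 0, 2, 4, 2, 0, 0, 0, 0, 0, 0, 4, 0, 0, 0, 0, 2, 0, 0, 5, 0, 0, 0, 5, 5, 0, 0, 0, 4, 0, 0, 0, 0, 0, 0, 0, 2, 0, 0, 0, 4],
  [3, 0, 6, 6, 2, 3, 0, 1, 1, 0, 0, 0, 0, 0, 0, 5, 4, 0, 3, 0, 6, 5, 1, 2, 0, 0, 0, 0, 0, 0, 6, 4, 6, 3, 0, 6, 4, 3, 3, 4, 4, 0, 0, 0, 3],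
  [0, 0, 6, 5, 0, 2, 1, 0, 4, 0, 0, 0, 0, 0, 0, 2, 3, 1, 1, 0, 1, 0, 4, 3, 0, 0, 0, 0, 0, 0, 2, 0, 0, 0, 1, 2, 6, 1, 4, 5, 3, 0, 0, 0, 0],
  [0, 0, 0, 0, 0, 0, 1, 5, 6, 0, 0, 0, 0, 0, 0, 5, 0, 0, 0, 0, 2, 0, 0, 2, 0, 0, 0, 0, 0, 0, 0, 0, 4, 0, 1, 0, 0, 0, 0, 5, 3, 0, 0, 0, 5],
  [2, 0, 6, 0, 6, 3, 3, 4, 5, 0, 0, 0, 0, 0, 0, 6, 5, 1, 0, 0, 4, 2, 5, 6, 0, 0, 0, 0, 0, 0, 0, 4, 3, 6, 6, 2, 2, 3, 2, 5, 4, 0, 0, 0, 6],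
  [0, 0, 0, 0, 0, 0, 5, 3, 2, 0, 0, 0, 0, 0, 0, 3, 0, 0, 0, 0, 4, 0, 0, 4, 0, 0, 0, 0, 0, 0, 0, 0, 1, 0, 6, 0, 0, 0, 0, 1, 0, 0, 0, 0, 5],
  [0, 0, 3, 2, 1, 2, 0, 1, 6, 0, 0, 0, 0, 0, 0, 0, 0, 4, 3, 0, 3, 4, 1, 6, 0, 0, 0, 0, 0, 0, 3, 0, 4, 0, 6, 6, 3, 6, 0, 6, 0, 0, 0, 0, 0],
  [0, 0, 0, 0, 0, 0, 2, 3, 6, 0, 0, 0, 0, 0, 0, 6, 0, 0, 0, 0, 2, 0, 0, 5, 0, 0, 0, 0, 0, 0, 0, 0, 0, 0, 5, 0, 4, 0, 0, 1, 1, 0, 0, 0, 1],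
  [0, 0, 5, 1, 0, 5, 4, 1, 2, 0, 0, 0, 0, 0, 0, 1, 4, 2, 5, 0, 0, 3, 4, 4, 0, 0, 0, 0, 0, 0, 1, 1, 2, 5, 6, 6, 1, 6, 4, 1, 0, 0, 0, 0, 4],
  [4, 0, 6, 0, 2, 3, 6, 5, 3, 0, 0, 0, 0, 0, 0, 5, 6, 5, 6, 0, 4, 5, 2, 5, 0, 0, 0, 0, 0, 0, 6, 0, 3, 6, 1, 5, 0, 3, 5, 2, 4, 0, 0, 0, 2],
  [0, 0, 0, 0, 0, 0, 0, 0, 0, 0, 0, 0, 0, 0, 0, 0, 0, 0, 0, 0, 0, 0, 0, 0, 0, 0, 0, 0, 0, 0, 0, 0, 0, 0, 0, 0, 0, 0, 0, 0, 0, 0, 0, 0, 6],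
  [0, 0, 0, 0, 0, 0, 2, 4, 5, 0, 0, 0, 0, 0, 0, 4, 0, 0, 0, 0, 3, 0, 0, 3, 0, 0, 0, 0, 0, 0, 0, 0, 6, 0, 2, 0, 0, 0, 0, 6, 1, 0, 0, 0, 2],
  [0, 0, 0, 0, 0, 0, 1, 0, 6, 0, 0, 0, 0, 0, 0, 0, 0, 0, 0, 0, 0, 0, 0, 0, 0, 0, 0, 0, 0, 0, 0, 0, 4, 0, 3, 0, 0, 0, 0, 0, 4, 0, 0, 0, 3],
  [0, 0, 0, 0, 0, 0, 0, 1, 2, 0, 0, 0, 0, 0, 0, 0, 0, 0, 0, 0, 2, 0, 0, 1, 0, 0, 0, 0, 0, 0, 0, 0, 0, 0, 6, 0, 6, 0, 0, 2, 4, 0, 0, 0, 6],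
  [0, 0, 0, 0, 0, 0, 0, 0, 5, 0, 0, 0, 0, 0, 0, 1, 0, 0, 0, 0, 4, 0, 0, 5, 0, 0, 0, 0, 0, 0, 0, 0, 2, 0, 4, 0, 1, 0, 0, 6, 1, 0, 0, 0, 5],
  [0, 0, 0, 0, 0, 0, 0, 0, 0, 0, 0, 0, 0, 0, 0, 0, 0, 0, 0, 0, 0, 0, 0, 0, 0, 0, 0, 0, 0, 0, 0, 0, 0, 0, 0, 0, 0, 0, 0, 1, 0, 0, 0, 0, 6]]

theorem s6_0 : List.foldl (fun P x => mulT P (T x)) idL [1, 0, 1, 0] = m6_0 := by decide +kernel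

theorem s6_1 : List.foldl (fun P x => mulT P (T x)) m6_0 [1, 0] = idL := by decide +kernel

theorem wd6 : evalW T ([1, 0, 1, 0] ++ ([1, 0] ++ [])) = idL := by
  unfold evalW
  rw [List.foldl_append, s6_0, List.foldl_append, s6_1]
  rfl

theorem s10_0 : List.foldl (fun P x => mulT P (T x)) idL [1, 4, 1, 4] = idL := by decide +kernel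

theorem wd10 : evalW T ([1, 4, 1, 4] ++ []) = idL := by
  unfold evalW
  rw [List.foldl_append, s10_0]
  rfl

/-- an intermediate product -/
def m15_0 : LM := [
  [5, 0, 3, 0, 2, 5, 0, 2, 0, 0, 0, 0, 0, 0, 0, 1, 0, 0, 0, 0, 0, 0, 0, 0, 0, 0, 0, 0, 0, 0, 0, 0, 0, 0, 3, 3, 1, 6, 4, 3, 0, 0, 4, 1, 1],
  [0, 5, 0, 0, 0, 0, 0, 0, 0, 3, 0, 2, 2, 5, 0, 0, 0, 0, 0, 1, 0, 0, 0, 0, 0, 0, 0, 0, 0, 0, 0, 0, 0, 0, 3, 3, 1, 6, 4, 3, 0, 5, 1, 5, 0],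
  [4, 0, 4, 0, 3, 3, 6, 2, 0, 0, 0, 0, 0, 0, 0, 4, 0, 0, 0, 0, 0, 0, 0, 0, 5, 6, 6, 6, 4, 6, 0, 0, 0, 0, 4, 4, 6, 0, 4, 3, 1, 4, 2, 0, 2],
  [6, 0, 4, 6, 6, 4, 1, 5, 0, 0, 0, 0, 0, 0, 0, 1, 0, 0, 0, 0, 0, 0, 0, 0, 2, 0, 3, 2, 3, 5, 0, 0, 0, 0, 5, 5, 4, 4, 2, 6, 5, 4, 3, 1, 4],
  [6, 0, 1, 0, 6, 5, 6, 0, 0, 0, 0, 0, 0, 0, 0, 4, 0, 0, 0, 0, 0, 0, 0, 0, 2, 1, 1, 1, 3, 1, 0, 0, 0, 0, 6, 6, 2, 6, 0, 0, 6, 3, 2, 5, 3],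
  [1, 0, 6, 0, 6, 6, 2, 0, 0, 0, 0, 0, 0, 0, 0, 5, 0, 0, 0, 0, 0, 0, 0, 0, 6, 3, 3, 3, 2, 3, 0, 0, 0, 0, 4, 4, 6, 4, 0, 0, 4, 1, 6, 5, 4],
  [0, 0, 0, 0, 0, 0, 1, 0, 0, 0, 0, 0, 0, 0, 0, 0, 0, 0, 0, 0, 0, 0, 0, 0, 0, 0, 0, 0, 0, 0, 0, 0, 0, 0, 0, 0, 0, 0, 0, 0, 0, 6, 2, 3, 0],
  [0, 0, 0, 0, 0, 0, 5, 5, 0, 0, 0, 0, 0, 0, 0, 6, 0, 0, 0, 0, 0, 0, 0, 0, 0, 0, 0, 0, 0, 0, 0, 0, 0, 0, 0, 0, 0, 0, 0, 0, 0, 6, 1, 0, 6],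
  [0, 0, 0, 0, 0, 0, 0, 0, 1, 0, 0, 0, 0, 0, 0, 0, 0, 0, 0, 0, 0, 0, 0, 0, 0, 0, 0, 0, 0, 0, 0, 0, 0, 0, 0, 0, 0, 0, 0, 4, 4, 6, 5, 1, 3],
  [0, 4, 0, 0, 0, 0, 0, 0, 0, 4, 0, 3, 2, 3, 6, 0, 0, 0, 0, 4, 0, 0, 0, 0, 5, 6, 6, 6, 4, 6, 0, 0, 0, 0, 4, 4, 6, 0, 4, 3, 1, 3, 2, 5, 3],
  [0, 6, 0, 0, 0, 0, 0, 0, 0, 4, 6, 6, 5, 4, 1, 0, 0, 0, 0, 1, 0, 0, 0, 0, 4, 3, 0, 1, 6, 5, 0, 0, 0, 0, 1, 1, 5, 4, 3, 3, 6, 4, 0, 6, 4],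
  [0, 6, 0, 0, 0, 0, 0, 0, 0, 1, 0, 6, 0, 5, 6, 0, 0, 0, 0, 4, 0, 0, 0, 0, 2, 1, 1, 1, 3, 1, 0, 0, 0, 0, 6, 6, 2, 6, 0, 0, 6, 3, 1, 2, 3],
  [0, 0, 0, 0, 0, 0, 0, 0, 0, 0, 0, 0, 5, 0, 5, 0, 0, 0, 0, 6, 0, 0, 0, 0, 0, 0, 0, 0, 0, 0, 0, 0, 0, 0, 0, 0, 0, 0, 0, 0, 0, 4, 1, 4, 6],
  [0, 1, 0, 0, 0, 0, 0, 0, 0, 6, 0, 6, 0, 6, 2, 0, 0, 0, 0, 5, 0, 0, 0, 0, 6, 3, 3, 3, 2, 3, 0, 0, 0, 0, 4, 4, 6, 4, 0, 0, 4, 1, 2, 5, 5],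
  [0, 0, 0, 0, 0, 0, 0, 0, 0, 0, 0, 0, 0, 0, 1, 0, 0, 0, 0, 0, 0, 0, 0, 0, 0, 0, 0, 0, 0, 0, 0, 0, 0, 0, 0, 0, 0, 0, 0, 0, 0, 2, 3, 1, 0],
  [0, 0, 0, 0, 0, 0, 6, 5, 0, 0, 0, 0, 0, 0, 0, 2, 0, 0, 0, 0, 0, 0, 0, 0, 0, 0, 0, 0, 0, 0, 0, 0, 0, 0, 0, 0, 0, 0, 0, 0, 0, 2, 6, 3, 5],
  [0, 0, 0, 0, 0, 0, 0, 0, 0, 0, 0, 0, 0, 0, 0, 0, 1, 0, 3, 0, 1, 0, 6, 0, 0, 0, 0, 0, 0, 0, 0, 0, 0, 0, 0, 0, 0, 3, 0, 5, 5, 1, 5, 1, 0],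
  [0, 0, 0, 0, 0, 0, 0, 0, 3, 0, 0, 0, 0, 0, 0, 0, 0, 1, 0, 0, 0, 0, 3, 1, 2, 0, 3, 2, 3, 5, 0, 0, 0, 0, 4, 4, 6, 1, 3, 1, 4, 3, 1, 1, 2],
  [0, 0, 0, 0, 0, 0, 0, 0, 1, 0, 0, 0, 0, 0, 0, 0, 3, 4, 3, 0, 1, 0, 0, 6, 5, 0, 4, 5, 4, 2, 0, 0, 0, 0, 3, 3, 1, 2, 4, 1, 5, 2, 2, 2, 0],
  [0, 0, 0, 0, 0, 0, 0, 0, 0, 0, 0, 0, 5, 0, 6, 0, 0, 0, 0, 2, 0, 0, 0, 0, 0, 0, 0, 0, 0, 0, 0, 0, 0, 0, 0, 0, 0, 0, 0, 0, 0, 0, 2, 4, 2],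
  [0, 0, 0, 0, 0, 0, 0, 0, 5, 0, 0, 0, 0, 0, 0, 0, 0, 0, 0, 0, 2, 0, 0, 1, 0, 0, 0, 0, 0, 0, 0, 0, 0, 0, 0, 0, 0, 0, 0, 6, 6, 4, 4, 5, 6],
  [0, 0, 0, 0, 0, 0, 0, 0, 1, 0, 0, 0, 0, 0, 0, 0, 2, 1, 1, 0, 1, 6, 0, 3, 5, 6, 6, 6, 4, 6, 0, 0, 0, 0, 1, 1, 5, 4, 6, 1, 0, 2, 1, 0, 5],
  [0, 0, 0, 0, 0, 0, 0, 0, 1, 0, 0, 0, 0, 0, 0, 0, 5, 2, 0, 0, 3, 0, 2, 4, 1, 0, 5, 1, 5, 6, 0, 0, 0, 0, 2, 2, 3, 6, 5, 2, 0, 4, 4, 3, 6],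
  [0, 0, 0, 0, 0, 0, 0, 0, 2, 0, 0, 0, 0, 0, 0, 0, 0, 0, 0, 0, 2, 0, 0, 5, 0, 0, 0, 0, 0, 0, 0, 0, 0, 0, 0, 0, 0, 0, 0, 2, 2, 6, 0, 0, 1],
  [0, 0, 0, 0, 0, 0, 0, 0, 0, 0, 0, 0, 0, 0, 0, 0, 0, 0, 0, 0, 0, 0, 0, 0, 1, 0, 3, 1, 0, 0, 0, 0, 0, 0, 4, 4, 6, 5, 3, 6, 2, 4, 6, 2, 1],
  [0, 0, 0, 0, 0, 0, 0, 0, 0, 0, 0, 0, 0, 0, 0, 0, 0, 0, 0, 0, 0, 0, 0, 0, 4, 4, 0, 1, 0, 1, 0, 0, 0, 0, 4, 4, 6, 5, 3, 0, 3, 1, 1, 3, 4],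
  [0, 0, 0, 0, 0, 0, 0, 0, 0, 0, 0, 0, 0, 0, 0, 0, 0, 0, 0, 0, 0, 0, 0, 0, 6, 1, 3, 0, 0, 3, 0, 0, 0, 0, 0, 0, 0, 0, 0, 2, 2, 4, 2, 6, 0],
  [0, 0, 0, 0, 0, 0, 0, 0, 0, 0, 0, 0, 0, 0, 0, 0, 0, 0, 0, 0, 0, 0, 0, 0, 0, 0, 0, 2, 1, 5, 0, 0, 0, 0, 0, 0, 0, 0, 0, 1, 1, 1, 2, 6, 1],
  [0, 0, 0, 0, 0, 0, 0, 0, 0, 0, 0, 0, 0, 0, 0, 0, 0, 0, 0, 0, 0, 0, 0, 0, 0, 0, 0, 2, 5, 2, 0, 0, 0, 0, 0, 0, 0, 0, 0, 5, 5, 1, 2, 3, 6],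
  [0, 0, 0, 0, 0, 0, 0, 0, 0, 0, 0, 0, 0, 0, 0, 0, 0, 0, 0, 0, 0, 0, 0, 0, 0, 0, 0, 0, 0, 1, 0, 0, 0, 0, 0, 0, 0, 0, 0, 3, 3, 1, 4, 2, 2],
  [0, 0, 0, 0, 0, 0, 0, 0, 0, 0, 0, 0, 0, 0, 0, 0, 0, 0, 0, 0, 0, 0, 0, 0, 0, 0, 0, 0, 0, 0, 6, 1, 1, 2, 0, 6, 5, 0, 2, 0, 1, 0, 4, 3, 5],
  [0, 0, 0, 0, 0, 0, 0, 0, 0, 0, 0, 0, 0, 0, 0, 0, 0, 0, 0, 0, 0, 0, 0, 0, 0, 0, 0, 0, 0, 0, 0, 3, 1, 3, 1, 0, 6, 5, 3, 3, 6, 0, 2, 5, 1],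
  [0, 0, 0, 0, 0, 0, 0, 0, 0, 0, 0, 0, 0, 0, 0, 0, 0, 0, 0, 0, 0, 0, 0, 0, 0, 0, 0, 0, 0, 0, 0, 0, 2, 0, 5, 0, 1, 0, 0, 6, 6, 0, 6, 0, 5],
  [0, 0, 0, 0, 0, 0, 0, 0, 0, 0, 0, 0, 0, 0, 0, 0, 0, 0, 0, 0, 0, 0, 0, 0, 0, 0, 0, 0, 0, 0, 0, 3, 1, 1, 4, 3, 6, 5, 3, 6, 2, 3, 2, 3, 1],
  [0, 0, 0, 0, 0, 0, 0, 0, 0, 0, 0, 0, 0, 0, 0, 0, 0, 0, 0, 0, 0, 0, 0, 0, 0, 0, 0, 0, 0, 0, 0, 0, 0, 0, 1, 0, 0, 0, 0, 4, 4, 0, 0, 4, 6],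
  [0, 0, 0, 0, 0, 0, 0, 0, 0, 0, 0, 0, 0, 0, 0, 0, 0, 0, 0, 0, 0, 0, 0, 0, 0, 0, 0, 0, 0, 0, 0, 0, 3, 5, 1, 2, 4, 1, 2, 1, 3, 4, 3, 2, 5],
  [0, 0, 0, 0, 0, 0, 0, 0, 0, 0, 0, 0, 0, 0, 0, 0, 0, 0, 0, 0, 0, 0, 0, 0, 0, 0, 0, 0, 0, 0, 0, 0, 2, 0, 2, 0, 5, 0, 0, 2, 2, 6, 3, 4, 5],
  [0, 0, 0, 0, 0, 0, 0, 0, 0, 0, 0, 0, 0, 0, 0, 0, 0, 0, 0, 0, 0, 0, 0, 0, 0, 0, 0, 0, 0, 0, 0, 0, 0, 0, 0, 0, 0, 4, 3, 6, 5, 3, 4, 5, 1],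
  [0, 0, 0, 0, 0, 0, 0, 0, 0, 0, 0, 0, 0, 0, 0, 0, 0, 0, 0, 0, 0, 0, 0, 0, 0, 0, 0, 0, 0, 0, 0, 0, 0, 0, 0, 0, 0, 6, 3, 2, 5, 6, 4, 2, 2],
  [0, 0, 0, 0, 0, 0, 0, 0, 0, 0, 0, 0, 0, 0, 0, 0, 0, 0, 0, 0, 0, 0, 0, 0, 0, 0, 0, 0, 0, 0, 0, 0, 0, 0, 0, 0, 0, 0, 0, 3, 6, 5, 1, 4, 0],
  [0, 0, 0, 0, 0, 0, 0, 0, 0, 0, 0, 0, 0, 0, 0, 0, 0, 0, 0, 0, 0, 0, 0, 0, 0, 0, 0, 0, 0, 0, 0, 0, 0, 0, 0, 0, 0, 0, 0, 3, 4, 3, 0, 3, 2],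
  [0, 0, 0, 0, 0, 0, 0, 0, 0, 0, 0, 0, 0, 0, 0, 0, 0, 0, 0, 0, 0, 0, 0, 0, 0, 0, 0, 0, 0, 0, 0, 0, 0, 0, 0, 0, 0, 0, 0, 0, 0, 1, 3, 1, 4],
  [0, 0, 0, 0, 0, 0, 0, 0, 0, 0, 0, 0, 0, 0, 0, 0, 0, 0, 0, 0, 0, 0, 0, 0, 0, 0, 0, 0, 0, 0, 0, 0, 0, 0, 0, 0, 0, 0, 0, 0, 0, 2, 6, 4, 5],
  [0, 0, 0, 0, 0, 0, 0, 0, 0, 0, 0, 0, 0, 0, 0, 0, 0, 0, 0, 0, 0, 0, 0, 0, 0, 0, 0, 0, 0, 0, 0, 0, 0, 0, 0, 0, 0, 0, 0, 0, 0, 4, 1, 6, 5],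
  [0, 0, 0, 0, 0, 0, 0, 0, 0, 0, 0, 0, 0, 0, 0, 0, 0, 0, 0, 0, 0, 0, 0, 0, 0, 0, 0, 0, 0, 0, 0, 0, 0, 0, 0, 0, 0, 0, 0, 0, 0, 1, 5, 4, 1]]

theorem s15_0 : List.foldl (fun P x => mulT P (T x)) idL [2, 3, 2, 3] = m15_0 := by decide +kernel

/-- an intermediate product -/
def m15_1 : LM := [
  [5, 0, 3, 0, 5, 4, 0, 3, 0, 0, 0, 0, 0, 0, 0, 1, 0, 0, 0, 0, 0, 0, 0, 0, 0, 0, 0, 0, 0, 0, 0, 0, 4, 1, 4, 2, 4, 1, 5, 3, 0, 6, 6, 1, 6],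
  [0, 5, 0, 0, 0, 0, 0, 0, 0, 3, 0, 5, 3, 4, 0, 0, 0, 0, 0, 1, 0, 0, 0, 0, 0, 0, 0, 0, 0, 0, 0, 0, 4, 1, 4, 2, 4, 1, 5, 3, 0, 1, 3, 3, 2],
  [1, 0, 0, 0, 0, 2, 4, 4, 0, 0, 0, 0, 0, 0, 0, 4, 0, 0, 0, 0, 0, 0, 0, 0, 4, 3, 6, 4, 1, 6, 0, 0, 3, 6, 3, 5, 3, 4, 1, 1, 4, 2, 2, 6, 3],
  [3, 0, 4, 1, 1, 1, 1, 3, 0, 0, 0, 0, 0, 0, 0, 6, 0, 0, 0, 0, 0, 0, 0, 0, 4, 3, 5, 3, 0, 4, 0, 0, 2, 4, 2, 1, 2, 1, 2, 0, 5, 2, 3, 2, 6],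
  [5, 0, 2, 0, 4, 2, 5, 6, 0, 0, 0, 0, 0, 0, 0, 4, 0, 0, 0, 0, 0, 0, 0, 0, 3, 4, 1, 3, 6, 1, 0, 0, 1, 2, 1, 4, 1, 4, 4, 2, 3, 2, 3, 0, 6],
  [1, 0, 6, 0, 1, 5, 4, 4, 0, 0, 0, 0, 0, 0, 0, 5, 0, 0, 0, 0, 0, 0, 0, 0, 2, 5, 3, 2, 4, 3, 0, 0, 3, 6, 3, 5, 3, 5, 5, 6, 2, 6, 2, 1, 2],
  [0, 0, 0, 0, 0, 0, 1, 0, 0, 0, 0, 0, 0, 0, 0, 0, 0, 0, 0, 0, 0, 0, 0, 0, 0, 0, 0, 0, 0, 0, 0, 0, 0, 0, 0, 0, 0, 0, 0, 0, 0, 0, 0, 0, 0],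
  [0, 0, 0, 0, 0, 0, 3, 6, 0, 0, 0, 0, 0, 0, 0, 0, 0, 0, 0, 0, 0, 0, 0, 0, 0, 0, 0, 0, 0, 0, 0, 0, 0, 0, 0, 0, 0, 0, 0, 0, 0, 2, 0, 4, 4],
  [0, 0, 0, 0, 0, 0, 0, 0, 1, 0, 0, 0, 0, 0, 0, 0, 0, 0, 0, 0, 0, 0, 0, 0, 0, 0, 0, 0, 0, 0, 0, 0, 0, 0, 0, 0, 0, 0, 0, 0, 2, 5, 3, 3, 5],
  [0, 1, 0, 0, 0, 0, 0, 0, 0, 0, 0, 0, 4, 2, 4, 0, 0, 0, 0, 4, 0, 0, 0, 0, 4, 3, 6, 4, 1, 6, 0, 0, 3, 6, 3, 5, 3, 4, 1, 1, 4, 2, 0, 3, 2],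
  [0, 3, 0, 0, 0, 0, 0, 0, 0, 4, 1, 1, 3, 1, 1, 0, 0, 0, 0, 6, 0, 0, 0, 0, 5, 2, 5, 6, 4, 6, 0, 0, 6, 5, 6, 3, 6, 0, 4, 1, 4, 4, 4, 3, 4],
  [0, 5, 0, 0, 0, 0, 0, 0, 0, 2, 0, 4, 6, 2, 5, 0, 0, 0, 0, 4, 0, 0, 0, 0, 3, 4, 1, 3, 6, 1, 0, 0, 1, 2, 1, 4, 1, 4, 4, 2, 3, 6, 3, 2, 2],
  [0, 0, 0, 0, 0, 0, 0, 0, 0, 0, 0, 0, 6, 0, 3, 0, 0, 0, 0, 0, 0, 0, 0, 0, 0, 0, 0, 0, 0, 0, 0, 0, 0, 0, 0, 0, 0, 0, 0, 0, 0, 2, 0, 0, 5],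
  [0, 1, 0, 0, 0, 0, 0, 0, 0, 6, 0, 1, 4, 5, 4, 0, 0, 0, 0, 5, 0, 0, 0, 0, 2, 5, 3, 2, 4, 3, 0, 0, 3, 6, 3, 5, 3, 5, 5, 6, 2, 1, 2, 6, 0],
  [0, 0, 0, 0, 0, 0, 0, 0, 0, 0, 0, 0, 0, 0, 1, 0, 0, 0, 0, 0, 0, 0, 0, 0, 0, 0, 0, 0, 0, 0, 0, 0, 0, 0, 0, 0, 0, 0, 0, 0, 0, 0, 0, 0, 0],
  [0, 0, 0, 0, 0, 0, 1, 0, 0, 0, 0, 0, 0, 0, 0, 6, 0, 0, 0, 0, 0, 0, 0, 0, 0, 0, 0, 0, 0, 0, 0, 0, 0, 0, 0, 0, 0, 0, 0, 0, 0, 3, 1, 4, 0],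
  [0, 0, 0, 0, 0, 0, 0, 0, 0, 0, 0, 0, 0, 0, 0, 0, 5, 3, 5, 0, 3, 0, 4, 1, 0, 0, 0, 0, 0, 0, 0, 0, 0, 0, 0, 0, 0, 1, 2, 4, 0, 1, 6, 2, 5],
  [0, 0, 0, 0, 0, 0, 0, 0, 4, 0, 0, 0, 0, 0, 0, 0, 1, 0, 0, 0, 4, 0, 2, 4, 4, 3, 5, 3, 0, 4, 0, 0, 3, 6, 3, 5, 3, 6, 2, 4, 2, 2, 2, 1, 0],
  [0, 0, 0, 0, 0, 0, 0, 0, 5, 0, 0, 0, 0, 0, 0, 0, 5, 2, 4, 0, 6, 0, 2, 4, 3, 4, 2, 4, 0, 3, 0, 0, 4, 1, 4, 2, 4, 2, 0, 0, 0, 0, 1, 5, 0],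
  [0, 0, 0, 0, 0, 0, 0, 0, 0, 0, 0, 0, 0, 0, 1, 0, 0, 0, 0, 6, 0, 0, 0, 0, 0, 0, 0, 0, 0, 0, 0, 0, 0, 0, 0, 0, 0, 0, 0, 0, 0, 5, 4, 4, 3],
  [0, 0, 0, 0, 0, 0, 0, 0, 3, 0, 0, 0, 0, 0, 0, 0, 0, 0, 0, 0, 6, 0, 0, 0, 0, 0, 0, 0, 0, 0, 0, 0, 0, 0, 0, 0, 0, 0, 0, 0, 3, 4, 5, 5, 2],
  [0, 0, 0, 0, 0, 0, 0, 0, 1, 0, 0, 0, 0, 0, 0, 0, 3, 4, 1, 0, 3, 1, 1, 6, 4, 3, 6, 4, 1, 6, 0, 0, 6, 5, 6, 3, 6, 1, 3, 6, 3, 6, 6, 6, 3],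
  [0, 0, 0, 0, 0, 0, 0, 0, 4, 0, 0, 0, 0, 0, 0, 0, 1, 6, 1, 0, 4, 0, 5, 5, 2, 5, 6, 5, 0, 2, 0, 0, 5, 3, 5, 6, 5, 6, 0, 0, 3, 1, 3, 4, 6],
  [0, 0, 0, 0, 0, 0, 0, 0, 1, 0, 0, 0, 0, 0, 0, 0, 0, 0, 0, 0, 0, 0, 0, 6, 0, 0, 0, 0, 0, 0, 0, 0, 0, 0, 0, 0, 0, 0, 0, 0, 1, 3, 1, 1, 3],
  [0, 0, 0, 0, 0, 0, 0, 0, 0, 0, 0, 0, 0, 0, 0, 0, 0, 0, 0, 0, 0, 0, 0, 0, 5, 3, 5, 3, 1, 0, 0, 0, 3, 6, 3, 5, 3, 5, 0, 0, 0, 2, 4, 4, 1],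
  [0, 0, 0, 0, 0, 0, 0, 0, 0, 0, 0, 0, 0, 0, 0, 0, 0, 0, 0, 0, 0, 0, 0, 0, 6, 2, 5, 3, 1, 3, 0, 0, 3, 6, 3, 5, 3, 5, 0, 0, 4, 2, 2, 1, 2],
  [0, 0, 0, 0, 0, 0, 0, 0, 0, 0, 0, 0, 0, 0, 0, 0, 0, 0, 0, 0, 0, 0, 0, 0, 0, 0, 6, 0, 0, 6, 0, 0, 0, 0, 0, 0, 0, 0, 0, 0, 1, 4, 3, 3, 6],
  [0, 0, 0, 0, 0, 0, 0, 0, 0, 0, 0, 0, 0, 0, 0, 0, 0, 0, 0, 0, 0, 0, 0, 0, 0, 0, 0, 6, 0, 3, 0, 0, 0, 0, 0, 0, 0, 0, 0, 0, 4, 4, 4, 4, 2],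
  [0, 0, 0, 0, 0, 0, 0, 0, 0, 0, 0, 0, 0, 0, 0, 0, 0, 0, 0, 0, 0, 0, 0, 0, 0, 0, 0, 0, 6, 1, 0, 0, 0, 0, 0, 0, 0, 0, 0, 0, 6, 2, 5, 5, 4],
  [0, 0, 0, 0, 0, 0, 0, 0, 0, 0, 0, 0, 0, 0, 0, 0, 0, 0, 0, 0, 0, 0, 0, 0, 0, 0, 0, 0, 0, 1, 0, 0, 0, 0, 0, 0, 0, 0, 0, 0, 5, 2, 4, 4, 2],
  [0, 0, 0, 0, 0, 0, 0, 0, 0, 0, 0, 0, 0, 0, 0, 0, 0, 0, 0, 0, 0, 0, 0, 0, 0, 0, 0, 0, 0, 0, 1, 1, 4, 5, 2, 5, 0, 5, 4, 2, 1, 2, 3, 3, 6],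
  [0, 0, 0, 0, 0, 0, 0, 0, 0, 0, 0, 0, 0, 0, 0, 0, 0, 0, 0, 0, 0, 0, 0, 0, 0, 0, 0, 0, 0, 0, 0, 4, 6, 5, 5, 2, 4, 5, 0, 0, 2, 3, 2, 1, 1],
  [0, 0, 0, 0, 0, 0, 0, 0, 0, 0, 0, 0, 0, 0, 0, 0, 0, 0, 0, 0, 0, 0, 0, 0, 0, 0, 0, 0, 0, 0, 0, 0, 6, 0, 3, 0, 0, 0, 0, 0, 3, 1, 5, 5, 1],
  [0, 0, 0, 0, 0, 0, 0, 0, 0, 0, 0, 0, 0, 0, 0, 0, 0, 0, 0, 0, 0, 0, 0, 0, 0, 0, 0, 0, 0, 0, 0, 5, 6, 4, 3, 2, 4, 5, 0, 0, 0, 0, 3, 4, 5],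
  [0, 0, 0, 0, 0, 0, 0, 0, 0, 0, 0, 0, 0, 0, 0, 0, 0, 0, 0, 0, 0, 0, 0, 0, 0, 0, 0, 0, 0, 0, 0, 0, 0, 0, 1, 0, 0, 0, 0, 0, 2, 5, 3, 3, 5],
  [0, 0, 0, 0, 0, 0, 0, 0, 0, 0, 0, 0, 0, 0, 0, 0, 0, 0, 0, 0, 0, 0, 0, 0, 0, 0, 0, 0, 0, 0, 0, 1, 4, 1, 4, 5, 5, 1, 0, 0, 2, 1, 4, 4, 1],
  [0, 0, 0, 0, 0, 0, 0, 0, 0, 0, 0, 0, 0, 0, 0, 0, 0, 0, 0, 0, 0, 0, 0, 0, 0, 0, 0, 0, 0, 0, 0, 0, 0, 0, 1, 0, 6, 0, 0, 0, 1, 2, 3, 6, 3],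
  [0, 0, 0, 0, 0, 0, 0, 0, 0, 0, 0, 0, 0, 0, 0, 0, 0, 0, 0, 0, 0, 0, 0, 0, 0, 0, 0, 0, 0, 0, 0, 0, 0, 0, 0, 0, 0, 6, 0, 0, 0, 2, 0, 6, 1],
  [0, 0, 0, 0, 0, 0, 0, 0, 0, 0, 0, 0, 0, 0, 0, 0, 0, 0, 0, 0, 0, 0, 0, 0, 0, 0, 0, 0, 0, 0, 0, 0, 0, 0, 0, 0, 0, 0, 6, 0, 0, 1, 1, 3, 1],
  [0, 0, 0, 0, 0, 0, 0, 0, 0, 0, 0, 0, 0, 0, 0, 0, 0, 0, 0, 0, 0, 0, 0, 0, 0, 0, 0, 0, 0, 0, 0, 0, 0, 0, 0, 0, 0, 0, 0, 6, 0, 0, 0, 0, 1],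
  [0, 0, 0, 0, 0, 0, 0, 0, 0, 0, 0, 0, 0, 0, 0, 0, 0, 0, 0, 0, 0, 0, 0, 0, 0, 0, 0, 0, 0, 0, 0, 0, 0, 0, 0, 0, 0, 0, 0, 0, 6, 2, 4, 4, 2],
  [0, 0, 0, 0, 0, 0, 0, 0, 0, 0, 0, 0, 0, 0, 0, 0, 0, 0, 0, 0, 0, 0, 0, 0, 0, 0, 0, 0, 0, 0, 0, 0, 0, 0, 0, 0, 0, 0, 0, 0, 0, 1, 0, 0, 0],
  [0, 0, 0, 0, 0, 0, 0, 0, 0, 0, 0, 0, 0, 0, 0, 0, 0, 0, 0, 0, 0, 0, 0, 0, 0, 0, 0, 0, 0, 0, 0, 0, 0, 0, 0, 0, 0, 0, 0, 0, 0, 0, 1, 0, 0],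
  [0, 0, 0, 0, 0, 0, 0, 0, 0, 0, 0, 0, 0, 0, 0, 0, 0, 0, 0, 0, 0, 0, 0, 0, 0, 0, 0, 0, 0, 0, 0, 0, 0, 0, 0, 0, 0, 0, 0, 0, 0, 0, 0, 1, 0],
  [0, 0, 0, 0, 0, 0, 0, 0, 0, 0, 0, 0, 0, 0, 0, 0, 0, 0, 0, 0, 0, 0, 0, 0, 0, 0, 0, 0, 0, 0, 0, 0, 0, 0, 0, 0, 0, 0, 0, 0, 0, 0, 0, 0, 1]]

theorem s15_1 : List.foldl (fun P x => mulT P (T x)) m15_0 [2, 3, 2, 3] = m15_1 := by decide +kernel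

/-- an intermediate product -/
def m15_2 : LM := [
  [1, 0, 0, 0, 3, 6, 0, 1, 0, 0, 0, 0, 0, 0, 0, 0, 0, 0, 0, 0, 0, 0, 0, 0, 0, 0, 0, 0, 0, 0, 0, 3, 2, 4, 6, 3, 4, 5, 1, 0, 6, 1, 1, 4, 6],
  [0, 1, 0, 0, 0, 0, 0, 0, 0, 0, 0, 3, 1, 6, 0, 0, 0, 0, 0, 0, 0, 0, 0, 0, 0, 0, 0, 0, 0, 0, 0, 3, 2, 4, 6, 3, 4, 5, 1, 0, 6, 1, 1, 2, 4],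
  [0, 0, 1, 0, 0, 3, 3, 0, 0, 0, 0, 0, 0, 0, 0, 1, 0, 0, 0, 0, 0, 0, 0, 0, 1, 3, 1, 2, 6, 6, 0, 4, 5, 3, 1, 4, 3, 1, 5, 2, 6, 5, 1, 2, 4],
  [2, 0, 1, 6, 1, 0, 1, 1, 0, 0, 0, 0, 0, 0, 0, 3, 0, 0, 0, 0, 0, 0, 0, 0, 6, 3, 2, 1, 6, 0, 0, 5, 1, 2, 3, 5, 2, 6, 4, 3, 5, 4, 4, 2, 3],
  [3, 0, 4, 0, 3, 0, 1, 1, 0, 0, 0, 0, 0, 0, 0, 6, 0, 0, 0, 0, 0, 0, 0, 0, 6, 4, 6, 5, 1, 1, 0, 6, 4, 1, 5, 6, 1, 4, 3, 5, 0, 6, 5, 5, 6],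
  [5, 0, 2, 0, 0, 2, 1, 3, 0, 0, 0, 0, 0, 0, 0, 4, 0, 0, 0, 0, 0, 0, 0, 0, 4, 5, 4, 1, 3, 3, 0, 4, 5, 3, 1, 4, 3, 5, 2, 1, 0, 4, 5, 4, 5],
  [0, 0, 0, 0, 0, 0, 1, 0, 0, 0, 0, 0, 0, 0, 0, 0, 0, 0, 0, 0, 0, 0, 0, 0, 0, 0, 0, 0, 0, 0, 0, 0, 0, 0, 0, 0, 0, 0, 0, 0, 0, 6, 2, 3, 0],
  [0, 0, 0, 0, 0, 0, 5, 2, 0, 0, 0, 0, 0, 0, 0, 1, 0, 0, 0, 0, 0, 0, 0, 0, 0, 0, 0, 0, 0, 0, 0, 0, 0, 0, 0, 0, 0, 0, 0, 0, 0, 6, 0, 2, 5],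
  [0, 0, 0, 0, 0, 0, 0, 0, 1, 0, 0, 0, 0, 0, 0, 0, 0, 0, 0, 0, 0, 0, 0, 0, 0, 0, 0, 0, 0, 0, 0, 0, 0, 0, 0, 0, 0, 0, 0, 3, 5, 5, 3, 6, 6],
  [0, 0, 0, 0, 0, 0, 0, 0, 0, 1, 0, 0, 0, 3, 3, 0, 0, 0, 0, 1, 0, 0, 0, 0, 1, 3, 1, 2, 6, 6, 0, 4, 5, 3, 1, 4, 3, 1, 5, 2, 6, 3, 0, 2, 2],
  [0, 2, 0, 0, 0, 0, 0, 0, 0, 1, 6, 1, 1, 0, 1, 0, 0, 0, 0, 3, 0, 0, 0, 0, 5, 2, 2, 0, 4, 3, 0, 1, 3, 6, 2, 1, 6, 0, 1, 5, 6, 1, 1, 2, 2],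
  [0, 3, 0, 0, 0, 0, 0, 0, 0, 4, 0, 3, 1, 0, 1, 0, 0, 0, 0, 6, 0, 0, 0, 0, 6, 4, 6, 5, 1, 1, 0, 6, 4, 1, 5, 6, 1, 4, 3, 5, 0, 4, 3, 6, 1],
  [0, 0, 0, 0, 0, 0, 0, 0, 0, 0, 0, 0, 2, 0, 5, 0, 0, 0, 0, 1, 0, 0, 0, 0, 0, 0, 0, 0, 0, 0, 0, 0, 0, 0, 0, 0, 0, 0, 0, 0, 0, 2, 4, 0, 0],
  [0, 5, 0, 0, 0, 0, 0, 0, 0, 2, 0, 0, 3, 2, 1, 0, 0, 0, 0, 4, 0, 0, 0, 0, 4, 5, 4, 1, 3, 3, 0, 4, 5, 3, 1, 4, 3, 5, 2, 1, 0, 3, 1, 2, 3],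
  [0, 0, 0, 0, 0, 0, 0, 0, 0, 0, 0, 0, 0, 0, 1, 0, 0, 0, 0, 0, 0, 0, 0, 0, 0, 0, 0, 0, 0, 0, 0, 0, 0, 0, 0, 0, 0, 0, 0, 0, 0, 2, 3, 1, 0],
  [0, 0, 0, 0, 0, 0, 2, 2, 0, 0, 0, 0, 0, 0, 0, 5, 0, 0, 0, 0, 0, 0, 0, 0, 0, 0, 0, 0, 0, 0, 0, 0, 0, 0, 0, 0, 0, 0, 0, 0, 0, 4, 1, 3, 4],
  [0, 0, 0, 0, 0, 0, 0, 0, 0, 0, 0, 0, 0, 0, 0, 0, 5, 3, 2, 0, 2, 0, 5, 1, 0, 0, 0, 0, 0, 0, 0, 0, 0, 0, 0, 0, 0, 5, 2, 6, 2, 0, 1, 1, 5],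
  [0, 0, 0, 0, 0, 0, 0, 0, 6, 0, 0, 0, 0, 0, 0, 0, 4, 4, 3, 0, 2, 0, 3, 4, 6, 3, 2, 1, 6, 0, 0, 4, 5, 3, 1, 4, 3, 2, 6, 3, 6, 3, 0, 4, 6],
  [0, 0, 0, 0, 0, 0, 0, 0, 6, 0, 0, 0, 0, 0, 0, 0, 6, 1, 6, 0, 0, 0, 5, 4, 1, 4, 5, 6, 1, 0, 0, 3, 2, 4, 6, 3, 4, 3, 3, 6, 1, 3, 5, 3, 4],
  [0, 0, 0, 0, 0, 0, 0, 0, 0, 0, 0, 0, 2, 0, 2, 0, 0, 0, 0, 5, 0, 0, 0, 0, 0, 0, 0, 0, 0, 0, 0, 0, 0, 0, 0, 0, 0, 0, 0, 0, 0, 6, 3, 5, 5],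
  [0, 0, 0, 0, 0, 0, 0, 0, 5, 0, 0, 0, 0, 0, 0, 0, 0, 0, 0, 0, 5, 0, 0, 6, 0, 0, 0, 0, 0, 0, 0, 0, 0, 0, 0, 0, 0, 0, 0, 1, 4, 3, 5, 6, 0],
  [0, 0, 0, 0, 0, 0, 0, 0, 1, 0, 0, 0, 0, 0, 0, 0, 6, 4, 6, 0, 5, 6, 4, 1, 1, 3, 1, 2, 6, 6, 0, 1, 3, 6, 2, 1, 6, 5, 4, 5, 5, 5, 6, 3, 6],
  [0, 0, 0, 0, 0, 0, 0, 0, 2, 0, 0, 0, 0, 0, 0, 0, 1, 6, 6, 0, 0, 0, 6, 5, 3, 5, 1, 4, 3, 0, 0, 2, 6, 5, 4, 2, 5, 2, 2, 5, 0, 1, 5, 4, 4],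
  [0, 0, 0, 0, 0, 0, 0, 0, 6, 0, 0, 0, 0, 0, 0, 0, 0, 0, 0, 0, 5, 0, 0, 2, 0, 0, 0, 0, 0, 0, 0, 0, 0, 0, 0, 0, 0, 0, 0, 5, 6, 1, 1, 1, 1],
  [0, 0, 0, 0, 0, 0, 0, 0, 0, 0, 0, 0, 0, 0, 0, 0, 0, 0, 0, 0, 0, 0, 0, 0, 5, 3, 2, 2, 1, 0, 0, 4, 5, 3, 1, 4, 3, 4, 4, 1, 6, 5, 3, 4, 5],
  [0, 0, 0, 0, 0, 0, 0, 0, 0, 0, 0, 0, 0, 0, 0, 0, 0, 0, 0, 0, 0, 0, 0, 0, 2, 6, 5, 2, 1, 2, 0, 4, 5, 3, 1, 4, 3, 4, 4, 0, 2, 1, 3, 6, 6],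
  [0, 0, 0, 0, 0, 0, 0, 0, 0, 0, 0, 0, 0, 0, 0, 0, 0, 0, 0, 0, 0, 0, 0, 0, 1, 6, 4, 0, 0, 3, 0, 0, 0, 0, 0, 0, 0, 0, 0, 5, 6, 5, 1, 4, 3],
  [0, 0, 0, 0, 0, 0, 0, 0, 0, 0, 0, 0, 0, 0, 0, 0, 0, 0, 0, 0, 0, 0, 0, 0, 0, 0, 0, 5, 6, 5, 0, 0, 0, 0, 0, 0, 0, 0, 0, 6, 3, 2, 4, 1, 1],
  [0, 0, 0, 0, 0, 0, 0, 0, 0, 0, 0, 0, 0, 0, 0, 0, 0, 0, 0, 0, 0, 0, 0, 0, 0, 0, 0, 5, 2, 6, 0, 0, 0, 0, 0, 0, 0, 0, 0, 2, 1, 5, 0, 1, 0],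
  [0, 0, 0, 0, 0, 0, 0, 0, 0, 0, 0, 0, 0, 0, 0, 0, 0, 0, 0, 0, 0, 0, 0, 0, 0, 0, 0, 0, 0, 1, 0, 0, 0, 0, 0, 0, 0, 0, 0, 4, 2, 2, 6, 4, 6],
  [0, 0, 0, 0, 0, 0, 0, 0, 0, 0, 0, 0, 0, 0, 0, 0, 0, 0, 0, 0, 0, 0, 0, 0, 0, 0, 0, 0, 0, 0, 6, 5, 2, 0, 6, 3, 2, 2, 1, 5, 6, 1, 3, 1, 1],
  [0, 0, 0, 0, 0, 0, 0, 0, 0, 0, 0, 0, 0, 0, 0, 0, 0, 0, 0, 0, 0, 0, 0, 0, 0, 0, 0, 0, 0, 0, 0, 6, 0, 6, 6, 5, 4, 4, 4, 4, 4, 3, 0, 1, 3],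
  [0, 0, 0, 0, 0, 0, 0, 0, 0, 0, 0, 0, 0, 0, 0, 0, 0, 0, 0, 0, 0, 0, 0, 0, 0, 0, 0, 0, 0, 0, 0, 0, 5, 0, 5, 0, 6, 0, 0, 1, 4, 6, 2, 6, 4],
  [0, 0, 0, 0, 0, 0, 0, 0, 0, 0, 0, 0, 0, 0, 0, 0, 0, 0, 0, 0, 0, 0, 0, 0, 0, 0, 0, 0, 0, 0, 0, 6, 0, 1, 1, 2, 4, 4, 4, 1, 6, 2, 6, 3, 6],
  [0, 0, 0, 0, 0, 0, 0, 0, 0, 0, 0, 0, 0, 0, 0, 0, 0, 0, 0, 0, 0, 0, 0, 0, 0, 0, 0, 0, 0, 0, 0, 0, 0, 0, 1, 0, 0, 0, 0, 3, 5, 6, 5, 2, 2],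
  [0, 0, 0, 0, 0, 0, 0, 0, 0, 0, 0, 0, 0, 0, 0, 0, 0, 0, 0, 0, 0, 0, 0, 0, 0, 0, 0, 0, 0, 0, 0, 6, 0, 1, 2, 6, 5, 5, 5, 6, 2, 4, 0, 5, 6],
  [0, 0, 0, 0, 0, 0, 0, 0, 0, 0, 0, 0, 0, 0, 0, 0, 0, 0, 0, 0, 0, 0, 0, 0, 0, 0, 0, 0, 0, 0, 0, 0, 5, 0, 6, 0, 2, 0, 0, 5, 6, 4, 0, 2, 3],
  [0, 0, 0, 0, 0, 0, 0, 0, 0, 0, 0, 0, 0, 0, 0, 0, 0, 0, 0, 0, 0, 0, 0, 0, 0, 0, 0, 0, 0, 0, 0, 0, 0, 0, 0, 0, 0, 3, 4, 1, 2, 3, 6, 2, 3],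
  [0, 0, 0, 0, 0, 0, 0, 0, 0, 0, 0, 0, 0, 0, 0, 0, 0, 0, 0, 0, 0, 0, 0, 0, 0, 0, 0, 0, 0, 0, 0, 0, 0, 0, 0, 0, 0, 1, 4, 5, 2, 3, 6, 4, 2],
  [0, 0, 0, 0, 0, 0, 0, 0, 0, 0, 0, 0, 0, 0, 0, 0, 0, 0, 0, 0, 0, 0, 0, 0, 0, 0, 0, 0, 0, 0, 0, 0, 0, 0, 0, 0, 0, 0, 0, 4, 1, 3, 4, 0, 1],
  [0, 0, 0, 0, 0, 0, 0, 0, 0, 0, 0, 0, 0, 0, 0, 0, 0, 0, 0, 0, 0, 0, 0, 0, 0, 0, 0, 0, 0, 0, 0, 0, 0, 0, 0, 0, 0, 0, 0, 4, 3, 4, 2, 5, 6],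
  [0, 0, 0, 0, 0, 0, 0, 0, 0, 0, 0, 0, 0, 0, 0, 0, 0, 0, 0, 0, 0, 0, 0, 0, 0, 0, 0, 0, 0, 0, 0, 0, 0, 0, 0, 0, 0, 0, 0, 0, 0, 1, 3, 1, 4],
  [0, 0, 0, 0, 0, 0, 0, 0, 0, 0, 0, 0, 0, 0, 0, 0, 0, 0, 0, 0, 0, 0, 0, 0, 0, 0, 0, 0, 0, 0, 0, 0, 0, 0, 0, 0, 0, 0, 0, 0, 0, 2, 6, 4, 5],
  [0, 0, 0, 0, 0, 0, 0, 0, 0, 0, 0, 0, 0, 0, 0, 0, 0, 0, 0, 0, 0, 0, 0, 0, 0, 0, 0, 0, 0, 0, 0, 0, 0, 0, 0, 0, 0, 0, 0, 0, 0, 4, 1, 6, 5],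
  [0, 0, 0, 0, 0, 0, 0, 0, 0, 0, 0, 0, 0, 0, 0, 0, 0, 0, 0, 0, 0, 0, 0, 0, 0, 0, 0, 0, 0, 0, 0, 0, 0, 0, 0, 0, 0, 0, 0, 0, 0, 1, 5, 4, 1]]

theorem s15_2 : List.foldl (fun P x => mulT P (T x)) m15_1 [2, 3, 2, 3] = m15_2 := by decide +kernel

theorem s15_3 : List.foldl (fun P x => mulT P (T x)) m15_2 [2, 3, 2, 3] = idL := by decide +kernel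

theorem wd15 : evalW T ([2, 3, 2, 3] ++ ([2, 3, 2, 3] ++ ([2, 3, 2, 3] ++ ([2, 3, 2, 3] ++ [])))) = idL := by
  unfold evalW
  rw [List.foldl_append, s15_0, List.foldl_append, s15_1, List.foldl_append, s15_2, List.foldl_append, s15_3]
  rfl

theorem s19_0 : List.foldl (fun P x => mulT P (T x)) idL [3, 1, 3, 1] = idL := by decide +kernel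

theorem wd19 : evalW T ([3, 1, 3, 1] ++ []) = idL := by
  unfold evalW
  rw [List.foldl_append, s19_0]
  rfl

theorem s28_0 : List.foldl (fun P x => mulT P (T x)) idL [4, 4] = idL := by decide +kernel

theorem wd28 : evalW T ([4, 4] ++ []) = idL := by
  unfold evalW
  rw [List.foldl_append, s28_0]
  rfl

/-- an intermediate product -/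
def m29_0 : LM := [
  [3, 0, 6, 0, 5, 5, 4, 2, 3, 0, 0, 0, 0, 0, 0, 4, 2, 5, 0, 0, 5, 1, 1, 2, 0, 3, 0, 0, 3, 2, 6, 1, 5, 0, 2, 5, 6, 2, 0, 0, 1, 3, 5, 3, 2],
  [3, 5, 6, 2, 1, 3, 0, 6, 1, 6, 5, 5, 5, 1, 1, 2, 0, 6, 1, 0, 3, 2, 6, 4, 4, 4, 5, 5, 1, 6, 1, 2, 1, 2, 6, 0, 3, 2, 0, 0, 1, 4, 6, 6, 3],
  [4, 0, 6, 6, 0, 5, 5, 3, 5, 0, 0, 0, 0, 0, 0, 1, 3, 2, 0, 0, 1, 3, 1, 6, 3, 3, 2, 0, 4, 5, 6, 2, 4, 6, 6, 4, 6, 4, 5, 4, 0, 1, 5, 2, 6],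
  [2, 0, 0, 1, 6, 4, 0, 4, 1, 0, 0, 0, 0, 0, 0, 6, 6, 6, 6, 0, 6, 6, 0, 4, 4, 4, 3, 5, 6, 6, 5, 4, 4, 6, 1, 4, 3, 4, 5, 2, 2, 1, 1, 1, 2],
  [2, 0, 4, 1, 6, 1, 6, 6, 6, 0, 0, 0, 0, 0, 0, 3, 2, 0, 2, 0, 4, 5, 3, 3, 6, 5, 0, 0, 6, 0, 0, 1, 1, 5, 3, 6, 0, 5, 2, 3, 1, 6, 5, 2, 3],
  [3, 0, 1, 3, 4, 4, 0, 4, 5, 0, 0, 0, 0, 0, 0, 2, 5, 1, 2, 0, 5, 1, 6, 2, 3, 2, 3, 0, 4, 0, 0, 1, 3, 5, 6, 1, 0, 1, 6, 2, 3, 2, 1, 0, 3],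
  [0, 0, 0, 0, 3, 6, 5, 0, 0, 0, 0, 0, 0, 0, 0, 0, 0, 0, 0, 0, 0, 0, 0, 0, 3, 4, 1, 0, 0, 1, 0, 6, 0, 0, 6, 5, 0, 0, 0, 0, 0, 4, 4, 3, 0],
  [0, 0, 2, 3, 3, 3, 6, 5, 5, 0, 0, 0, 0, 0, 0, 0, 4, 0, 1, 0, 6, 4, 0, 0, 6, 2, 4, 6, 5, 5, 2, 4, 0, 0, 0, 1, 1, 0, 0, 0, 0, 2, 5, 2, 3],
  [6, 0, 1, 3, 0, 2, 5, 5, 4, 0, 0, 0, 0, 0, 0, 0, 6, 6, 0, 0, 4, 4, 1, 2, 5, 0, 1, 0, 4, 2, 2, 6, 6, 1, 1, 0, 4, 6, 4, 1, 5, 3, 4, 0, 1],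
  [4, 2, 5, 1, 6, 2, 5, 3, 0, 4, 6, 2, 5, 3, 1, 0, 5, 4, 1, 0, 2, 0, 4, 4, 3, 0, 5, 4, 6, 1, 2, 3, 5, 5, 1, 2, 4, 4, 5, 4, 0, 4, 3, 5, 3],
  [5, 6, 0, 5, 0, 6, 4, 5, 5, 2, 6, 5, 0, 4, 5, 6, 2, 6, 4, 1, 3, 1, 2, 1, 3, 5, 5, 3, 4, 0, 3, 3, 3, 5, 3, 3, 0, 3, 1, 0, 4, 1, 2, 2, 6],
  [5, 2, 2, 1, 4, 3, 3, 3, 5, 3, 6, 3, 0, 3, 2, 2, 2, 2, 5, 0, 1, 2, 5, 0, 0, 5, 5, 1, 2, 1, 6, 1, 3, 4, 3, 2, 6, 5, 2, 3, 1, 1, 2, 4, 5],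
  [1, 5, 1, 1, 2, 5, 6, 0, 5, 4, 6, 6, 3, 5, 1, 1, 2, 1, 1, 4, 2, 3, 4, 1, 6, 1, 1, 6, 2, 4, 6, 6, 5, 1, 4, 6, 5, 0, 0, 0, 0, 1, 2, 1, 5],
  [2, 6, 5, 3, 2, 5, 5, 2, 4, 2, 4, 1, 0, 0, 2, 6, 4, 1, 0, 0, 3, 6, 2, 0, 4, 4, 3, 3, 6, 3, 4, 6, 2, 4, 6, 3, 4, 1, 6, 2, 3, 1, 3, 1, 1],
  [1, 0, 6, 0, 6, 0, 3, 0, 5, 0, 0, 3, 0, 6, 1, 0, 1, 6, 0, 0, 0, 0, 2, 0, 5, 2, 4, 0, 0, 4, 0, 4, 0, 5, 4, 4, 0, 0, 0, 0, 0, 1, 4, 3, 2],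
  [0, 0, 3, 1, 1, 3, 0, 5, 2, 0, 0, 0, 0, 0, 0, 2, 4, 1, 1, 0, 6, 2, 1, 1, 4, 3, 3, 0, 3, 2, 4, 2, 5, 5, 4, 5, 3, 0, 0, 0, 0, 1, 6, 3, 1],
  [3, 0, 3, 1, 2, 2, 6, 0, 6, 0, 0, 0, 0, 0, 0, 3, 0, 2, 2, 0, 3, 0, 5, 2, 4, 1, 0, 4, 5, 1, 3, 0, 2, 6, 4, 5, 3, 0, 0, 5, 2, 1, 4, 1, 1],
  [0, 0, 5, 0, 3, 3, 6, 4, 3, 0, 0, 0, 0, 0, 0, 6, 4, 0, 6, 0, 2, 3, 3, 4, 2, 3, 4, 3, 1, 0, 3, 3, 3, 1, 1, 3, 6, 4, 4, 1, 4, 5, 2, 1, 0],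
  [6, 0, 2, 4, 0, 4, 4, 1, 5, 0, 0, 0, 0, 0, 0, 4, 3, 0, 1, 0, 5, 1, 1, 0, 6, 6, 0, 1, 1, 1, 2, 6, 5, 3, 5, 2, 1, 2, 0, 5, 3, 3, 3, 4, 5],
  [3, 4, 5, 5, 1, 2, 2, 6, 3, 6, 6, 5, 3, 5, 1, 0, 2, 4, 2, 5, 2, 5, 6, 5, 4, 1, 1, 4, 1, 1, 4, 3, 6, 1, 0, 1, 0, 0, 0, 0, 0, 6, 1, 3, 4],
  [1, 0, 3, 1, 4, 3, 6, 6, 5, 0, 0, 0, 0, 0, 0, 1, 0, 2, 3, 0, 1, 3, 3, 5, 4, 3, 0, 5, 3, 5, 4, 5, 1, 4, 1, 2, 6, 2, 6, 5, 4, 3, 6, 4, 2],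
  [5, 0, 1, 0, 3, 4, 4, 2, 1, 0, 0, 0, 0, 0, 0, 1, 0, 3, 1, 0, 5, 4, 4, 4, 3, 4, 2, 4, 1, 0, 3, 1, 1, 4, 3, 1, 3, 5, 6, 6, 1, 2, 3, 3, 6],
  [5, 0, 5, 6, 5, 2, 3, 0, 2, 0, 0, 0, 0, 0, 0, 5, 1, 5, 4, 0, 0, 2, 4, 3, 0, 5, 3, 3, 2, 6, 2, 0, 3, 6, 5, 6, 2, 1, 6, 6, 6, 6, 2, 5, 0],
  [2, 0, 5, 1, 1, 6, 5, 4, 4, 0, 0, 0, 0, 0, 0, 4, 2, 0, 6, 0, 5, 3, 2, 1, 2, 6, 1, 3, 3, 5, 5, 1, 5, 3, 5, 3, 5, 3, 2, 4, 6, 4, 0, 0, 4],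
  [1, 0, 1, 5, 3, 5, 2, 4, 5, 0, 0, 0, 0, 0, 0, 5, 1, 3, 4, 0, 2, 3, 3, 6, 3, 1, 1, 3, 6, 4, 0, 4, 3, 4, 2, 0, 5, 5, 0, 2, 4, 5, 1, 3, 1],
  [6, 0, 3, 4, 2, 0, 5, 0, 6, 0, 0, 0, 0, 0, 0, 5, 3, 4, 3, 0, 3, 4, 4, 3, 5, 2, 4, 3, 0, 1, 4, 3, 1, 6, 4, 2, 6, 3, 1, 4, 0, 4, 6, 0, 6],
  [0, 0, 0, 5, 6, 0, 0, 6, 4, 0, 0, 0, 0, 0, 0, 0, 4, 2, 6, 0, 2, 2, 4, 1, 6, 0, 1, 0, 2, 5, 1, 1, 3, 1, 3, 4, 2, 3, 2, 4, 6, 0, 2, 6, 5],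
  [4, 0, 2, 0, 4, 4, 4, 2, 3, 0, 0, 0, 0, 0, 0, 4, 0, 6, 5, 0, 1, 4, 0, 0, 2, 6, 1, 2, 3, 5, 4, 6, 3, 5, 3, 0, 3, 5, 1, 2, 3, 2, 6, 3, 4],
  [2, 0, 0, 1, 3, 6, 2, 5, 6, 0, 0, 0, 0, 0, 0, 2, 1, 2, 5, 0, 6, 4, 1, 3, 2, 5, 1, 6, 0, 3, 3, 4, 3, 5, 3, 3, 6, 4, 5, 3, 1, 3, 6, 5, 6],
  [1, 0, 6, 4, 4, 6, 5, 2, 3, 0, 0, 0, 0, 0, 0, 0, 3, 6, 3, 0, 3, 3, 2, 5, 5, 4, 0, 0, 3, 1, 5, 4, 1, 6, 3, 6, 3, 1, 3, 6, 2, 4, 5, 0, 4],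
  [4, 0, 2, 6, 4, 5, 4, 0, 3, 0, 0, 0, 0, 0, 0, 2, 3, 5, 1, 0, 1, 2, 6, 3, 2, 2, 4, 2, 2, 3, 4, 6, 6, 5, 4, 2, 0, 0, 5, 1, 1, 5, 6, 1, 5],
  [6, 0, 1, 6, 4, 3, 4, 2, 6, 0, 0, 0, 0, 0, 0, 5, 1, 2, 2, 0, 4, 3, 4, 0, 3, 0, 4, 1, 0, 1, 4, 6, 5, 0, 5, 4, 0, 4, 4, 3, 2, 6, 0, 3, 6],
  [2, 0, 1, 2, 2, 5, 6, 4, 0, 0, 0, 0, 0, 0, 0, 4, 2, 0, 0, 0, 5, 1, 2, 3, 1, 4, 1, 0, 2, 6, 2, 2, 2, 5, 5, 4, 5, 2, 6, 5, 4, 2, 2, 6, 1],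
  [1, 0, 6, 3, 5, 5, 0, 4, 1, 0, 0, 0, 0, 0, 0, 5, 5, 0, 5, 0, 0, 6, 1, 5, 5, 0, 0, 1, 3, 0, 2, 1, 6, 1, 3, 3, 3, 5, 0, 2, 4, 5, 4, 6, 6],
  [2, 0, 5, 3, 5, 4, 0, 5, 1, 0, 0, 0, 0, 0, 0, 0, 6, 6, 6, 0, 4, 4, 6, 2, 0, 5, 4, 0, 4, 5, 2, 6, 6, 4, 3, 6, 4, 6, 4, 1, 5, 5, 1, 2, 0],
  [4, 0, 3, 5, 5, 1, 6, 3, 2, 0, 0, 0, 0, 0, 0, 1, 1, 5, 3, 0, 4, 1, 3, 3, 6, 0, 4, 3, 6, 2, 1, 5, 3, 3, 2, 6, 6, 0, 4, 0, 3, 6, 0, 3, 4],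
  [6, 0, 3, 5, 5, 3, 2, 3, 6, 0, 0, 0, 0, 0, 0, 4, 4, 0, 3, 0, 3, 0, 0, 1, 1, 0, 6, 4, 3, 6, 3, 3, 6, 2, 4, 5, 0, 3, 2, 4, 6, 1, 6, 1, 6],
  [1, 0, 6, 1, 2, 5, 6, 4, 1, 0, 0, 0, 0, 0, 0, 0, 2, 2, 5, 0, 6, 6, 1, 3, 6, 5, 3, 0, 6, 2, 3, 5, 2, 4, 4, 4, 6, 3, 6, 5, 0, 3, 1, 5, 4],
  [5, 0, 2, 5, 0, 5, 3, 6, 4, 0, 0, 0, 0, 0, 0, 0, 4, 2, 2, 0, 2, 2, 3, 1, 3, 3, 4, 0, 2, 5, 1, 5, 3, 6, 0, 1, 2, 3, 3, 4, 0, 0, 3, 2, 6],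
  [2, 0, 4, 1, 5, 3, 3, 0, 5, 0, 0, 0, 0, 0, 0, 1, 5, 2, 1, 0, 3, 0, 6, 4, 1, 1, 5, 4, 6, 4, 4, 6, 4, 1, 3, 1, 3, 0, 2, 5, 2, 3, 0, 1, 1],
  [2, 0, 5, 4, 4, 1, 0, 2, 1, 0, 0, 0, 0, 0, 0, 0, 4, 5, 3, 0, 3, 3, 4, 5, 0, 2, 3, 0, 3, 2, 5, 0, 1, 4, 1, 1, 3, 1, 0, 6, 0, 2, 6, 5, 2],
  [0, 0, 0, 0, 6, 5, 4, 0, 0, 0, 0, 0, 0, 0, 0, 0, 1, 6, 5, 0, 0, 0, 5, 0, 2, 5, 3, 0, 0, 3, 0, 1, 0, 0, 3, 2, 0, 0, 0, 0, 0, 5, 6, 2, 1],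
  [4, 0, 3, 0, 4, 2, 5, 0, 5, 0, 0, 0, 0, 0, 0, 0, 4, 3, 0, 0, 0, 0, 1, 0, 2, 5, 2, 0, 0, 6, 0, 0, 0, 4, 2, 1, 0, 0, 0, 0, 0, 6, 3, 4, 0],
  [6, 0, 1, 0, 6, 3, 2, 0, 3, 0, 0, 0, 0, 0, 0, 0, 5, 2, 2, 0, 0, 0, 0, 0, 1, 6, 5, 0, 0, 5, 0, 0, 0, 6, 5, 5, 0, 0, 0, 0, 0, 2, 2, 2, 3],
  [6, 0, 1, 0, 6, 3, 3, 0, 0, 0, 0, 0, 0, 0, 0, 0, 2, 5, 1, 0, 0, 0, 6, 0, 3, 4, 0, 0, 0, 3, 0, 0, 0, 6, 4, 5, 0, 0, 0, 0, 0, 0, 0, 1, 0]]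

theorem s29_0 : List.foldl (fun P x => mulT P (T x)) idL [4, 5, 4, 5] = m29_0 := by decide +kernel

theorem s29_1 : List.foldl (fun P x => mulT P (T x)) m29_0 [4, 5] = idL := by decide +kernel

theorem wd29 : evalW T ([4, 5, 4, 5] ++ ([4, 5] ++ [])) = idL := by
  unfold evalW
  rw [List.foldl_append, s29_0, List.foldl_append, s29_1]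
  rfl

theorem s31_0 : List.foldl (fun P x => mulT P (T x)) idL [5, 1, 5, 1] = idL := by decide +kernel

theorem wd31 : evalW T ([5, 1, 5, 1] ++ []) = idL := by
  unfold evalW
  rw [List.foldl_append, s31_0]
  rfl

theorem s49_0 : List.foldl (fun P x => mulT P (T x)) idL [8, 1, 9, 1] = idL := by decide +kernel

theorem wd49 : evalW T ([8, 1, 9, 1] ++ []) = idL := by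
  unfold evalW
  rw [List.foldl_append, s49_0]
  rfl

end Cfsg.Agent.Lib.Lead.ON45
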