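import Cfsg.Agent.Lib.Lead.ON45.Data

/-! # The relators of the triple cover hold on the 45-dimensional module: products of at most four letters at a time,
with the intermediate matrices written out (generated), part 2 -/

set_option autoImplicit false
set_option maxRecDepth 1000000
set_option maxHeartbeats 4000000

namespace Cfsg.Agent.Lib.Lead.ON45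

theorem s7_0 : List.foldl (fun P x => mulT P (T x)) idL [1, 1] = idL := by decide +kernel

theorem wd7 : evalW T ([1, 1] ++ []) = idL := by
  unfold evalW
  rw [List.foldl_append, s7_0]
  rfl

/-- an intermediate product -/
def m8_0 : LM := [
  [1, 0, 6, 2, 2, 2, 2, 0, 6, 0, 0, 0, 0, 0, 0, 5, 0, 5, 3, 0, 3, 2, 6, 1, 0, 0, 0, 0, 0, 0, 6, 6, 2, 5, 3, 0, 1, 2, 4, 5, 6, 0, 0, 0, 4],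
  [6, 5, 6, 3, 6, 6, 5, 0, 3, 3, 5, 0, 2, 4, 5, 2, 4, 2, 1, 5, 1, 0, 2, 5, 0, 0, 0, 0, 0, 0, 2, 2, 2, 2, 5, 4, 1, 4, 0, 3, 3, 0, 0, 0, 2],
  [4, 0, 3, 1, 2, 3, 6, 0, 3, 0, 0, 0, 0, 0, 0, 3, 5, 5, 6, 0, 0, 3, 6, 0, 4, 6, 3, 5, 2, 5, 2, 3, 1, 4, 2, 3, 2, 6, 3, 1, 4, 0, 0, 0, 2],
  [6, 0, 6, 2, 5, 1, 6, 0, 4, 0, 0, 0, 0, 0, 0, 6, 3, 0, 2, 0, 1, 2, 3, 4, 2, 5, 4, 3, 5, 1, 3, 6, 6, 6, 1, 4, 4, 5, 2, 1, 1, 0, 0, 0, 1],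
  [0, 0, 5, 5, 0, 5, 2, 0, 6, 0, 0, 0, 0, 0, 0, 1, 1, 0, 3, 0, 2, 1, 4, 0, 3, 1, 4, 2, 5, 2, 1, 5, 0, 4, 6, 2, 5, 2, 2, 3, 5, 0, 0, 0, 1],
  [1, 0, 2, 3, 3, 6, 5, 0, 6, 0, 0, 0, 0, 0, 0, 2, 2, 3, 5, 0, 5, 6, 1, 4, 2, 3, 5, 6, 1, 6, 2, 5, 1, 5, 0, 2, 3, 2, 0, 1, 5, 0, 0, 0, 4],
  [0, 0, 0, 0, 0, 0, 3, 0, 0, 0, 0, 0, 0, 0, 0, 3, 0, 0, 0, 0, 6, 0, 0, 2, 0, 0, 0, 0, 0, 0, 0, 0, 2, 0, 6, 0, 3, 0, 0, 2, 3, 0, 0, 0, 5],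
  [0, 0, 0, 0, 0, 0, 5, 0, 4, 0, 0, 0, 0, 0, 0, 4, 0, 0, 0, 0, 6, 0, 0, 3, 0, 0, 0, 0, 0, 0, 0, 0, 6, 0, 0, 0, 4, 0, 0, 6, 6, 0, 0, 0, 0],
  [0, 0, 0, 0, 0, 0, 3, 0, 3, 0, 0, 0, 0, 0, 0, 5, 0, 0, 0, 0, 0, 0, 0, 5, 0, 0, 0, 0, 0, 0, 0, 0, 1, 0, 5, 0, 5, 0, 0, 4, 1, 0, 0, 0, 6],
  [2, 3, 4, 3, 1, 4, 2, 0, 5, 3, 1, 3, 5, 4, 2, 3, 2, 2, 3, 0, 3, 5, 4, 2, 4, 6, 3, 5, 2, 5, 3, 4, 0, 6, 1, 5, 6, 4, 2, 5, 6, 0, 0, 0, 0],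
  [4, 2, 5, 1, 3, 0, 2, 0, 6, 6, 1, 1, 6, 0, 2, 4, 3, 3, 4, 6, 1, 4, 2, 6, 0, 5, 1, 3, 3, 5, 6, 2, 1, 6, 2, 0, 6, 0, 2, 4, 5, 0, 0, 0, 1],
  [2, 2, 0, 0, 6, 0, 6, 0, 6, 1, 1, 0, 3, 6, 3, 5, 2, 2, 1, 3, 4, 3, 1, 5, 3, 1, 4, 2, 5, 2, 0, 1, 6, 6, 3, 1, 3, 6, 2, 5, 2, 0, 0, 0, 0],
  [0, 0, 0, 0, 0, 0, 3, 0, 6, 0, 0, 0, 3, 0, 1, 1, 0, 0, 0, 3, 3, 0, 0, 0, 0, 0, 0, 0, 0, 0, 0, 0, 0, 0, 3, 0, 1, 0, 0, 1, 0, 0, 0, 0, 0],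
  [6, 3, 2, 4, 0, 6, 3, 0, 3, 2, 6, 5, 5, 4, 6, 0, 1, 2, 4, 4, 1, 1, 4, 6, 2, 3, 5, 6, 1, 6, 1, 3, 4, 3, 2, 6, 0, 6, 1, 5, 1, 0, 0, 0, 6],
  [0, 0, 0, 0, 0, 0, 3, 0, 5, 0, 0, 0, 5, 0, 1, 1, 0, 0, 0, 5, 5, 0, 0, 3, 0, 0, 0, 0, 0, 0, 0, 0, 5, 0, 4, 0, 1, 0, 0, 6, 2, 0, 0, 0, 2],
  [0, 0, 0, 0, 0, 0, 4, 0, 1, 0, 0, 0, 0, 0, 0, 3, 0, 0, 0, 0, 5, 0, 0, 5, 0, 0, 0, 0, 0, 0, 0, 0, 6, 0, 3, 0, 2, 0, 0, 6, 6, 0, 0, 0, 1],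
  [3, 0, 0, 2, 3, 2, 0, 0, 2, 0, 0, 0, 0, 0, 0, 4, 6, 6, 6, 0, 5, 2, 3, 2, 0, 0, 0, 0, 0, 0, 2, 5, 1, 5, 2, 6, 4, 3, 4, 5, 4, 0, 0, 0, 1],
  [2, 0, 0, 6, 4, 6, 2, 0, 1, 0, 0, 0, 0, 0, 0, 2, 3, 2, 2, 0, 5, 1, 5, 1, 2, 5, 4, 3, 5, 1, 5, 3, 4, 4, 3, 3, 5, 0, 3, 1, 2, 0, 0, 0, 2],
  [2, 0, 4, 2, 2, 4, 0, 0, 0, 0, 0, 0, 0, 0, 0, 1, 5, 5, 6, 0, 2, 3, 2, 1, 5, 2, 3, 4, 2, 6, 1, 6, 4, 4, 6, 5, 1, 1, 6, 2, 4, 0, 0, 0, 1],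
  [0, 0, 0, 0, 0, 0, 2, 0, 2, 0, 0, 0, 0, 0, 2, 2, 0, 0, 0, 3, 1, 0, 0, 4, 0, 0, 0, 0, 0, 0, 0, 0, 4, 0, 0, 0, 2, 0, 0, 2, 3, 0, 0, 0, 3],
  [0, 0, 0, 0, 0, 0, 5, 0, 4, 0, 0, 0, 0, 0, 0, 6, 0, 0, 0, 0, 0, 0, 0, 2, 0, 0, 0, 0, 0, 0, 0, 0, 6, 0, 2, 0, 6, 0, 0, 0, 2, 0, 0, 0, 1],
  [4, 0, 2, 3, 3, 0, 3, 0, 3, 0, 0, 0, 0, 0, 0, 3, 5, 1, 1, 0, 4, 3, 0, 6, 4, 6, 3, 5, 2, 5, 2, 0, 0, 5, 0, 2, 4, 3, 2, 3, 3, 0, 0, 0, 1],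
  [6, 0, 4, 0, 2, 2, 6, 0, 5, 0, 0, 0, 0, 0, 0, 1, 4, 5, 1, 0, 6, 4, 4, 6, 1, 6, 2, 5, 6, 4, 2, 4, 2, 0, 2, 5, 5, 4, 1, 0, 5, 0, 0, 0, 5],
  [0, 0, 0, 0, 0, 0, 4, 0, 1, 0, 0, 0, 0, 0, 0, 1, 0, 0, 0, 0, 4, 0, 0, 6, 0, 0, 0, 0, 0, 0, 0, 0, 2, 0, 1, 0, 1, 0, 0, 3, 0, 0, 0, 0, 5],
  [3, 0, 6, 3, 4, 4, 3, 0, 6, 0, 0, 0, 0, 0, 0, 5, 6, 0, 6, 0, 5, 3, 4, 3, 1, 4, 0, 6, 1, 2, 4, 6, 1, 4, 1, 1, 5, 3, 4, 1, 4, 0, 0, 0, 4],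
  [0, 0, 5, 2, 5, 0, 5, 0, 4, 0, 0, 0, 0, 0, 0, 4, 2, 1, 5, 0, 5, 4, 1, 4, 5, 3, 3, 5, 4, 2, 2, 3, 6, 3, 2, 6, 6, 5, 6, 2, 6, 0, 0, 0, 3],
  [1, 0, 4, 5, 1, 4, 4, 0, 4, 0, 0, 0, 0, 0, 0, 0, 2, 2, 3, 0, 3, 3, 3, 5, 6, 2, 2, 2, 0, 5, 4, 2, 4, 6, 4, 1, 5, 4, 6, 1, 6, 0, 0, 0, 1],
  [0, 0, 0, 0, 0, 0, 2, 0, 5, 0, 0, 0, 0, 0, 0, 5, 0, 0, 0, 0, 2, 0, 0, 6, 0, 0, 0, 2, 5, 4, 0, 0, 3, 0, 0, 0, 5, 0, 0, 1, 4, 0, 0, 0, 4],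
  [0, 0, 0, 0, 0, 0, 3, 0, 6, 0, 0, 0, 0, 0, 0, 1, 0, 0, 0, 0, 6, 0, 0, 6, 0, 0, 0, 4, 5, 5, 0, 0, 0, 0, 5, 0, 1, 0, 0, 0, 4, 0, 0, 0, 0],
  [0, 0, 0, 0, 0, 0, 4, 0, 2, 0, 0, 0, 0, 0, 0, 2, 0, 0, 0, 0, 2, 0, 0, 1, 0, 0, 0, 2, 2, 0, 0, 0, 6, 0, 2, 0, 2, 0, 0, 0, 6, 0, 0, 0, 1],
  [0, 0, 5, 6, 0, 3, 4, 0, 2, 0, 0, 0, 0, 0, 0, 2, 0, 5, 6, 0, 5, 4, 4, 2, 0, 0, 0, 0, 0, 0, 6, 5, 3, 3, 0, 6, 0, 4, 2, 1, 3, 0, 0, 0, 1],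
  [6, 0, 2, 2, 3, 5, 4, 0, 1, 0, 0, 0, 0, 0, 0, 4, 0, 2, 4, 0, 0, 2, 0, 3, 0, 0, 0, 0, 0, 0, 5, 2, 3, 3, 0, 4, 5, 3, 6, 4, 5, 0, 0, 0, 5],
  [0, 0, 0, 0, 0, 0, 2, 0, 3, 0, 0, 0, 0, 0, 0, 1, 0, 0, 0, 0, 4, 0, 0, 5, 0, 0, 0, 0, 0, 0, 0, 0, 3, 0, 2, 0, 0, 0, 0, 6, 3, 0, 1, 0, 3],
  [4, 0, 3, 3, 6, 5, 6, 0, 6, 0, 0, 0, 0, 0, 0, 3, 0, 0, 2, 0, 3, 4, 5, 5, 0, 0, 0, 0, 0, 0, 3, 0, 4, 0, 0, 4, 5, 4, 1, 5, 4, 0, 0, 0, 5],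
  [0, 0, 0, 0, 0, 0, 2, 0, 1, 0, 0, 0, 0, 0, 0, 2, 0, 0, 0, 0, 1, 0, 0, 3, 0, 0, 0, 0, 0, 0, 0, 0, 3, 0, 3, 0, 2, 0, 0, 2, 2, 1, 0, 0, 4],
  [5, 0, 5, 6, 0, 4, 6, 0, 4, 0, 0, 0, 0, 0, 0, 6, 3, 2, 5, 0, 4, 0, 1, 0, 0, 0, 0, 0, 0, 0, 5, 0, 6, 5, 2, 5, 4, 3, 6, 0, 5, 0, 0, 0, 6],
  [0, 0, 0, 0, 0, 0, 6, 0, 3, 0, 0, 0, 0, 0, 0, 6, 0, 0, 0, 0, 3, 0, 0, 2, 0, 0, 0, 0, 0, 0, 0, 0, 1, 0, 4, 0, 0, 0, 0, 2, 1, 0, 0, 1, 6],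
  [2, 0, 5, 1, 4, 5, 2, 0, 5, 0, 0, 0, 0, 0, 0, 3, 0, 4, 6, 0, 6, 0, 2, 6, 0, 0, 0, 0, 0, 0, 1, 0, 1, 1, 2, 6, 4, 4, 5, 1, 4, 0, 0, 0, 3],
  [2, 0, 3, 2, 5, 0, 2, 0, 2, 0, 0, 0, 0, 0, 0, 4, 2, 5, 3, 0, 5, 2, 6, 0, 0, 0, 0, 0, 0, 0, 3, 3, 1, 0, 4, 4, 5, 0, 1, 1, 4, 0, 0, 0, 1],
  [0, 0, 0, 0, 0, 0, 1, 0, 2, 0, 0, 0, 0, 0, 0, 2, 0, 0, 0, 0, 1, 0, 0, 3, 0, 0, 0, 0, 0, 0, 0, 0, 0, 0, 1, 0, 2, 0, 0, 1, 4, 0, 0, 0, 0],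
  [0, 0, 0, 0, 0, 0, 0, 0, 1, 0, 0, 0, 0, 0, 0, 3, 0, 0, 0, 0, 5, 0, 0, 1, 0, 0, 0, 0, 0, 0, 0, 0, 4, 0, 6, 0, 3, 0, 0, 0, 6, 0, 0, 0, 3],
  [0, 0, 0, 0, 0, 0, 6, 0, 1, 0, 0, 0, 0, 0, 0, 0, 0, 0, 0, 0, 0, 0, 0, 0, 0, 0, 0, 0, 0, 0, 0, 0, 3, 0, 4, 0, 0, 0, 0, 0, 3, 0, 0, 0, 4],
  [0, 0, 0, 0, 0, 0, 4, 0, 6, 0, 0, 0, 0, 0, 0, 2, 0, 0, 0, 0, 1, 0, 0, 3, 0, 0, 0, 0, 0, 0, 0, 0, 6, 0, 6, 0, 2, 0, 0, 6, 4, 0, 0, 0, 0],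
  [0, 0, 0, 0, 0, 0, 6, 0, 6, 0, 0, 0, 0, 0, 0, 1, 0, 0, 0, 0, 4, 0, 0, 5, 0, 0, 0, 0, 0, 0, 0, 0, 5, 0, 1, 0, 1, 0, 0, 6, 4, 0, 0, 0, 2],
  [0, 0, 0, 0, 0, 0, 6, 1, 0, 0, 0, 0, 0, 0, 0, 5, 0, 0, 0, 0, 1, 0, 0, 5, 0, 0, 0, 0, 0, 0, 0, 0, 6, 0, 2, 0, 4, 0, 0, 4, 5, 0, 0, 0, 0]]

theorem s8_0 : List.foldl (fun P x => mulT P (T x)) idL [1, 2, 1, 2] = m8_0 := by decide +kernel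

theorem s8_1 : List.foldl (fun P x => mulT P (T x)) m8_0 [1, 2] = idL := by decide +kernel

theorem wd8 : evalW T ([1, 2, 1, 2] ++ ([1, 2] ++ [])) = idL := by
  unfold evalW
  rw [List.foldl_append, s8_0, List.foldl_append, s8_1]
  rfl

theorem s11_0 : List.foldl (fun P x => mulT P (T x)) idL [1, 5, 1, 5] = idL := by decide +kernel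

theorem wd11 : evalW T ([1, 5, 1, 5] ++ []) = idL := by
  unfold evalW
  rw [List.foldl_append, s11_0]
  rfl

/-- an intermediate product -/
def m20_0 : LM := [
  [1, 0, 0, 0, 3, 6, 0, 1, 0, 0, 0, 0, 0, 0, 0, 0, 0, 0, 0, 0, 0, 0, 0, 0, 0, 0, 0, 0, 0, 0, 0, 3, 2, 4, 6, 3, 4, 5, 1, 0, 6, 1, 1, 4, 6],
  [0, 1, 0, 0, 0, 0, 0, 0, 0, 0, 0, 3, 1, 6, 0, 0, 0, 0, 0, 0, 0, 0, 0, 0, 0, 0, 0, 0, 0, 0, 0, 3, 2, 4, 6, 3, 4, 5, 1, 0, 6, 1, 1, 2, 4],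
  [0, 0, 1, 0, 0, 3, 3, 0, 0, 0, 0, 0, 0, 0, 0, 1, 0, 0, 0, 0, 0, 0, 0, 0, 1, 3, 1, 2, 6, 6, 0, 4, 5, 3, 1, 4, 3, 1, 5, 2, 6, 5, 1, 2, 4],
  [2, 0, 1, 6, 1, 0, 1, 1, 0, 0, 0, 0, 0, 0, 0, 3, 0, 0, 0, 0, 0, 0, 0, 0, 6, 3, 2, 1, 6, 0, 0, 5, 1, 2, 3, 5, 2, 6, 4, 3, 5, 4, 4, 2, 3],
  [3, 0, 4, 0, 3, 0, 1, 1, 0, 0, 0, 0, 0, 0, 0, 6, 0, 0, 0, 0, 0, 0, 0, 0, 6, 4, 6, 5, 1, 1, 0, 6, 4, 1, 5, 6, 1, 4, 3, 5, 0, 6, 5, 5, 6],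
  [5, 0, 2, 0, 0, 2, 1, 3, 0, 0, 0, 0, 0, 0, 0, 4, 0, 0, 0, 0, 0, 0, 0, 0, 4, 5, 4, 1, 3, 3, 0, 4, 5, 3, 1, 4, 3, 5, 2, 1, 0, 4, 5, 4, 5],
  [0, 0, 0, 0, 0, 0, 1, 0, 0, 0, 0, 0, 0, 0, 0, 0, 0, 0, 0, 0, 0, 0, 0, 0, 0, 0, 0, 0, 0, 0, 0, 0, 0, 0, 0, 0, 0, 0, 0, 0, 0, 6, 2, 3, 0],
  [0, 0, 0, 0, 0, 0, 5, 2, 0, 0, 0, 0, 0, 0, 0, 1, 0, 0, 0, 0, 0, 0, 0, 0, 0, 0, 0, 0, 0, 0, 0, 0, 0, 0, 0, 0, 0, 0, 0, 0, 0, 6, 0, 2, 5],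
  [0, 0, 0, 0, 0, 0, 0, 0, 1, 0, 0, 0, 0, 0, 0, 0, 0, 0, 0, 0, 0, 0, 0, 0, 0, 0, 0, 0, 0, 0, 0, 0, 0, 0, 0, 0, 0, 0, 0, 3, 5, 5, 3, 6, 6],
  [0, 0, 0, 0, 0, 0, 0, 0, 0, 1, 0, 0, 0, 3, 3, 0, 0, 0, 0, 1, 0, 0, 0, 0, 1, 3, 1, 2, 6, 6, 0, 4, 5, 3, 1, 4, 3, 1, 5, 2, 6, 3, 0, 2, 2],
  [0, 2, 0, 0, 0, 0, 0, 0, 0, 1, 6, 1, 1, 0, 1, 0, 0, 0, 0, 3, 0, 0, 0, 0, 5, 2, 2, 0, 4, 3, 0, 1, 3, 6, 2, 1, 6, 0, 1, 5, 6, 1, 1, 2, 2],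
  [0, 3, 0, 0, 0, 0, 0, 0, 0, 4, 0, 3, 1, 0, 1, 0, 0, 0, 0, 6, 0, 0, 0, 0, 6, 4, 6, 5, 1, 1, 0, 6, 4, 1, 5, 6, 1, 4, 3, 5, 0, 4, 3, 6, 1],
  [0, 0, 0, 0, 0, 0, 0, 0, 0, 0, 0, 0, 2, 0, 5, 0, 0, 0, 0, 1, 0, 0, 0, 0, 0, 0, 0, 0, 0, 0, 0, 0, 0, 0, 0, 0, 0, 0, 0, 0, 0, 2, 4, 0, 0],
  [0, 5, 0, 0, 0, 0, 0, 0, 0, 2, 0, 0, 3, 2, 1, 0, 0, 0, 0, 4, 0, 0, 0, 0, 4, 5, 4, 1, 3, 3, 0, 4, 5, 3, 1, 4, 3, 5, 2, 1, 0, 3, 1, 2, 3],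
  [0, 0, 0, 0, 0, 0, 0, 0, 0, 0, 0, 0, 0, 0, 1, 0, 0, 0, 0, 0, 0, 0, 0, 0, 0, 0, 0, 0, 0, 0, 0, 0, 0, 0, 0, 0, 0, 0, 0, 0, 0, 2, 3, 1, 0],
  [0, 0, 0, 0, 0, 0, 2, 2, 0, 0, 0, 0, 0, 0, 0, 5, 0, 0, 0, 0, 0, 0, 0, 0, 0, 0, 0, 0, 0, 0, 0, 0, 0, 0, 0, 0, 0, 0, 0, 0, 0, 4, 1, 3, 4],
  [0, 0, 0, 0, 0, 0, 0, 0, 0, 0, 0, 0, 0, 0, 0, 0, 5, 3, 2, 0, 2, 0, 5, 1, 0, 0, 0, 0, 0, 0, 0, 0, 0, 0, 0, 0, 0, 5, 2, 6, 2, 0, 1, 1, 5],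
  [0, 0, 0, 0, 0, 0, 0, 0, 6, 0, 0, 0, 0, 0, 0, 0, 4, 4, 3, 0, 2, 0, 3, 4, 6, 3, 2, 1, 6, 0, 0, 4, 5, 3, 1, 4, 3, 2, 6, 3, 6, 3, 0, 4, 6],
  [0, 0, 0, 0, 0, 0, 0, 0, 6, 0, 0, 0, 0, 0, 0, 0, 6, 1, 6, 0, 0, 0, 5, 4, 1, 4, 5, 6, 1, 0, 0, 3, 2, 4, 6, 3, 4, 3, 3, 6, 1, 3, 5, 3, 4],
  [0, 0, 0, 0, 0, 0, 0, 0, 0, 0, 0, 0, 2, 0, 2, 0, 0, 0, 0, 5, 0, 0, 0, 0, 0, 0, 0, 0, 0, 0, 0, 0, 0, 0, 0, 0, 0, 0, 0, 0, 0, 6, 3, 5, 5],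
  [0, 0, 0, 0, 0, 0, 0, 0, 5, 0, 0, 0, 0, 0, 0, 0, 0, 0, 0, 0, 5, 0, 0, 6, 0, 0, 0, 0, 0, 0, 0, 0, 0, 0, 0, 0, 0, 0, 0, 1, 4, 3, 5, 6, 0],
  [0, 0, 0, 0, 0, 0, 0, 0, 1, 0, 0, 0, 0, 0, 0, 0, 6, 4, 6, 0, 5, 6, 4, 1, 1, 3, 1, 2, 6, 6, 0, 1, 3, 6, 2, 1, 6, 5, 4, 5, 5, 5, 6, 3, 6],
  [0, 0, 0, 0, 0, 0, 0, 0, 2, 0, 0, 0, 0, 0, 0, 0, 1, 6, 6, 0, 0, 0, 6, 5, 3, 5, 1, 4, 3, 0, 0, 2, 6, 5, 4, 2, 5, 2, 2, 5, 0, 1, 5, 4, 4],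
  [0, 0, 0, 0, 0, 0, 0, 0, 6, 0, 0, 0, 0, 0, 0, 0, 0, 0, 0, 0, 5, 0, 0, 2, 0, 0, 0, 0, 0, 0, 0, 0, 0, 0, 0, 0, 0, 0, 0, 5, 6, 1, 1, 1, 1],
  [0, 0, 0, 0, 0, 0, 0, 0, 0, 0, 0, 0, 0, 0, 0, 0, 0, 0, 0, 0, 0, 0, 0, 0, 5, 3, 2, 2, 1, 0, 0, 4, 5, 3, 1, 4, 3, 4, 4, 1, 6, 5, 3, 4, 5],
  [0, 0, 0, 0, 0, 0, 0, 0, 0, 0, 0, 0, 0, 0, 0, 0, 0, 0, 0, 0, 0, 0, 0, 0, 2, 6, 5, 2, 1, 2, 0, 4, 5, 3, 1, 4, 3, 4, 4, 0, 2, 1, 3, 6, 6],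
  [0, 0, 0, 0, 0, 0, 0, 0, 0, 0, 0, 0, 0, 0, 0, 0, 0, 0, 0, 0, 0, 0, 0, 0, 1, 6, 4, 0, 0, 3, 0, 0, 0, 0, 0, 0, 0, 0, 0, 5, 6, 5, 1, 4, 3],
  [0, 0, 0, 0, 0, 0, 0, 0, 0, 0, 0, 0, 0, 0, 0, 0, 0, 0, 0, 0, 0, 0, 0, 0, 0, 0, 0, 5, 6, 5, 0, 0, 0, 0, 0, 0, 0, 0, 0, 6, 3, 2, 4, 1, 1],
  [0, 0, 0, 0, 0, 0, 0, 0, 0, 0, 0, 0, 0, 0, 0, 0, 0, 0, 0, 0, 0, 0, 0, 0, 0, 0, 0, 5, 2, 6, 0, 0, 0, 0, 0, 0, 0, 0, 0, 2, 1, 5, 0, 1, 0],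
  [0, 0, 0, 0, 0, 0, 0, 0, 0, 0, 0, 0, 0, 0, 0, 0, 0, 0, 0, 0, 0, 0, 0, 0, 0, 0, 0, 0, 0, 1, 0, 0, 0, 0, 0, 0, 0, 0, 0, 4, 2, 2, 6, 4, 6],
  [0, 0, 0, 0, 0, 0, 0, 0, 0, 0, 0, 0, 0, 0, 0, 0, 0, 0, 0, 0, 0, 0, 0, 0, 0, 0, 0, 0, 0, 0, 6, 5, 2, 0, 6, 3, 2, 2, 1, 5, 6, 1, 3, 1, 1],
  [0, 0, 0, 0, 0, 0, 0, 0, 0, 0, 0, 0, 0, 0, 0, 0, 0, 0, 0, 0, 0, 0, 0, 0, 0, 0, 0, 0, 0, 0, 0, 6, 0, 6, 6, 5, 4, 4, 4, 4, 4, 3, 0, 1, 3],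
  [0, 0, 0, 0, 0, 0, 0, 0, 0, 0, 0, 0, 0, 0, 0, 0, 0, 0, 0, 0, 0, 0, 0, 0, 0, 0, 0, 0, 0, 0, 0, 0, 5, 0, 5, 0, 6, 0, 0, 1, 4, 6, 2, 6, 4],
  [0, 0, 0, 0, 0, 0, 0, 0, 0, 0, 0, 0, 0, 0, 0, 0, 0, 0, 0, 0, 0, 0, 0, 0, 0, 0, 0, 0, 0, 0, 0, 6, 0, 1, 1, 2, 4, 4, 4, 1, 6, 2, 6, 3, 6],
  [0, 0, 0, 0, 0, 0, 0, 0, 0, 0, 0, 0, 0, 0, 0, 0, 0, 0, 0, 0, 0, 0, 0, 0, 0, 0, 0, 0, 0, 0, 0, 0, 0, 0, 1, 0, 0, 0, 0, 3, 5, 6, 5, 2, 2],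
  [0, 0, 0, 0, 0, 0, 0, 0, 0, 0, 0, 0, 0, 0, 0, 0, 0, 0, 0, 0, 0, 0, 0, 0, 0, 0, 0, 0, 0, 0, 0, 6, 0, 1, 2, 6, 5, 5, 5, 6, 2, 4, 0, 5, 6],
  [0, 0, 0, 0, 0, 0, 0, 0, 0, 0, 0, 0, 0, 0, 0, 0, 0, 0, 0, 0, 0, 0, 0, 0, 0, 0, 0, 0, 0, 0, 0, 0, 5, 0, 6, 0, 2, 0, 0, 5, 6, 4, 0, 2, 3],
  [0, 0, 0, 0, 0, 0, 0, 0, 0, 0, 0, 0, 0, 0, 0, 0, 0, 0, 0, 0, 0, 0, 0, 0, 0, 0, 0, 0, 0, 0, 0, 0, 0, 0, 0, 0, 0, 3, 4, 1, 2, 3, 6, 2, 3],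
  [0, 0, 0, 0, 0, 0, 0, 0, 0, 0, 0, 0, 0, 0, 0, 0, 0, 0, 0, 0, 0, 0, 0, 0, 0, 0, 0, 0, 0, 0, 0, 0, 0, 0, 0, 0, 0, 1, 4, 5, 2, 3, 6, 4, 2],
  [0, 0, 0, 0, 0, 0, 0, 0, 0, 0, 0, 0, 0, 0, 0, 0, 0, 0, 0, 0, 0, 0, 0, 0, 0, 0, 0, 0, 0, 0, 0, 0, 0, 0, 0, 0, 0, 0, 0, 4, 1, 3, 4, 0, 1],
  [0, 0, 0, 0, 0, 0, 0, 0, 0, 0, 0, 0, 0, 0, 0, 0, 0, 0, 0, 0, 0, 0, 0, 0, 0, 0, 0, 0, 0, 0, 0, 0, 0, 0, 0, 0, 0, 0, 0, 4, 3, 4, 2, 5, 6],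
  [0, 0, 0, 0, 0, 0, 0, 0, 0, 0, 0, 0, 0, 0, 0, 0, 0, 0, 0, 0, 0, 0, 0, 0, 0, 0, 0, 0, 0, 0, 0, 0, 0, 0, 0, 0, 0, 0, 0, 0, 0, 1, 3, 1, 4],
  [0, 0, 0, 0, 0, 0, 0, 0, 0, 0, 0, 0, 0, 0, 0, 0, 0, 0, 0, 0, 0, 0, 0, 0, 0, 0, 0, 0, 0, 0, 0, 0, 0, 0, 0, 0, 0, 0, 0, 0, 0, 2, 6, 4, 5],
  [0, 0, 0, 0, 0, 0, 0, 0, 0, 0, 0, 0, 0, 0, 0, 0, 0, 0, 0, 0, 0, 0, 0, 0, 0, 0, 0, 0, 0, 0, 0, 0, 0, 0, 0, 0, 0, 0, 0, 0, 0, 4, 1, 6, 5],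
  [0, 0, 0, 0, 0, 0, 0, 0, 0, 0, 0, 0, 0, 0, 0, 0, 0, 0, 0, 0, 0, 0, 0, 0, 0, 0, 0, 0, 0, 0, 0, 0, 0, 0, 0, 0, 0, 0, 0, 0, 0, 1, 5, 4, 1]]

theorem s20_0 : List.foldl (fun P x => mulT P (T x)) idL [3, 2, 3, 2] = m20_0 := by decide +kernel

/-- an intermediate product -/
def m20_1 : LM := [
  [5, 0, 3, 0, 5, 4, 0, 3, 0, 0, 0, 0, 0, 0, 0, 1, 0, 0, 0, 0, 0, 0, 0, 0, 0, 0, 0, 0, 0, 0, 0, 0, 4, 1, 4, 2, 4, 1, 5, 3, 0, 6, 6, 1, 6],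
  [0, 5, 0, 0, 0, 0, 0, 0, 0, 3, 0, 5, 3, 4, 0, 0, 0, 0, 0, 1, 0, 0, 0, 0, 0, 0, 0, 0, 0, 0, 0, 0, 4, 1, 4, 2, 4, 1, 5, 3, 0, 1, 3, 3, 2],
  [1, 0, 0, 0, 0, 2, 4, 4, 0, 0, 0, 0, 0, 0, 0, 4, 0, 0, 0, 0, 0, 0, 0, 0, 4, 3, 6, 4, 1, 6, 0, 0, 3, 6, 3, 5, 3, 4, 1, 1, 4, 2, 2, 6, 3],
  [3, 0, 4, 1, 1, 1, 1, 3, 0, 0, 0, 0, 0, 0, 0, 6, 0, 0, 0, 0, 0, 0, 0, 0, 4, 3, 5, 3, 0, 4, 0, 0, 2, 4, 2, 1, 2, 1, 2, 0, 5, 2, 3, 2, 6],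
  [5, 0, 2, 0, 4, 2, 5, 6, 0, 0, 0, 0, 0, 0, 0, 4, 0, 0, 0, 0, 0, 0, 0, 0, 3, 4, 1, 3, 6, 1, 0, 0, 1, 2, 1, 4, 1, 4, 4, 2, 3, 2, 3, 0, 6],
  [1, 0, 6, 0, 1, 5, 4, 4, 0, 0, 0, 0, 0, 0, 0, 5, 0, 0, 0, 0, 0, 0, 0, 0, 2, 5, 3, 2, 4, 3, 0, 0, 3, 6, 3, 5, 3, 5, 5, 6, 2, 6, 2, 1, 2],
  [0, 0, 0, 0, 0, 0, 1, 0, 0, 0, 0, 0, 0, 0, 0, 0, 0, 0, 0, 0, 0, 0, 0, 0, 0, 0, 0, 0, 0, 0, 0, 0, 0, 0, 0, 0, 0, 0, 0, 0, 0, 0, 0, 0, 0],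
  [0, 0, 0, 0, 0, 0, 3, 6, 0, 0, 0, 0, 0, 0, 0, 0, 0, 0, 0, 0, 0, 0, 0, 0, 0, 0, 0, 0, 0, 0, 0, 0, 0, 0, 0, 0, 0, 0, 0, 0, 0, 2, 0, 4, 4],
  [0, 0, 0, 0, 0, 0, 0, 0, 1, 0, 0, 0, 0, 0, 0, 0, 0, 0, 0, 0, 0, 0, 0, 0, 0, 0, 0, 0, 0, 0, 0, 0, 0, 0, 0, 0, 0, 0, 0, 0, 2, 5, 3, 3, 5],
  [0, 1, 0, 0, 0, 0, 0, 0, 0, 0, 0, 0, 4, 2, 4, 0, 0, 0, 0, 4, 0, 0, 0, 0, 4, 3, 6, 4, 1, 6, 0, 0, 3, 6, 3, 5, 3, 4, 1, 1, 4, 2, 0, 3, 2],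
  [0, 3, 0, 0, 0, 0, 0, 0, 0, 4, 1, 1, 3, 1, 1, 0, 0, 0, 0, 6, 0, 0, 0, 0, 5, 2, 5, 6, 4, 6, 0, 0, 6, 5, 6, 3, 6, 0, 4, 1, 4, 4, 4, 3, 4],
  [0, 5, 0, 0, 0, 0, 0, 0, 0, 2, 0, 4, 6, 2, 5, 0, 0, 0, 0, 4, 0, 0, 0, 0, 3, 4, 1, 3, 6, 1, 0, 0, 1, 2, 1, 4, 1, 4, 4, 2, 3, 6, 3, 2, 2],
  [0, 0, 0, 0, 0, 0, 0, 0, 0, 0, 0, 0, 6, 0, 3, 0, 0, 0, 0, 0, 0, 0, 0, 0, 0, 0, 0, 0, 0, 0, 0, 0, 0, 0, 0, 0, 0, 0, 0, 0, 0, 2, 0, 0, 5],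
  [0, 1, 0, 0, 0, 0, 0, 0, 0, 6, 0, 1, 4, 5, 4, 0, 0, 0, 0, 5, 0, 0, 0, 0, 2, 5, 3, 2, 4, 3, 0, 0, 3, 6, 3, 5, 3, 5, 5, 6, 2, 1, 2, 6, 0],
  [0, 0, 0, 0, 0, 0, 0, 0, 0, 0, 0, 0, 0, 0, 1, 0, 0, 0, 0, 0, 0, 0, 0, 0, 0, 0, 0, 0, 0, 0, 0, 0, 0, 0, 0, 0, 0, 0, 0, 0, 0, 0, 0, 0, 0],
  [0, 0, 0, 0, 0, 0, 1, 0, 0, 0, 0, 0, 0, 0, 0, 6, 0, 0, 0, 0, 0, 0, 0, 0, 0, 0, 0, 0, 0, 0, 0, 0, 0, 0, 0, 0, 0, 0, 0, 0, 0, 3, 1, 4, 0],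
  [0, 0, 0, 0, 0, 0, 0, 0, 0, 0, 0, 0, 0, 0, 0, 0, 5, 3, 5, 0, 3, 0, 4, 1, 0, 0, 0, 0, 0, 0, 0, 0, 0, 0, 0, 0, 0, 1, 2, 4, 0, 1, 6, 2, 5],
  [0, 0, 0, 0, 0, 0, 0, 0, 4, 0, 0, 0, 0, 0, 0, 0, 1, 0, 0, 0, 4, 0, 2, 4, 4, 3, 5, 3, 0, 4, 0, 0, 3, 6, 3, 5, 3, 6, 2, 4, 2, 2, 2, 1, 0],
  [0, 0, 0, 0, 0, 0, 0, 0, 5, 0, 0, 0, 0, 0, 0, 0, 5, 2, 4, 0, 6, 0, 2, 4, 3, 4, 2, 4, 0, 3, 0, 0, 4, 1, 4, 2, 4, 2, 0, 0, 0, 0, 1, 5, 0],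
  [0, 0, 0, 0, 0, 0, 0, 0, 0, 0, 0, 0, 0, 0, 1, 0, 0, 0, 0, 6, 0, 0, 0, 0, 0, 0, 0, 0, 0, 0, 0, 0, 0, 0, 0, 0, 0, 0, 0, 0, 0, 5, 4, 4, 3],
  [0, 0, 0, 0, 0, 0, 0, 0, 3, 0, 0, 0, 0, 0, 0, 0, 0, 0, 0, 0, 6, 0, 0, 0, 0, 0, 0, 0, 0, 0, 0, 0, 0, 0, 0, 0, 0, 0, 0, 0, 3, 4, 5, 5, 2],
  [0, 0, 0, 0, 0, 0, 0, 0, 1, 0, 0, 0, 0, 0, 0, 0, 3, 4, 1, 0, 3, 1, 1, 6, 4, 3, 6, 4, 1, 6, 0, 0, 6, 5, 6, 3, 6, 1, 3, 6, 3, 6, 6, 6, 3],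
  [0, 0, 0, 0, 0, 0, 0, 0, 4, 0, 0, 0, 0, 0, 0, 0, 1, 6, 1, 0, 4, 0, 5, 5, 2, 5, 6, 5, 0, 2, 0, 0, 5, 3, 5, 6, 5, 6, 0, 0, 3, 1, 3, 4, 6],
  [0, 0, 0, 0, 0, 0, 0, 0, 1, 0, 0, 0, 0, 0, 0, 0, 0, 0, 0, 0, 0, 0, 0, 6, 0, 0, 0, 0, 0, 0, 0, 0, 0, 0, 0, 0, 0, 0, 0, 0, 1, 3, 1, 1, 3],
  [0, 0, 0, 0, 0, 0, 0, 0, 0, 0, 0, 0, 0, 0, 0, 0, 0, 0, 0, 0, 0, 0, 0, 0, 5, 3, 5, 3, 1, 0, 0, 0, 3, 6, 3, 5, 3, 5, 0, 0, 0, 2, 4, 4, 1],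
  [0, 0, 0, 0, 0, 0, 0, 0, 0, 0, 0, 0, 0, 0, 0, 0, 0, 0, 0, 0, 0, 0, 0, 0, 6, 2, 5, 3, 1, 3, 0, 0, 3, 6, 3, 5, 3, 5, 0, 0, 4, 2, 2, 1, 2],
  [0, 0, 0, 0, 0, 0, 0, 0, 0, 0, 0, 0, 0, 0, 0, 0, 0, 0, 0, 0, 0, 0, 0, 0, 0, 0, 6, 0, 0, 6, 0, 0, 0, 0, 0, 0, 0, 0, 0, 0, 1, 4, 3, 3, 6],
  [0, 0, 0, 0, 0, 0, 0, 0, 0, 0, 0, 0, 0, 0, 0, 0, 0, 0, 0, 0, 0, 0, 0, 0, 0, 0, 0, 6, 0, 3, 0, 0, 0, 0, 0, 0, 0, 0, 0, 0, 4, 4, 4, 4, 2],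
  [0, 0, 0, 0, 0, 0, 0, 0, 0, 0, 0, 0, 0, 0, 0, 0, 0, 0, 0, 0, 0, 0, 0, 0, 0, 0, 0, 0, 6, 1, 0, 0, 0, 0, 0, 0, 0, 0, 0, 0, 6, 2, 5, 5, 4],
  [0, 0, 0, 0, 0, 0, 0, 0, 0, 0, 0, 0, 0, 0, 0, 0, 0, 0, 0, 0, 0, 0, 0, 0, 0, 0, 0, 0, 0, 1, 0, 0, 0, 0, 0, 0, 0, 0, 0, 0, 5, 2, 4, 4, 2],
  [0, 0, 0, 0, 0, 0, 0, 0, 0, 0, 0, 0, 0, 0, 0, 0, 0, 0, 0, 0, 0, 0, 0, 0, 0, 0, 0, 0, 0, 0, 1, 1, 4, 5, 2, 5, 0, 5, 4, 2, 1, 2, 3, 3, 6],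
  [0, 0, 0, 0, 0, 0, 0, 0, 0, 0, 0, 0, 0, 0, 0, 0, 0, 0, 0, 0, 0, 0, 0, 0, 0, 0, 0, 0, 0, 0, 0, 4, 6, 5, 5, 2, 4, 5, 0, 0, 2, 3, 2, 1, 1],
  [0, 0, 0, 0, 0, 0, 0, 0, 0, 0, 0, 0, 0, 0, 0, 0, 0, 0, 0, 0, 0, 0, 0, 0, 0, 0, 0, 0, 0, 0, 0, 0, 6, 0, 3, 0, 0, 0, 0, 0, 3, 1, 5, 5, 1],
  [0, 0, 0, 0, 0, 0, 0, 0, 0, 0, 0, 0, 0, 0, 0, 0, 0, 0, 0, 0, 0, 0, 0, 0, 0, 0, 0, 0, 0, 0, 0, 5, 6, 4, 3, 2, 4, 5, 0, 0, 0, 0, 3, 4, 5],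
  [0, 0, 0, 0, 0, 0, 0, 0, 0, 0, 0, 0, 0, 0, 0, 0, 0, 0, 0, 0, 0, 0, 0, 0, 0, 0, 0, 0, 0, 0, 0, 0, 0, 0, 1, 0, 0, 0, 0, 0, 2, 5, 3, 3, 5],
  [0, 0, 0, 0, 0, 0, 0, 0, 0, 0, 0, 0, 0, 0, 0, 0, 0, 0, 0, 0, 0, 0, 0, 0, 0, 0, 0, 0, 0, 0, 0, 1, 4, 1, 4, 5, 5, 1, 0, 0, 2, 1, 4, 4, 1],
  [0, 0, 0, 0, 0, 0, 0, 0, 0, 0, 0, 0, 0, 0, 0, 0, 0, 0, 0, 0, 0, 0, 0, 0, 0, 0, 0, 0, 0, 0, 0, 0, 0, 0, 1, 0, 6, 0, 0, 0, 1, 2, 3, 6, 3],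
  [0, 0, 0, 0, 0, 0, 0, 0, 0, 0, 0, 0, 0, 0, 0, 0, 0, 0, 0, 0, 0, 0, 0, 0, 0, 0, 0, 0, 0, 0, 0, 0, 0, 0, 0, 0, 0, 6, 0, 0, 0, 2, 0, 6, 1],
  [0, 0, 0, 0, 0, 0, 0, 0, 0, 0, 0, 0, 0, 0, 0, 0, 0, 0, 0, 0, 0, 0, 0, 0, 0, 0, 0, 0, 0, 0, 0, 0, 0, 0, 0, 0, 0, 0, 6, 0, 0, 1, 1, 3, 1],
  [0, 0, 0, 0, 0, 0, 0, 0, 0, 0, 0, 0, 0, 0, 0, 0, 0, 0, 0, 0, 0, 0, 0, 0, 0, 0, 0, 0, 0, 0, 0, 0, 0, 0, 0, 0, 0, 0, 0, 6, 0, 0, 0, 0, 1],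
  [0, 0, 0, 0, 0, 0, 0, 0, 0, 0, 0, 0, 0, 0, 0, 0, 0, 0, 0, 0, 0, 0, 0, 0, 0, 0, 0, 0, 0, 0, 0, 0, 0, 0, 0, 0, 0, 0, 0, 0, 6, 2, 4, 4, 2],
  [0, 0, 0, 0, 0, 0, 0, 0, 0, 0, 0, 0, 0, 0, 0, 0, 0, 0, 0, 0, 0, 0, 0, 0, 0, 0, 0, 0, 0, 0, 0, 0, 0, 0, 0, 0, 0, 0, 0, 0, 0, 1, 0, 0, 0],
  [0, 0, 0, 0, 0, 0, 0, 0, 0, 0, 0, 0, 0, 0, 0, 0, 0, 0, 0, 0, 0, 0, 0, 0, 0, 0, 0, 0, 0, 0, 0, 0, 0, 0, 0, 0, 0, 0, 0, 0, 0, 0, 1, 0, 0],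
  [0, 0, 0, 0, 0, 0, 0, 0, 0, 0, 0, 0, 0, 0, 0, 0, 0, 0, 0, 0, 0, 0, 0, 0, 0, 0, 0, 0, 0, 0, 0, 0, 0, 0, 0, 0, 0, 0, 0, 0, 0, 0, 0, 1, 0],
  [0, 0, 0, 0, 0, 0, 0, 0, 0, 0, 0, 0, 0, 0, 0, 0, 0, 0, 0, 0, 0, 0, 0, 0, 0, 0, 0, 0, 0, 0, 0, 0, 0, 0, 0, 0, 0, 0, 0, 0, 0, 0, 0, 0, 1]]

theorem s20_1 : List.foldl (fun P x => mulT P (T x)) m20_0 [3, 2, 3, 2] = m20_1 := by decide +kernel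

/-- an intermediate product -/
def m20_2 : LM := [
  [5, 0, 3, 0, 2, 5, 0, 2, 0, 0, 0, 0, 0, 0, 0, 1, 0, 0, 0, 0, 0, 0, 0, 0, 0, 0, 0, 0, 0, 0, 0, 0, 0, 0, 3, 3, 1, 6, 4, 3, 0, 0, 4, 1, 1],
  [0, 5, 0, 0, 0, 0, 0, 0, 0, 3, 0, 2, 2, 5, 0, 0, 0, 0, 0, 1, 0, 0, 0, 0, 0, 0, 0, 0, 0, 0, 0, 0, 0, 0, 3, 3, 1, 6, 4, 3, 0, 5, 1, 5, 0],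
  [4, 0, 4, 0, 3, 3, 6, 2, 0, 0, 0, 0, 0, 0, 0, 4, 0, 0, 0, 0, 0, 0, 0, 0, 5, 6, 6, 6, 4, 6, 0, 0, 0, 0, 4, 4, 6, 0, 4, 3, 1, 4, 2, 0, 2],
  [6, 0, 4, 6, 6, 4, 1, 5, 0, 0, 0, 0, 0, 0, 0, 1, 0, 0, 0, 0, 0, 0, 0, 0, 2, 0, 3, 2, 3, 5, 0, 0, 0, 0, 5, 5, 4, 4, 2, 6, 5, 4, 3, 1, 4],
  [6, 0, 1, 0, 6, 5, 6, 0, 0, 0, 0, 0, 0, 0, 0, 4, 0, 0, 0, 0, 0, 0, 0, 0, 2, 1, 1, 1, 3, 1, 0, 0, 0, 0, 6, 6, 2, 6, 0, 0, 6, 3, 2, 5, 3],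
  [1, 0, 6, 0, 6, 6, 2, 0, 0, 0, 0, 0, 0, 0, 0, 5, 0, 0, 0, 0, 0, 0, 0, 0, 6, 3, 3, 3, 2, 3, 0, 0, 0, 0, 4, 4, 6, 4, 0, 0, 4, 1, 6, 5, 4],
  [0, 0, 0, 0, 0, 0, 1, 0, 0, 0, 0, 0, 0, 0, 0, 0, 0, 0, 0, 0, 0, 0, 0, 0, 0, 0, 0, 0, 0, 0, 0, 0, 0, 0, 0, 0, 0, 0, 0, 0, 0, 6, 2, 3, 0],
  [0, 0, 0, 0, 0, 0, 5, 5, 0, 0, 0, 0, 0, 0, 0, 6, 0, 0, 0, 0, 0, 0, 0, 0, 0, 0, 0, 0, 0, 0, 0, 0, 0, 0, 0, 0, 0, 0, 0, 0, 0, 6, 1, 0, 6],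
  [0, 0, 0, 0, 0, 0, 0, 0, 1, 0, 0, 0, 0, 0, 0, 0, 0, 0, 0, 0, 0, 0, 0, 0, 0, 0, 0, 0, 0, 0, 0, 0, 0, 0, 0, 0, 0, 0, 0, 4, 4, 6, 5, 1, 3],
  [0, 4, 0, 0, 0, 0, 0, 0, 0, 4, 0, 3, 2, 3, 6, 0, 0, 0, 0, 4, 0, 0, 0, 0, 5, 6, 6, 6, 4, 6, 0, 0, 0, 0, 4, 4, 6, 0, 4, 3, 1, 3, 2, 5, 3],
  [0, 6, 0, 0, 0, 0, 0, 0, 0, 4, 6, 6, 5, 4, 1, 0, 0, 0, 0, 1, 0, 0, 0, 0, 4, 3, 0, 1, 6, 5, 0, 0, 0, 0, 1, 1, 5, 4, 3, 3, 6, 4, 0, 6, 4],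
  [0, 6, 0, 0, 0, 0, 0, 0, 0, 1, 0, 6, 0, 5, 6, 0, 0, 0, 0, 4, 0, 0, 0, 0, 2, 1, 1, 1, 3, 1, 0, 0, 0, 0, 6, 6, 2, 6, 0, 0, 6, 3, 1, 2, 3],
  [0, 0, 0, 0, 0, 0, 0, 0, 0, 0, 0, 0, 5, 0, 5, 0, 0, 0, 0, 6, 0, 0, 0, 0, 0, 0, 0, 0, 0, 0, 0, 0, 0, 0, 0, 0, 0, 0, 0, 0, 0, 4, 1, 4, 6],
  [0, 1, 0, 0, 0, 0, 0, 0, 0, 6, 0, 6, 0, 6, 2, 0, 0, 0, 0, 5, 0, 0, 0, 0, 6, 3, 3, 3, 2, 3, 0, 0, 0, 0, 4, 4, 6, 4, 0, 0, 4, 1, 2, 5, 5],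
  [0, 0, 0, 0, 0, 0, 0, 0, 0, 0, 0, 0, 0, 0, 1, 0, 0, 0, 0, 0, 0, 0, 0, 0, 0, 0, 0, 0, 0, 0, 0, 0, 0, 0, 0, 0, 0, 0, 0, 0, 0, 2, 3, 1, 0],
  [0, 0, 0, 0, 0, 0, 6, 5, 0, 0, 0, 0, 0, 0, 0, 2, 0, 0, 0, 0, 0, 0, 0, 0, 0, 0, 0, 0, 0, 0, 0, 0, 0, 0, 0, 0, 0, 0, 0, 0, 0, 2, 6, 3, 5],
  [0, 0, 0, 0, 0, 0, 0, 0, 0, 0, 0, 0, 0, 0, 0, 0, 1, 0, 3, 0, 1, 0, 6, 0, 0, 0, 0, 0, 0, 0, 0, 0, 0, 0, 0, 0, 0, 3, 0, 5, 5, 1, 5, 1, 0],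
  [0, 0, 0, 0, 0, 0, 0, 0, 3, 0, 0, 0, 0, 0, 0, 0, 0, 1, 0, 0, 0, 0, 3, 1, 2, 0, 3, 2, 3, 5, 0, 0, 0, 0, 4, 4, 6, 1, 3, 1, 4, 3, 1, 1, 2],
  [0, 0, 0, 0, 0, 0, 0, 0, 1, 0, 0, 0, 0, 0, 0, 0, 3, 4, 3, 0, 1, 0, 0, 6, 5, 0, 4, 5, 4, 2, 0, 0, 0, 0, 3, 3, 1, 2, 4, 1, 5, 2, 2, 2, 0],
  [0, 0, 0, 0, 0, 0, 0, 0, 0, 0, 0, 0, 5, 0, 6, 0, 0, 0, 0, 2, 0, 0, 0, 0, 0, 0, 0, 0, 0, 0, 0, 0, 0, 0, 0, 0, 0, 0, 0, 0, 0, 0, 2, 4, 2],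
  [0, 0, 0, 0, 0, 0, 0, 0, 5, 0, 0, 0, 0, 0, 0, 0, 0, 0, 0, 0, 2, 0, 0, 1, 0, 0, 0, 0, 0, 0, 0, 0, 0, 0, 0, 0, 0, 0, 0, 6, 6, 4, 4, 5, 6],
  [0, 0, 0, 0, 0, 0, 0, 0, 1, 0, 0, 0, 0, 0, 0, 0, 2, 1, 1, 0, 1, 6, 0, 3, 5, 6, 6, 6, 4, 6, 0, 0, 0, 0, 1, 1, 5, 4, 6, 1, 0, 2, 1, 0, 5],
  [0, 0, 0, 0, 0, 0, 0, 0, 1, 0, 0, 0, 0, 0, 0, 0, 5, 2, 0, 0, 3, 0, 2, 4, 1, 0, 5, 1, 5, 6, 0, 0, 0, 0, 2, 2, 3, 6, 5, 2, 0, 4, 4, 3, 6],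
  [0, 0, 0, 0, 0, 0, 0, 0, 2, 0, 0, 0, 0, 0, 0, 0, 0, 0, 0, 0, 2, 0, 0, 5, 0, 0, 0, 0, 0, 0, 0, 0, 0, 0, 0, 0, 0, 0, 0, 2, 2, 6, 0, 0, 1],
  [0, 0, 0, 0, 0, 0, 0, 0, 0, 0, 0, 0, 0, 0, 0, 0, 0, 0, 0, 0, 0, 0, 0, 0, 1, 0, 3, 1, 0, 0, 0, 0, 0, 0, 4, 4, 6, 5, 3, 6, 2, 4, 6, 2, 1],
  [0, 0, 0, 0, 0, 0, 0, 0, 0, 0, 0, 0, 0, 0, 0, 0, 0, 0, 0, 0, 0, 0, 0, 0, 4, 4, 0, 1, 0, 1, 0, 0, 0, 0, 4, 4, 6, 5, 3, 0, 3, 1, 1, 3, 4],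
  [0, 0, 0, 0, 0, 0, 0, 0, 0, 0, 0, 0, 0, 0, 0, 0, 0, 0, 0, 0, 0, 0, 0, 0, 6, 1, 3, 0, 0, 3, 0, 0, 0, 0, 0, 0, 0, 0, 0, 2, 2, 4, 2, 6, 0],
  [0, 0, 0, 0, 0, 0, 0, 0, 0, 0, 0, 0, 0, 0, 0, 0, 0, 0, 0, 0, 0, 0, 0, 0, 0, 0, 0, 2, 1, 5, 0, 0, 0, 0, 0, 0, 0, 0, 0, 1, 1, 1, 2, 6, 1],
  [0, 0, 0, 0, 0, 0, 0, 0, 0, 0, 0, 0, 0, 0, 0, 0, 0, 0, 0, 0, 0, 0, 0, 0, 0, 0, 0, 2, 5, 2, 0, 0, 0, 0, 0, 0, 0, 0, 0, 5, 5, 1, 2, 3, 6],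
  [0, 0, 0, 0, 0, 0, 0, 0, 0, 0, 0, 0, 0, 0, 0, 0, 0, 0, 0, 0, 0, 0, 0, 0, 0, 0, 0, 0, 0, 1, 0, 0, 0, 0, 0, 0, 0, 0, 0, 3, 3, 1, 4, 2, 2],
  [0, 0, 0, 0, 0, 0, 0, 0, 0, 0, 0, 0, 0, 0, 0, 0, 0, 0, 0, 0, 0, 0, 0, 0, 0, 0, 0, 0, 0, 0, 6, 1, 1, 2, 0, 6, 5, 0, 2, 0, 1, 0, 4, 3, 5],
  [0, 0, 0, 0, 0, 0, 0, 0, 0, 0, 0, 0, 0, 0, 0, 0, 0, 0, 0, 0, 0, 0, 0, 0, 0, 0, 0, 0, 0, 0, 0, 3, 1, 3, 1, 0, 6, 5, 3, 3, 6, 0, 2, 5, 1],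
  [0, 0, 0, 0, 0, 0, 0, 0, 0, 0, 0, 0, 0, 0, 0, 0, 0, 0, 0, 0, 0, 0, 0, 0, 0, 0, 0, 0, 0, 0, 0, 0, 2, 0, 5, 0, 1, 0, 0, 6, 6, 0, 6, 0, 5],
  [0, 0, 0, 0, 0, 0, 0, 0, 0, 0, 0, 0, 0, 0, 0, 0, 0, 0, 0, 0, 0, 0, 0, 0, 0, 0, 0, 0, 0, 0, 0, 3, 1, 1, 4, 3, 6, 5, 3, 6, 2, 3, 2, 3, 1],
  [0, 0, 0, 0, 0, 0, 0, 0, 0, 0, 0, 0, 0, 0, 0, 0, 0, 0, 0, 0, 0, 0, 0, 0, 0, 0, 0, 0, 0, 0, 0, 0, 0, 0, 1, 0, 0, 0, 0, 4, 4, 0, 0, 4, 6],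
  [0, 0, 0, 0, 0, 0, 0, 0, 0, 0, 0, 0, 0, 0, 0, 0, 0, 0, 0, 0, 0, 0, 0, 0, 0, 0, 0, 0, 0, 0, 0, 0, 3, 5, 1, 2, 4, 1, 2, 1, 3, 4, 3, 2, 5],
  [0, 0, 0, 0, 0, 0, 0, 0, 0, 0, 0, 0, 0, 0, 0, 0, 0, 0, 0, 0, 0, 0, 0, 0, 0, 0, 0, 0, 0, 0, 0, 0, 2, 0, 2, 0, 5, 0, 0, 2, 2, 6, 3, 4, 5],
  [0, 0, 0, 0, 0, 0, 0, 0, 0, 0, 0, 0, 0, 0, 0, 0, 0, 0, 0, 0, 0, 0, 0, 0, 0, 0, 0, 0, 0, 0, 0, 0, 0, 0, 0, 0, 0, 4, 3, 6, 5, 3, 4, 5, 1],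
  [0, 0, 0, 0, 0, 0, 0, 0, 0, 0, 0, 0, 0, 0, 0, 0, 0, 0, 0, 0, 0, 0, 0, 0, 0, 0, 0, 0, 0, 0, 0, 0, 0, 0, 0, 0, 0, 6, 3, 2, 5, 6, 4, 2, 2],
  [0, 0, 0, 0, 0, 0, 0, 0, 0, 0, 0, 0, 0, 0, 0, 0, 0, 0, 0, 0, 0, 0, 0, 0, 0, 0, 0, 0, 0, 0, 0, 0, 0, 0, 0, 0, 0, 0, 0, 3, 6, 5, 1, 4, 0],
  [0, 0, 0, 0, 0, 0, 0, 0, 0, 0, 0, 0, 0, 0, 0, 0, 0, 0, 0, 0, 0, 0, 0, 0, 0, 0, 0, 0, 0, 0, 0, 0, 0, 0, 0, 0, 0, 0, 0, 3, 4, 3, 0, 3, 2],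
  [0, 0, 0, 0, 0, 0, 0, 0, 0, 0, 0, 0, 0, 0, 0, 0, 0, 0, 0, 0, 0, 0, 0, 0, 0, 0, 0, 0, 0, 0, 0, 0, 0, 0, 0, 0, 0, 0, 0, 0, 0, 1, 3, 1, 4],
  [0, 0, 0, 0, 0, 0, 0, 0, 0, 0, 0, 0, 0, 0, 0, 0, 0, 0, 0, 0, 0, 0, 0, 0, 0, 0, 0, 0, 0, 0, 0, 0, 0, 0, 0, 0, 0, 0, 0, 0, 0, 2, 6, 4, 5],
  [0, 0, 0, 0, 0, 0, 0, 0, 0, 0, 0, 0, 0, 0, 0, 0, 0, 0, 0, 0, 0, 0, 0, 0, 0, 0, 0, 0, 0, 0, 0, 0, 0, 0, 0, 0, 0, 0, 0, 0, 0, 4, 1, 6, 5],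
  [0, 0, 0, 0, 0, 0, 0, 0, 0, 0, 0, 0, 0, 0, 0, 0, 0, 0, 0, 0, 0, 0, 0, 0, 0, 0, 0, 0, 0, 0, 0, 0, 0, 0, 0, 0, 0, 0, 0, 0, 0, 1, 5, 4, 1]]

theorem s20_2 : List.foldl (fun P x => mulT P (T x)) m20_1 [3, 2, 3, 2] = m20_2 := by decide +kernel

theorem s20_3 : List.foldl (fun P x => mulT P (T x)) m20_2 [3, 2, 3, 2] = idL := by decide +kernel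

theorem wd20 : evalW T ([3, 2, 3, 2] ++ ([3, 2, 3, 2] ++ ([3, 2, 3, 2] ++ ([3, 2, 3, 2] ++ [])))) = idL := by
  unfold evalW
  rw [List.foldl_append, s20_0, List.foldl_append, s20_1, List.foldl_append, s20_2, List.foldl_append, s20_3]
  rfl

theorem s23_0 : List.foldl (fun P x => mulT P (T x)) idL [3, 5, 3, 5] = idL := by decide +kernel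

theorem wd23 : evalW T ([3, 5, 3, 5] ++ []) = idL := by
  unfold evalW
  rw [List.foldl_append, s23_0]
  rfl

theorem s32_0 : List.foldl (fun P x => mulT P (T x)) idL [5, 2, 5, 2] = idL := by decide +kernel

theorem wd32 : evalW T ([5, 2, 5, 2] ++ []) = idL := by
  unfold evalW
  rw [List.foldl_append, s32_0]
  rfl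

/-- an intermediate product -/
def m34_0 : LM := [
  [1, 0, 6, 1, 2, 4, 1, 0, 2, 0, 0, 0, 0, 0, 0, 4, 5, 2, 1, 0, 6, 3, 2, 1, 0, 2, 5, 5, 3, 5, 5, 2, 2, 2, 2, 1, 1, 5, 1, 4, 1, 4, 3, 5, 1],
  [4, 3, 1, 1, 0, 4, 3, 1, 4, 3, 1, 6, 0, 5, 5, 1, 4, 0, 0, 4, 6, 4, 1, 1, 0, 2, 3, 5, 0, 0, 5, 2, 4, 1, 4, 1, 4, 5, 1, 4, 1, 3, 2, 0, 4],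
  [3, 0, 4, 5, 0, 4, 2, 6, 3, 0, 0, 0, 0, 0, 0, 3, 0, 3, 1, 0, 1, 6, 0, 3, 1, 6, 0, 1, 1, 0, 4, 5, 2, 2, 6, 1, 2, 5, 6, 1, 6, 5, 5, 6, 0],
  [5, 0, 0, 3, 3, 4, 1, 6, 0, 0, 0, 0, 0, 0, 0, 2, 0, 4, 3, 0, 0, 1, 5, 3, 2, 0, 1, 6, 1, 0, 4, 1, 2, 2, 4, 1, 0, 3, 3, 2, 0, 4, 4, 1, 2],
  [6, 0, 1, 3, 0, 5, 2, 1, 4, 0, 0, 0, 0, 0, 0, 1, 4, 0, 6, 0, 5, 4, 5, 5, 1, 1, 2, 4, 2, 1, 1, 3, 0, 2, 0, 2, 6, 0, 2, 3, 2, 2, 1, 1, 0],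
  [0, 0, 0, 2, 4, 1, 6, 3, 4, 0, 0, 0, 0, 0, 0, 3, 3, 2, 0, 0, 1, 5, 3, 1, 5, 1, 1, 5, 6, 6, 3, 3, 0, 2, 0, 0, 4, 0, 6, 2, 6, 6, 0, 2, 2],
  [0, 0, 0, 0, 4, 1, 2, 0, 0, 0, 0, 0, 0, 0, 0, 0, 0, 0, 0, 0, 0, 0, 0, 0, 4, 3, 6, 0, 0, 5, 0, 1, 0, 0, 0, 2, 0, 0, 0, 0, 0, 0, 4, 6, 6],
  [0, 0, 5, 4, 4, 4, 2, 0, 1, 0, 0, 0, 0, 0, 0, 3, 3, 0, 6, 0, 4, 3, 0, 3, 1, 5, 3, 0, 3, 0, 5, 3, 0, 0, 1, 6, 2, 0, 0, 0, 0, 1, 4, 2, 6],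
  [1, 0, 6, 4, 0, 5, 6, 1, 1, 0, 0, 0, 0, 0, 0, 4, 1, 1, 0, 0, 2, 3, 6, 6, 2, 0, 6, 6, 0, 5, 5, 1, 2, 6, 1, 0, 1, 1, 3, 6, 2, 3, 4, 2, 1],
  [3, 3, 2, 1, 0, 4, 5, 2, 6, 2, 5, 6, 3, 5, 3, 4, 5, 2, 6, 5, 4, 4, 0, 1, 3, 3, 1, 5, 1, 4, 2, 4, 6, 6, 6, 2, 4, 5, 6, 1, 6, 1, 0, 6, 4],
  [5, 3, 1, 6, 3, 3, 5, 2, 4, 1, 4, 5, 1, 2, 6, 3, 3, 0, 6, 4, 5, 4, 6, 6, 0, 4, 5, 1, 1, 2, 4, 4, 3, 1, 3, 0, 3, 5, 6, 5, 2, 4, 3, 3, 4],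
  [2, 6, 5, 0, 1, 4, 3, 6, 3, 2, 3, 1, 4, 0, 0, 4, 4, 0, 0, 6, 2, 0, 2, 0, 6, 4, 3, 0, 6, 3, 3, 6, 5, 3, 2, 3, 0, 0, 2, 3, 2, 2, 0, 4, 1],
  [6, 2, 6, 6, 5, 2, 6, 0, 6, 3, 1, 1, 3, 2, 6, 6, 5, 6, 6, 3, 3, 4, 3, 2, 1, 6, 6, 4, 1, 5, 1, 1, 0, 6, 0, 1, 4, 0, 0, 0, 0, 0, 1, 1, 6],
  [5, 4, 2, 0, 1, 6, 1, 4, 1, 6, 2, 0, 5, 1, 4, 5, 1, 4, 6, 4, 6, 0, 3, 0, 3, 6, 1, 0, 4, 4, 2, 5, 1, 1, 0, 2, 0, 0, 6, 2, 6, 4, 1, 1, 5],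
  [6, 0, 1, 0, 1, 0, 1, 0, 2, 0, 0, 4, 0, 1, 5, 0, 6, 1, 0, 0, 0, 0, 5, 0, 2, 5, 3, 0, 0, 6, 0, 3, 0, 2, 6, 3, 0, 0, 0, 0, 0, 1, 0, 5, 1],
  [0, 0, 4, 6, 6, 4, 4, 0, 3, 0, 0, 0, 0, 0, 0, 0, 3, 6, 6, 0, 2, 5, 6, 0, 3, 4, 4, 5, 1, 0, 3, 5, 1, 2, 6, 2, 3, 0, 0, 0, 0, 0, 2, 5, 0],
  [1, 0, 6, 5, 0, 3, 2, 6, 0, 0, 0, 0, 0, 0, 0, 0, 3, 5, 1, 0, 0, 2, 0, 3, 1, 4, 4, 0, 1, 2, 3, 6, 4, 2, 6, 2, 3, 1, 1, 4, 6, 4, 1, 4, 4],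
  [2, 0, 6, 4, 4, 4, 4, 1, 6, 0, 0, 0, 0, 0, 0, 6, 4, 6, 5, 0, 2, 1, 5, 5, 2, 4, 6, 2, 0, 3, 2, 5, 1, 5, 6, 6, 1, 3, 2, 2, 1, 2, 6, 6, 3],
  [5, 0, 1, 5, 1, 3, 0, 6, 2, 0, 0, 0, 0, 0, 0, 5, 2, 5, 1, 0, 0, 4, 1, 4, 0, 1, 5, 4, 1, 1, 6, 2, 5, 1, 5, 6, 3, 6, 2, 1, 0, 2, 0, 0, 1],
  [4, 3, 2, 2, 6, 5, 4, 4, 5, 1, 1, 2, 4, 2, 6, 3, 5, 3, 5, 1, 6, 2, 1, 3, 3, 6, 6, 2, 4, 3, 3, 4, 6, 6, 4, 6, 2, 0, 0, 0, 0, 5, 4, 6, 0],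
  [6, 0, 4, 6, 3, 4, 3, 1, 1, 0, 0, 0, 0, 0, 0, 0, 0, 5, 4, 0, 3, 4, 4, 1, 3, 4, 0, 4, 3, 3, 3, 2, 5, 3, 2, 5, 0, 5, 1, 2, 3, 3, 0, 5, 1],
  [6, 0, 6, 5, 1, 1, 0, 5, 3, 0, 0, 0, 0, 0, 0, 4, 0, 5, 6, 0, 2, 5, 0, 3, 6, 1, 4, 4, 2, 4, 1, 3, 5, 1, 4, 0, 6, 5, 2, 6, 5, 3, 3, 4, 1],
  [6, 0, 5, 0, 6, 5, 4, 2, 4, 0, 0, 0, 0, 0, 0, 0, 1, 2, 6, 0, 3, 6, 5, 0, 2, 4, 2, 0, 3, 4, 1, 1, 4, 5, 4, 5, 0, 2, 0, 5, 3, 5, 1, 4, 4],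
  [5, 0, 2, 6, 6, 1, 0, 1, 6, 0, 0, 0, 0, 0, 0, 5, 5, 0, 1, 0, 2, 4, 5, 3, 5, 1, 6, 0, 6, 6, 2, 6, 4, 4, 0, 4, 1, 4, 5, 3, 1, 0, 5, 6, 3],
  [2, 0, 0, 1, 1, 0, 1, 6, 2, 0, 0, 0, 0, 0, 0, 4, 1, 1, 4, 0, 2, 6, 0, 2, 6, 6, 1, 2, 3, 2, 1, 6, 6, 3, 6, 2, 3, 1, 5, 6, 0, 2, 5, 2, 5],
  [4, 0, 5, 2, 6, 6, 0, 1, 5, 0, 0, 0, 0, 0, 0, 5, 1, 5, 1, 0, 6, 5, 2, 0, 2, 0, 4, 0, 3, 6, 4, 3, 3, 1, 0, 6, 5, 3, 4, 4, 4, 1, 1, 6, 5],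
  [0, 0, 0, 2, 0, 5, 0, 4, 1, 0, 0, 0, 0, 0, 0, 2, 6, 2, 2, 0, 1, 5, 4, 3, 0, 1, 0, 3, 0, 0, 6, 0, 1, 6, 0, 5, 4, 4, 5, 3, 1, 3, 4, 1, 1],
  [3, 0, 5, 0, 3, 3, 1, 5, 1, 0, 0, 0, 0, 0, 0, 5, 0, 1, 2, 0, 5, 3, 0, 2, 5, 1, 6, 1, 5, 0, 3, 1, 0, 2, 1, 0, 3, 2, 6, 5, 4, 1, 4, 1, 6],
  [5, 0, 0, 6, 4, 1, 4, 3, 5, 0, 0, 0, 0, 0, 0, 1, 6, 5, 2, 0, 5, 3, 6, 1, 5, 2, 6, 5, 3, 6, 4, 3, 0, 2, 4, 4, 2, 3, 2, 4, 6, 0, 0, 3, 0],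
  [6, 0, 1, 3, 3, 1, 0, 6, 4, 0, 0, 0, 0, 0, 0, 3, 4, 1, 4, 0, 5, 4, 5, 1, 2, 3, 0, 1, 0, 2, 2, 3, 5, 1, 0, 1, 6, 6, 4, 1, 5, 1, 4, 0, 5],
  [2, 0, 0, 6, 3, 3, 6, 1, 4, 0, 0, 0, 0, 0, 0, 3, 4, 0, 2, 0, 4, 2, 1, 1, 5, 4, 5, 1, 2, 0, 4, 0, 6, 3, 0, 4, 3, 2, 0, 1, 0, 1, 6, 4, 4],
  [3, 0, 2, 4, 1, 1, 6, 4, 1, 0, 0, 0, 0, 0, 0, 6, 5, 2, 5, 0, 4, 1, 0, 0, 3, 3, 0, 0, 3, 0, 3, 4, 5, 5, 5, 0, 3, 2, 1, 5, 2, 4, 1, 2, 2],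
  [5, 0, 6, 5, 5, 2, 6, 5, 1, 0, 0, 0, 0, 0, 0, 2, 5, 0, 0, 0, 2, 6, 5, 6, 6, 3, 6, 1, 5, 1, 5, 5, 6, 2, 0, 3, 6, 5, 1, 2, 3, 0, 2, 3, 2],
  [1, 0, 4, 0, 6, 4, 1, 3, 1, 0, 0, 0, 0, 0, 0, 2, 4, 1, 3, 0, 2, 5, 4, 1, 2, 2, 2, 1, 3, 2, 5, 2, 3, 6, 3, 5, 2, 1, 5, 6, 0, 6, 2, 1, 1],
  [5, 0, 2, 4, 2, 3, 1, 1, 6, 0, 0, 0, 0, 0, 0, 4, 1, 1, 1, 0, 2, 3, 1, 6, 0, 2, 3, 6, 0, 6, 5, 1, 2, 3, 1, 1, 1, 1, 3, 6, 2, 0, 3, 3, 6],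
  [2, 0, 6, 4, 3, 4, 3, 3, 0, 0, 0, 0, 0, 0, 0, 3, 3, 0, 4, 0, 1, 4, 2, 2, 5, 2, 1, 2, 2, 0, 6, 0, 4, 5, 2, 5, 0, 4, 4, 3, 2, 2, 2, 3, 1],
  [1, 0, 4, 2, 2, 4, 0, 0, 0, 0, 0, 0, 0, 0, 0, 5, 3, 0, 4, 0, 1, 0, 0, 6, 6, 0, 1, 4, 6, 3, 4, 4, 5, 5, 2, 2, 2, 4, 5, 3, 1, 1, 5, 5, 1],
  [6, 0, 1, 6, 4, 0, 1, 5, 3, 0, 0, 0, 0, 0, 0, 6, 1, 2, 3, 0, 3, 1, 0, 2, 2, 1, 2, 2, 0, 1, 4, 0, 3, 1, 4, 2, 5, 6, 6, 2, 0, 0, 1, 4, 2],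
  [2, 0, 5, 2, 1, 4, 0, 4, 5, 0, 0, 0, 0, 0, 0, 2, 0, 1, 4, 0, 1, 5, 3, 3, 3, 5, 5, 3, 0, 5, 6, 3, 1, 5, 0, 2, 4, 4, 3, 3, 0, 1, 5, 1, 5],
  [5, 0, 3, 6, 2, 4, 5, 3, 1, 0, 0, 0, 0, 0, 0, 5, 2, 5, 6, 0, 6, 0, 1, 6, 6, 6, 2, 2, 0, 0, 3, 1, 0, 6, 2, 6, 0, 0, 5, 1, 5, 5, 3, 5, 6],
  [5, 0, 2, 3, 3, 6, 6, 6, 6, 0, 0, 0, 0, 0, 0, 3, 3, 2, 4, 0, 5, 4, 3, 1, 0, 5, 4, 1, 0, 1, 2, 0, 5, 3, 1, 6, 6, 6, 0, 1, 6, 0, 4, 4, 6],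
  [0, 0, 0, 0, 1, 2, 5, 0, 6, 0, 0, 0, 0, 0, 0, 0, 6, 1, 2, 0, 0, 0, 2, 0, 5, 2, 4, 0, 0, 1, 0, 6, 0, 0, 2, 5, 0, 0, 0, 0, 0, 5, 4, 0, 3],
  [3, 0, 4, 0, 3, 5, 3, 0, 0, 0, 0, 0, 0, 0, 0, 0, 3, 4, 0, 0, 0, 0, 6, 0, 5, 2, 5, 0, 0, 5, 0, 0, 0, 3, 4, 6, 0, 0, 0, 0, 0, 4, 6, 1, 4],
  [1, 0, 6, 0, 1, 4, 6, 0, 0, 0, 0, 0, 0, 0, 0, 0, 2, 5, 5, 0, 0, 0, 0, 0, 6, 1, 2, 0, 0, 4, 0, 0, 0, 1, 1, 2, 0, 0, 0, 0, 0, 0, 3, 5, 6],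
  [1, 0, 6, 0, 1, 4, 0, 0, 0, 0, 0, 0, 0, 0, 0, 0, 5, 2, 6, 0, 0, 0, 1, 0, 4, 3, 0, 0, 0, 1, 0, 0, 0, 1, 0, 2, 0, 0, 0, 0, 0, 5, 3, 5, 3]]

theorem s34_0 : List.foldl (fun P x => mulT P (T x)) idL [5, 4, 5, 4] = m34_0 := by decide +kernel

theorem s34_1 : List.foldl (fun P x => mulT P (T x)) m34_0 [5, 4] = idL := by decide +kernel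

theorem wd34 : evalW T ([5, 4, 5, 4] ++ ([5, 4] ++ [])) = idL := by
  unfold evalW
  rw [List.foldl_append, s34_0, List.foldl_append, s34_1]
  rfl

theorem s35_0 : List.foldl (fun P x => mulT P (T x)) idL [5, 5] = idL := by decide +kernel

theorem wd35 : evalW T ([5, 5] ++ []) = idL := by
  unfold evalW
  rw [List.foldl_append, s35_0]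
  rfl

theorem s50_0 : List.foldl (fun P x => mulT P (T x)) idL [8, 2, 9, 2] = idL := by decide +kernel

theorem wd50 : evalW T ([8, 2, 9, 2] ++ []) = idL := by
  unfold evalW
  rw [List.foldl_append, s50_0]
  rfl

end Cfsg.Agent.Lib.Lead.ON45
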