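import Cfsg.Agent.Lib.Lead.ON45.Data

/-! # The relators of the triple cover hold on the 45-dimensional module: products of at most four letters at a time,
with the intermediate matrices written out (generated), part 3 -/

set_option autoImplicit false
set_option maxRecDepth 1000000
set_option maxHeartbeats 4000000

namespace Cfsg.Agent.Lib.Lead.ON45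

theorem s2_0 : List.foldl (fun P x => mulT P (T x)) idL [0, 2, 0, 2] = idL := by decide +kernel

theorem wd2 : evalW T ([0, 2, 0, 2] ++ []) = idL := by
  unfold evalW
  rw [List.foldl_append, s2_0]
  rfl

theorem s4_0 : List.foldl (fun P x => mulT P (T x)) idL [0, 4, 0, 4] = idL := by decide +kernel

theorem wd4 : evalW T ([0, 4, 0, 4] ++ []) = idL := by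
  unfold evalW
  rw [List.foldl_append, s4_0]
  rfl

theorem s16_0 : List.foldl (fun P x => mulT P (T x)) idL [2, 4, 2, 4] = idL := by decide +kernel

theorem wd16 : evalW T ([2, 4, 2, 4] ++ []) = idL := by
  unfold evalW
  rw [List.foldl_append, s16_0]
  rfl

theorem s25_0 : List.foldl (fun P x => mulT P (T x)) idL [4, 1, 4, 1] = idL := by decide +kernel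

theorem wd25 : evalW T ([4, 1, 4, 1] ++ []) = idL := by
  unfold evalW
  rw [List.foldl_append, s25_0]
  rfl

theorem s36_0 : List.foldl (fun P x => mulT P (T x)) idL [6, 7] = idL := by decide +kernel

theorem wd36 : evalW T ([6, 7] ++ []) = idL := by
  unfold evalW
  rw [List.foldl_append, s36_0]
  rfl

theorem s40_0 : List.foldl (fun P x => mulT P (T x)) idL [0, 5, 7, 7] = idL := by decide +kernel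

theorem wd40 : evalW T ([0, 5, 7, 7] ++ []) = idL := by
  unfold evalW
  rw [List.foldl_append, s40_0]
  rfl

/-- an intermediate product -/
def m43_0 : LM := [
  [0, 3, 0, 0, 0, 0, 0, 0, 2, 5, 1, 4, 3, 5, 5, 0, 6, 0, 0, 4, 0, 0, 0, 3, 0, 6, 4, 5, 0, 1, 0, 5, 3, 3, 4, 0, 0, 0, 0, 0, 0, 4, 2, 6, 0],
  [0, 3, 0, 0, 0, 0, 0, 0, 0, 5, 1, 4, 3, 5, 5, 0, 0, 0, 0, 4, 0, 0, 0, 0, 2, 5, 2, 6, 3, 2, 0, 5, 2, 6, 4, 1, 1, 5, 5, 4, 6, 4, 3, 4, 5],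
  [0, 4, 0, 0, 0, 0, 0, 0, 2, 0, 6, 3, 5, 1, 1, 0, 2, 2, 3, 3, 3, 6, 2, 0, 5, 3, 6, 2, 1, 4, 1, 6, 2, 5, 0, 2, 3, 0, 0, 0, 0, 0, 5, 2, 4],
  [0, 0, 0, 0, 0, 0, 0, 0, 4, 1, 3, 0, 4, 6, 2, 0, 0, 2, 0, 4, 4, 0, 1, 4, 1, 2, 3, 1, 6, 0, 4, 1, 0, 1, 6, 1, 3, 0, 0, 0, 0, 1, 5, 1, 4],
  [0, 6, 0, 0, 0, 0, 0, 0, 2, 5, 2, 1, 5, 4, 4, 0, 2, 0, 2, 1, 4, 1, 4, 3, 5, 0, 4, 3, 6, 1, 6, 6, 1, 3, 2, 1, 4, 0, 0, 0, 0, 2, 2, 6, 4],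
  [0, 4, 0, 0, 0, 0, 0, 0, 1, 1, 6, 3, 1, 5, 5, 0, 3, 3, 1, 3, 5, 3, 3, 2, 1, 0, 3, 2, 4, 2, 4, 2, 3, 3, 1, 1, 5, 0, 0, 0, 0, 3, 5, 5, 1],
  [0, 0, 0, 0, 0, 0, 0, 0, 6, 0, 0, 0, 0, 0, 0, 0, 0, 0, 0, 0, 0, 0, 0, 0, 0, 0, 0, 0, 0, 0, 0, 0, 0, 0, 1, 0, 0, 0, 0, 0, 0, 4, 1, 4, 1],
  [0, 0, 0, 0, 0, 0, 0, 0, 6, 0, 0, 0, 0, 0, 0, 0, 0, 0, 0, 0, 6, 0, 0, 2, 0, 0, 0, 6, 6, 2, 0, 0, 5, 0, 5, 0, 6, 0, 0, 0, 0, 1, 0, 2, 1],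
  [0, 0, 0, 0, 0, 0, 6, 0, 0, 0, 0, 0, 1, 0, 0, 0, 0, 0, 0, 2, 0, 0, 0, 0, 0, 0, 0, 4, 3, 4, 0, 0, 0, 0, 1, 0, 0, 0, 0, 0, 0, 1, 0, 6, 2],
  [0, 4, 0, 0, 0, 0, 0, 0, 0, 0, 6, 3, 5, 1, 1, 0, 0, 0, 0, 3, 0, 0, 0, 0, 4, 3, 1, 4, 2, 2, 2, 3, 1, 2, 2, 1, 0, 2, 5, 5, 0, 6, 1, 3, 5],
  [0, 6, 0, 0, 0, 0, 0, 0, 0, 1, 6, 1, 6, 0, 4, 0, 0, 0, 0, 4, 0, 0, 0, 0, 4, 3, 0, 1, 3, 6, 0, 0, 4, 6, 4, 1, 0, 5, 6, 2, 4, 3, 4, 1, 4],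
  [0, 6, 0, 0, 0, 0, 0, 0, 0, 5, 2, 1, 5, 4, 4, 0, 0, 0, 0, 1, 0, 0, 0, 0, 0, 0, 3, 2, 1, 5, 5, 5, 1, 1, 6, 0, 1, 1, 0, 6, 2, 2, 0, 2, 3],
  [0, 0, 0, 0, 0, 0, 0, 0, 0, 0, 0, 0, 0, 0, 0, 0, 0, 0, 0, 0, 0, 0, 0, 0, 0, 0, 0, 6, 2, 2, 0, 0, 4, 0, 1, 0, 0, 0, 0, 2, 2, 5, 6, 1, 3],
  [0, 4, 0, 0, 0, 0, 0, 0, 0, 1, 6, 3, 1, 5, 5, 0, 0, 0, 0, 3, 0, 0, 0, 0, 3, 4, 0, 6, 3, 6, 1, 6, 3, 0, 2, 4, 3, 4, 5, 4, 5, 0, 4, 4, 5],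
  [0, 0, 0, 0, 0, 0, 0, 0, 0, 0, 0, 0, 0, 0, 0, 0, 0, 0, 0, 0, 0, 0, 0, 0, 0, 0, 0, 0, 0, 1, 0, 0, 0, 0, 0, 0, 0, 0, 0, 0, 6, 1, 3, 1, 1],
  [0, 0, 0, 0, 0, 0, 0, 0, 6, 0, 0, 0, 0, 0, 0, 0, 0, 0, 0, 0, 0, 0, 0, 1, 0, 0, 0, 6, 1, 1, 0, 0, 3, 0, 2, 0, 2, 0, 0, 0, 0, 1, 2, 4, 6],
  [6, 2, 0, 0, 4, 1, 1, 5, 0, 6, 0, 5, 0, 5, 2, 1, 0, 0, 0, 4, 0, 0, 0, 0, 5, 1, 2, 3, 0, 2, 0, 3, 0, 0, 0, 4, 0, 0, 0, 0, 0, 0, 4, 3, 6],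
  [5, 4, 3, 1, 0, 1, 6, 2, 0, 2, 6, 3, 5, 2, 2, 0, 0, 0, 0, 5, 0, 0, 0, 0, 2, 4, 5, 3, 6, 6, 4, 6, 5, 3, 0, 2, 5, 0, 0, 0, 0, 1, 2, 4, 2],
  [2, 5, 3, 6, 6, 6, 0, 3, 0, 4, 1, 2, 3, 3, 0, 1, 0, 0, 0, 1, 0, 0, 0, 0, 3, 4, 4, 4, 4, 0, 3, 3, 2, 5, 2, 2, 2, 0, 0, 0, 0, 0, 1, 4, 5],
  [0, 0, 0, 0, 0, 0, 0, 0, 0, 0, 0, 0, 0, 0, 0, 0, 0, 0, 0, 0, 0, 0, 0, 0, 0, 0, 0, 0, 1, 0, 0, 0, 5, 0, 5, 0, 3, 0, 0, 4, 5, 5, 6, 3, 5],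
  [0, 0, 0, 0, 0, 0, 5, 2, 0, 0, 0, 0, 5, 0, 0, 2, 0, 0, 0, 3, 0, 0, 0, 0, 0, 0, 0, 2, 2, 1, 0, 0, 1, 0, 0, 0, 0, 0, 0, 0, 0, 3, 3, 3, 2],
  [5, 0, 4, 0, 0, 1, 4, 5, 0, 1, 5, 0, 6, 5, 3, 2, 0, 0, 0, 0, 0, 0, 0, 0, 4, 5, 6, 3, 0, 0, 1, 5, 5, 2, 6, 0, 5, 0, 0, 0, 0, 5, 3, 6, 3],
  [6, 1, 2, 4, 1, 5, 4, 2, 0, 5, 3, 6, 0, 2, 0, 3, 0, 0, 0, 6, 0, 0, 0, 0, 2, 5, 5, 4, 6, 6, 2, 5, 6, 1, 2, 5, 6, 0, 0, 0, 0, 0, 6, 1, 5],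
  [0, 0, 0, 0, 0, 0, 1, 2, 0, 0, 0, 0, 4, 0, 0, 5, 0, 0, 0, 1, 0, 0, 0, 0, 0, 0, 0, 4, 4, 3, 0, 0, 0, 0, 0, 0, 1, 0, 0, 0, 0, 3, 3, 3, 3],
  [0, 2, 0, 0, 0, 0, 0, 0, 0, 3, 6, 5, 4, 4, 0, 0, 0, 0, 0, 6, 0, 0, 0, 0, 5, 3, 3, 6, 3, 6, 0, 2, 6, 0, 5, 1, 2, 0, 0, 0, 0, 6, 2, 5, 0],
  [0, 2, 0, 0, 0, 0, 0, 0, 0, 3, 6, 5, 6, 4, 0, 0, 0, 0, 0, 3, 0, 0, 0, 0, 6, 2, 4, 0, 2, 0, 0, 2, 6, 0, 5, 1, 2, 0, 0, 0, 0, 6, 1, 2, 2],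
  [0, 0, 0, 0, 0, 0, 0, 0, 0, 0, 0, 0, 4, 0, 0, 0, 0, 0, 0, 1, 0, 0, 0, 0, 5, 2, 4, 2, 5, 4, 0, 0, 0, 0, 0, 0, 0, 0, 0, 0, 0, 4, 0, 3, 5],
  [0, 0, 0, 0, 0, 0, 0, 0, 0, 0, 0, 0, 2, 0, 0, 0, 0, 0, 0, 4, 0, 0, 0, 0, 0, 0, 0, 6, 4, 3, 0, 0, 6, 0, 0, 0, 3, 0, 0, 0, 0, 1, 3, 6, 0],
  [0, 0, 0, 0, 0, 0, 0, 0, 0, 0, 0, 0, 3, 0, 0, 0, 0, 0, 0, 6, 0, 0, 0, 0, 0, 0, 0, 1, 1, 5, 0, 0, 6, 0, 1, 0, 1, 0, 0, 0, 0, 4, 2, 4, 3],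
  [0, 0, 0, 0, 0, 0, 0, 0, 0, 0, 0, 0, 6, 0, 0, 0, 0, 0, 0, 5, 0, 0, 0, 0, 0, 0, 0, 3, 4, 4, 0, 0, 0, 0, 0, 0, 0, 0, 0, 0, 0, 6, 0, 4, 3],
  [0, 5, 0, 0, 0, 0, 0, 0, 0, 0, 6, 2, 2, 2, 4, 0, 0, 0, 0, 3, 0, 0, 0, 0, 2, 0, 1, 6, 5, 6, 6, 1, 1, 1, 3, 4, 3, 0, 0, 0, 0, 4, 1, 6, 5],
  [0, 2, 0, 0, 0, 0, 0, 0, 0, 3, 6, 5, 5, 4, 0, 0, 0, 0, 0, 1, 0, 0, 0, 0, 0, 0, 4, 0, 2, 4, 0, 4, 4, 4, 3, 4, 4, 0, 0, 0, 0, 3, 5, 5, 0],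
  [0, 0, 0, 0, 0, 0, 0, 0, 0, 0, 0, 0, 5, 0, 0, 0, 0, 0, 0, 3, 0, 0, 0, 0, 0, 0, 0, 6, 1, 6, 0, 0, 2, 0, 1, 0, 2, 0, 0, 0, 0, 2, 5, 0, 1],
  [0, 2, 0, 0, 0, 0, 0, 0, 0, 3, 6, 5, 4, 4, 0, 0, 0, 0, 0, 6, 0, 0, 0, 0, 3, 4, 1, 3, 6, 3, 0, 2, 4, 3, 3, 5, 4, 0, 0, 0, 0, 0, 0, 5, 5],
  [0, 0, 0, 0, 0, 0, 0, 0, 0, 0, 0, 0, 1, 0, 0, 0, 0, 0, 0, 2, 0, 0, 0, 0, 0, 0, 0, 4, 3, 4, 0, 0, 0, 0, 1, 0, 0, 0, 0, 0, 0, 5, 6, 0, 5],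
  [0, 6, 0, 0, 0, 0, 0, 0, 0, 2, 4, 1, 6, 5, 0, 0, 0, 0, 0, 6, 0, 0, 0, 0, 0, 0, 3, 6, 0, 3, 0, 3, 5, 6, 4, 3, 5, 0, 0, 0, 0, 3, 2, 1, 1],
  [0, 0, 0, 0, 0, 0, 0, 0, 0, 0, 0, 0, 4, 0, 0, 0, 0, 0, 0, 1, 0, 0, 0, 0, 0, 0, 0, 2, 5, 2, 0, 0, 4, 0, 1, 0, 1, 0, 0, 0, 0, 0, 6, 1, 3],
  [0, 6, 0, 0, 0, 0, 0, 0, 0, 1, 0, 0, 5, 5, 0, 0, 0, 0, 0, 3, 0, 0, 0, 0, 3, 4, 4, 6, 1, 4, 0, 3, 0, 5, 2, 2, 0, 0, 0, 0, 0, 3, 1, 5, 5],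
  [0, 5, 0, 0, 0, 0, 0, 0, 0, 2, 0, 1, 4, 5, 5, 0, 0, 0, 0, 1, 0, 0, 0, 0, 1, 6, 4, 2, 5, 5, 0, 4, 0, 6, 4, 6, 0, 0, 0, 0, 0, 2, 5, 5, 6],
  [0, 0, 0, 0, 0, 0, 0, 0, 0, 0, 0, 0, 1, 0, 0, 0, 0, 0, 0, 4, 0, 0, 0, 0, 0, 0, 0, 3, 0, 6, 0, 0, 0, 0, 0, 0, 0, 0, 0, 0, 0, 1, 6, 1, 0],
  [0, 0, 0, 0, 0, 0, 0, 0, 0, 0, 0, 0, 6, 0, 6, 0, 0, 0, 0, 5, 0, 0, 0, 0, 0, 0, 0, 3, 4, 4, 0, 0, 0, 0, 0, 0, 0, 0, 0, 0, 0, 1, 1, 2, 6],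
  [0, 0, 0, 0, 0, 0, 0, 0, 0, 0, 0, 0, 0, 0, 0, 0, 0, 0, 0, 0, 0, 0, 0, 0, 0, 0, 0, 0, 0, 0, 0, 0, 0, 0, 0, 0, 0, 0, 0, 0, 0, 4, 4, 6, 0],
  [0, 0, 0, 0, 0, 0, 0, 0, 0, 0, 0, 0, 0, 0, 0, 0, 0, 0, 0, 0, 0, 0, 0, 0, 0, 0, 0, 0, 0, 0, 0, 0, 0, 0, 0, 0, 0, 0, 0, 0, 0, 6, 6, 0, 2],
  [0, 0, 0, 0, 0, 0, 0, 0, 0, 0, 0, 0, 0, 0, 0, 0, 0, 0, 0, 0, 0, 0, 0, 0, 0, 0, 0, 0, 0, 0, 0, 0, 0, 0, 0, 0, 0, 0, 0, 0, 0, 4, 2, 2, 4],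
  [0, 0, 0, 0, 0, 0, 0, 0, 0, 0, 0, 0, 0, 0, 0, 0, 0, 0, 0, 0, 0, 0, 0, 0, 0, 0, 0, 0, 0, 0, 0, 0, 0, 0, 0, 0, 0, 0, 0, 0, 0, 6, 1, 5, 0]]

theorem s43_0 : List.foldl (fun P x => mulT P (T x)) idL [3, 7, 2, 7] = m43_0 := by decide +kernel

/-- an intermediate product -/
def m43_1 : LM := [
  [0, 2, 2, 4, 0, 1, 0, 0, 1, 4, 0, 5, 6, 2, 6, 5, 2, 6, 2, 5, 2, 1, 5, 3, 0, 0, 0, 0, 0, 0, 0, 0, 0, 0, 0, 0, 0, 3, 1, 5, 0, 4, 4, 3, 2],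
  [0, 0, 2, 4, 0, 1, 0, 0, 1, 0, 0, 0, 0, 0, 0, 5, 2, 0, 2, 0, 0, 1, 3, 6, 0, 0, 0, 0, 0, 0, 0, 5, 3, 5, 0, 4, 1, 3, 1, 5, 0, 6, 4, 2, 3],
  [0, 4, 2, 4, 0, 4, 0, 0, 4, 4, 1, 6, 4, 4, 1, 4, 2, 4, 2, 0, 2, 6, 4, 5, 0, 0, 0, 0, 0, 0, 0, 0, 0, 0, 0, 0, 0, 4, 6, 2, 0, 1, 1, 5, 4],
  [0, 2, 2, 2, 0, 0, 0, 0, 0, 0, 0, 5, 2, 5, 6, 2, 4, 0, 0, 3, 2, 4, 3, 4, 0, 0, 0, 0, 0, 0, 0, 0, 0, 0, 0, 0, 0, 5, 4, 6, 0, 1, 0, 1, 6],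
  [0, 4, 0, 0, 0, 4, 0, 0, 6, 1, 6, 4, 2, 6, 5, 1, 1, 1, 1, 5, 0, 2, 5, 5, 0, 0, 0, 0, 0, 0, 0, 0, 0, 0, 0, 0, 0, 6, 2, 3, 0, 1, 5, 2, 1],
  [0, 5, 0, 0, 0, 5, 0, 0, 6, 3, 4, 1, 6, 3, 1, 3, 6, 0, 5, 1, 0, 6, 4, 1, 0, 0, 0, 0, 0, 0, 0, 0, 0, 0, 0, 0, 0, 4, 6, 2, 0, 6, 6, 3, 4],
  [0, 0, 0, 0, 0, 0, 0, 0, 0, 0, 0, 0, 0, 0, 6, 0, 0, 0, 0, 0, 0, 0, 0, 0, 0, 0, 0, 0, 0, 0, 0, 0, 0, 0, 0, 0, 0, 0, 0, 0, 0, 5, 0, 2, 0],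
  [0, 0, 0, 0, 0, 0, 0, 0, 5, 0, 0, 0, 5, 0, 6, 0, 0, 0, 0, 5, 4, 0, 0, 6, 0, 0, 0, 0, 0, 0, 0, 0, 0, 0, 0, 0, 0, 0, 0, 0, 0, 1, 6, 6, 6],
  [0, 0, 0, 0, 0, 0, 0, 0, 3, 0, 0, 0, 0, 0, 0, 2, 0, 0, 0, 0, 1, 0, 0, 3, 0, 0, 0, 0, 0, 6, 0, 0, 0, 0, 0, 0, 0, 0, 0, 0, 0, 0, 1, 4, 1],
  [0, 0, 2, 4, 0, 4, 0, 0, 4, 0, 0, 0, 0, 0, 0, 4, 2, 6, 3, 0, 6, 3, 0, 0, 0, 0, 0, 0, 0, 0, 0, 0, 4, 1, 4, 2, 4, 4, 6, 2, 0, 3, 6, 4, 4],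
  [0, 0, 4, 3, 0, 1, 0, 0, 1, 0, 0, 0, 0, 0, 0, 2, 1, 4, 3, 0, 3, 6, 6, 0, 0, 0, 0, 0, 0, 0, 1, 1, 3, 3, 1, 1, 6, 1, 5, 4, 0, 4, 1, 4, 2],
  [0, 0, 0, 0, 0, 4, 0, 0, 4, 0, 0, 0, 0, 0, 0, 1, 6, 2, 4, 0, 1, 5, 4, 6, 0, 0, 0, 0, 0, 0, 0, 4, 6, 5, 5, 2, 4, 6, 2, 3, 0, 1, 4, 5, 2],
  [0, 0, 0, 0, 0, 0, 0, 0, 5, 0, 0, 0, 0, 0, 0, 0, 0, 0, 0, 0, 2, 0, 0, 2, 0, 0, 0, 0, 0, 0, 0, 0, 6, 0, 3, 0, 0, 0, 0, 0, 0, 2, 6, 0, 4],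
  [0, 0, 0, 0, 0, 5, 0, 0, 3, 0, 0, 0, 0, 0, 0, 3, 3, 0, 0, 0, 3, 1, 0, 4, 0, 0, 0, 0, 0, 0, 0, 1, 4, 1, 4, 5, 5, 4, 6, 2, 0, 0, 6, 4, 3],
  [0, 0, 0, 0, 0, 0, 0, 0, 6, 0, 0, 0, 0, 0, 0, 0, 0, 0, 0, 0, 0, 0, 0, 0, 0, 0, 0, 0, 0, 0, 0, 0, 0, 0, 1, 0, 0, 0, 0, 0, 0, 2, 0, 4, 6],
  [0, 0, 0, 0, 0, 0, 0, 0, 6, 0, 0, 0, 5, 0, 5, 0, 0, 0, 0, 2, 5, 0, 0, 1, 0, 0, 0, 0, 0, 0, 0, 0, 0, 0, 0, 0, 0, 0, 0, 0, 0, 4, 1, 2, 6],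
  [0, 0, 6, 0, 0, 2, 0, 0, 4, 0, 0, 0, 0, 0, 0, 3, 0, 6, 0, 0, 3, 0, 2, 0, 6, 0, 0, 0, 3, 2, 0, 0, 0, 0, 0, 0, 0, 0, 0, 0, 0, 2, 2, 6, 6],
  [0, 0, 5, 3, 0, 6, 0, 0, 2, 0, 0, 0, 0, 0, 0, 4, 0, 0, 0, 0, 2, 0, 1, 4, 2, 2, 3, 3, 0, 2, 0, 0, 0, 0, 0, 0, 0, 4, 6, 2, 0, 6, 0, 4, 4],
  [0, 0, 1, 4, 0, 3, 0, 0, 5, 0, 0, 0, 0, 0, 0, 1, 0, 6, 0, 0, 2, 0, 1, 6, 2, 0, 2, 4, 3, 2, 0, 0, 0, 0, 0, 0, 0, 3, 1, 5, 0, 1, 3, 6, 1],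
  [0, 0, 0, 0, 0, 0, 0, 0, 0, 0, 0, 0, 0, 0, 0, 0, 0, 0, 0, 0, 4, 0, 0, 1, 0, 0, 0, 0, 0, 0, 0, 0, 0, 0, 1, 0, 6, 0, 0, 0, 0, 6, 0, 1, 6],
  [0, 0, 0, 0, 0, 0, 0, 0, 6, 0, 0, 0, 0, 0, 0, 3, 0, 0, 0, 0, 6, 0, 0, 2, 0, 0, 0, 6, 2, 6, 0, 0, 0, 0, 0, 0, 0, 0, 0, 0, 0, 4, 3, 6, 2],
  [0, 0, 0, 6, 0, 4, 0, 0, 4, 0, 0, 0, 0, 0, 0, 2, 6, 2, 4, 0, 0, 2, 4, 2, 0, 2, 0, 4, 4, 4, 0, 0, 0, 0, 0, 0, 0, 1, 5, 4, 0, 0, 5, 5, 2],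
  [0, 0, 3, 5, 0, 2, 0, 0, 2, 0, 0, 0, 0, 0, 0, 6, 0, 4, 0, 0, 4, 0, 3, 5, 3, 3, 1, 5, 2, 1, 0, 0, 0, 0, 0, 0, 0, 2, 3, 1, 0, 1, 6, 3, 2],
  [0, 0, 0, 0, 0, 0, 0, 0, 4, 0, 0, 0, 0, 0, 0, 1, 0, 0, 0, 0, 5, 0, 0, 4, 0, 0, 0, 0, 1, 6, 0, 0, 0, 0, 0, 0, 0, 0, 0, 0, 0, 4, 5, 0, 0],
  [0, 0, 6, 3, 0, 4, 0, 0, 0, 0, 0, 0, 0, 0, 0, 6, 3, 3, 5, 0, 6, 6, 5, 0, 0, 0, 0, 0, 0, 0, 0, 0, 0, 0, 0, 0, 0, 4, 6, 2, 0, 5, 6, 4, 1],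
  [0, 0, 6, 3, 0, 4, 0, 0, 5, 0, 0, 0, 0, 0, 0, 3, 6, 0, 4, 0, 1, 6, 2, 6, 0, 0, 0, 0, 0, 0, 0, 0, 0, 0, 0, 0, 0, 4, 6, 2, 0, 0, 3, 4, 3],
  [0, 0, 0, 0, 0, 0, 0, 0, 2, 0, 0, 0, 0, 0, 0, 1, 6, 1, 3, 0, 4, 0, 4, 5, 0, 0, 0, 0, 0, 0, 0, 0, 0, 0, 0, 0, 0, 0, 0, 0, 0, 4, 5, 5, 5],
  [0, 0, 0, 0, 0, 0, 0, 0, 4, 0, 0, 0, 0, 0, 0, 4, 0, 0, 0, 0, 3, 0, 0, 4, 0, 0, 0, 0, 0, 0, 0, 0, 0, 0, 0, 0, 0, 0, 0, 0, 0, 4, 6, 6, 3],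
  [0, 0, 0, 0, 0, 0, 0, 0, 2, 0, 0, 0, 0, 0, 0, 6, 0, 0, 0, 0, 3, 0, 0, 1, 0, 0, 0, 0, 0, 0, 0, 0, 0, 0, 0, 0, 0, 0, 0, 0, 0, 1, 4, 3, 6],
  [0, 0, 0, 0, 0, 0, 0, 0, 3, 0, 0, 0, 0, 0, 0, 5, 0, 0, 0, 0, 6, 0, 0, 4, 0, 0, 0, 0, 0, 0, 0, 0, 0, 0, 0, 0, 0, 0, 0, 0, 0, 3, 0, 1, 5],
  [0, 0, 4, 2, 0, 2, 0, 0, 4, 0, 0, 0, 0, 0, 0, 3, 6, 5, 4, 0, 5, 2, 1, 1, 0, 0, 0, 0, 0, 0, 0, 0, 0, 0, 0, 0, 0, 4, 4, 5, 0, 2, 4, 0, 0],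
  [0, 0, 6, 3, 0, 4, 0, 0, 3, 0, 0, 0, 0, 0, 0, 1, 5, 0, 6, 0, 0, 6, 6, 6, 0, 0, 0, 0, 0, 0, 0, 0, 0, 0, 0, 0, 0, 3, 3, 4, 6, 5, 0, 1, 6],
  [0, 0, 0, 0, 0, 0, 0, 0, 1, 0, 0, 0, 0, 0, 0, 3, 0, 0, 0, 0, 5, 0, 0, 1, 0, 0, 0, 0, 0, 0, 0, 0, 0, 0, 0, 0, 0, 0, 0, 5, 6, 6, 1, 2, 0],
  [0, 0, 6, 3, 0, 4, 0, 0, 4, 0, 0, 0, 0, 0, 0, 6, 2, 3, 2, 0, 6, 6, 6, 3, 0, 0, 0, 0, 0, 0, 0, 0, 0, 0, 0, 0, 0, 2, 1, 4, 1, 5, 1, 3, 1],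
  [0, 0, 0, 0, 0, 0, 0, 0, 3, 0, 0, 0, 0, 0, 0, 2, 0, 0, 0, 0, 1, 0, 0, 3, 0, 0, 0, 0, 0, 0, 0, 0, 0, 0, 0, 0, 0, 0, 0, 0, 6, 1, 5, 1, 1],
  [0, 0, 4, 2, 0, 5, 0, 0, 5, 0, 0, 0, 0, 0, 0, 6, 4, 4, 6, 0, 5, 4, 0, 5, 0, 0, 0, 0, 0, 0, 0, 0, 0, 0, 0, 0, 0, 2, 6, 5, 1, 0, 4, 4, 1],
  [0, 0, 0, 0, 0, 0, 0, 0, 5, 0, 0, 0, 0, 0, 0, 1, 0, 0, 0, 0, 4, 0, 0, 5, 0, 0, 0, 0, 0, 0, 0, 0, 0, 0, 0, 0, 0, 0, 0, 5, 5, 1, 0, 2, 1],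
  [1, 0, 6, 0, 0, 2, 0, 0, 3, 0, 0, 0, 0, 0, 0, 3, 4, 3, 3, 0, 5, 0, 0, 1, 0, 0, 0, 0, 0, 0, 0, 0, 0, 0, 0, 0, 0, 0, 0, 0, 0, 1, 4, 1, 6],
  [0, 0, 0, 0, 1, 2, 0, 0, 3, 0, 0, 0, 0, 0, 0, 1, 2, 5, 3, 0, 4, 0, 3, 5, 0, 0, 0, 0, 0, 0, 0, 0, 0, 0, 0, 0, 0, 0, 0, 0, 0, 3, 2, 2, 6],
  [0, 0, 0, 0, 0, 0, 0, 1, 1, 0, 0, 0, 0, 0, 0, 4, 0, 0, 0, 0, 4, 0, 0, 0, 0, 0, 0, 0, 0, 0, 0, 0, 0, 0, 0, 0, 0, 0, 0, 0, 0, 0, 0, 4, 3],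
  [0, 0, 0, 0, 0, 0, 1, 0, 3, 0, 0, 0, 0, 0, 0, 5, 0, 0, 0, 0, 6, 0, 0, 4, 0, 0, 0, 0, 0, 0, 0, 0, 0, 0, 0, 0, 0, 0, 0, 0, 0, 6, 0, 2, 4],
  [0, 0, 0, 0, 0, 0, 0, 0, 0, 0, 0, 0, 0, 0, 0, 0, 0, 0, 0, 0, 0, 0, 0, 0, 0, 0, 0, 0, 0, 0, 0, 0, 0, 0, 0, 0, 0, 0, 0, 0, 0, 1, 3, 1, 4],
  [0, 0, 0, 0, 0, 0, 0, 0, 0, 0, 0, 0, 0, 0, 0, 0, 0, 0, 0, 0, 0, 0, 0, 0, 0, 0, 0, 0, 0, 0, 0, 0, 0, 0, 0, 0, 0, 0, 0, 0, 0, 1, 2, 1, 1],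
  [0, 0, 0, 0, 0, 0, 0, 0, 0, 0, 0, 0, 0, 0, 0, 0, 0, 0, 0, 0, 0, 0, 0, 0, 0, 0, 0, 0, 0, 0, 0, 0, 0, 0, 0, 0, 0, 0, 0, 0, 0, 4, 2, 2, 6],
  [0, 0, 0, 0, 0, 0, 0, 0, 0, 0, 0, 0, 0, 0, 0, 0, 0, 0, 0, 0, 0, 0, 0, 0, 0, 0, 0, 0, 0, 0, 0, 0, 0, 0, 0, 0, 0, 0, 0, 0, 0, 0, 6, 2, 2]]

theorem s43_1 : List.foldl (fun P x => mulT P (T x)) m43_0 [2, 3, 2, 6] = m43_1 := by decide +kernel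

theorem s43_2 : List.foldl (fun P x => mulT P (T x)) m43_1 [2, 6] = idL := by decide +kernel

theorem wd43 : evalW T ([3, 7, 2, 7] ++ ([2, 3, 2, 6] ++ ([2, 6] ++ []))) = idL := by
  unfold evalW
  rw [List.foldl_append, s43_0, List.foldl_append, s43_1, List.foldl_append, s43_2]
  rfl

/-- an intermediate product -/
def m45_0 : LM := [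
  [6, 2, 1, 3, 5, 4, 1, 4, 0, 4, 4, 2, 1, 3, 3, 1, 0, 0, 0, 2, 0, 0, 0, 0, 4, 0, 5, 2, 3, 4, 5, 0, 5, 6, 4, 4, 1, 1, 0, 3, 1, 4, 1, 3, 2],
  [0, 3, 0, 0, 0, 0, 0, 0, 0, 0, 5, 1, 5, 2, 0, 0, 0, 0, 0, 5, 0, 0, 0, 0, 6, 4, 1, 1, 6, 3, 3, 3, 4, 6, 3, 4, 4, 2, 1, 5, 6, 6, 0, 3, 2],
  [5, 6, 1, 0, 0, 5, 4, 0, 0, 5, 4, 4, 1, 3, 0, 3, 0, 0, 0, 4, 0, 0, 0, 0, 1, 1, 1, 4, 1, 5, 0, 6, 6, 1, 6, 6, 3, 0, 0, 1, 6, 0, 4, 4, 5],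
  [2, 3, 0, 4, 6, 5, 6, 0, 0, 3, 2, 5, 1, 3, 6, 3, 0, 0, 0, 6, 0, 0, 0, 0, 6, 5, 3, 2, 3, 6, 4, 0, 6, 4, 2, 1, 2, 0, 5, 5, 2, 0, 4, 0, 1],
  [1, 2, 0, 1, 3, 2, 0, 0, 0, 2, 6, 3, 4, 1, 3, 6, 0, 0, 0, 5, 0, 0, 0, 0, 1, 4, 1, 1, 6, 5, 1, 5, 1, 1, 0, 3, 6, 4, 1, 5, 0, 6, 6, 2, 4],
  [5, 4, 3, 4, 2, 6, 5, 2, 0, 5, 6, 3, 3, 5, 1, 0, 0, 0, 0, 6, 0, 0, 0, 0, 0, 1, 5, 4, 6, 5, 1, 2, 2, 3, 1, 4, 1, 1, 6, 2, 0, 4, 5, 2, 5],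
  [0, 0, 0, 0, 0, 0, 2, 6, 0, 0, 0, 0, 1, 0, 2, 0, 0, 0, 0, 6, 0, 0, 0, 0, 0, 0, 0, 5, 4, 5, 0, 0, 2, 0, 1, 0, 2, 0, 0, 0, 4, 4, 1, 5, 0],
  [0, 0, 0, 0, 0, 0, 3, 4, 0, 0, 0, 0, 0, 0, 0, 5, 0, 0, 0, 1, 0, 0, 0, 0, 0, 0, 0, 0, 3, 0, 0, 0, 1, 0, 1, 0, 6, 0, 0, 6, 3, 5, 3, 1, 0],
  [0, 0, 0, 0, 0, 0, 0, 0, 4, 0, 0, 0, 5, 0, 3, 0, 0, 0, 0, 3, 2, 0, 0, 1, 0, 0, 0, 2, 1, 2, 0, 0, 5, 0, 4, 0, 5, 0, 0, 4, 0, 2, 3, 0, 0],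
  [0, 2, 0, 0, 0, 0, 0, 0, 0, 3, 5, 5, 2, 4, 3, 0, 0, 0, 0, 2, 0, 0, 0, 0, 4, 3, 0, 0, 2, 1, 6, 2, 0, 3, 3, 0, 4, 0, 6, 1, 4, 1, 3, 5, 5],
  [0, 0, 0, 0, 0, 0, 0, 0, 0, 0, 1, 6, 2, 2, 3, 0, 0, 0, 0, 2, 0, 0, 0, 0, 5, 0, 0, 5, 1, 1, 0, 3, 2, 1, 3, 3, 1, 2, 1, 2, 4, 4, 5, 5, 3],
  [0, 6, 0, 0, 0, 0, 0, 0, 0, 3, 6, 6, 0, 2, 4, 0, 0, 0, 0, 6, 0, 0, 0, 0, 5, 6, 2, 4, 4, 5, 4, 0, 5, 6, 6, 3, 4, 3, 0, 1, 6, 2, 0, 4, 4],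
  [0, 0, 0, 0, 0, 0, 0, 0, 0, 0, 0, 0, 1, 0, 4, 0, 0, 0, 0, 3, 0, 0, 0, 0, 0, 0, 0, 5, 5, 0, 0, 0, 0, 0, 0, 0, 0, 0, 0, 4, 4, 6, 0, 2, 0],
  [0, 0, 0, 0, 0, 0, 0, 0, 0, 2, 6, 6, 2, 6, 3, 0, 0, 0, 0, 5, 0, 0, 0, 0, 4, 4, 4, 5, 1, 1, 1, 0, 4, 2, 2, 2, 4, 2, 3, 0, 3, 3, 1, 5, 5],
  [0, 0, 0, 0, 0, 0, 0, 0, 0, 0, 0, 0, 6, 0, 1, 0, 0, 0, 0, 3, 0, 0, 0, 0, 0, 0, 0, 3, 3, 4, 0, 0, 6, 0, 6, 0, 6, 0, 0, 6, 1, 5, 3, 5, 0],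
  [0, 0, 0, 0, 0, 0, 1, 3, 0, 0, 0, 0, 2, 0, 3, 2, 0, 0, 0, 2, 0, 0, 0, 0, 0, 0, 0, 2, 1, 5, 0, 0, 4, 0, 2, 0, 6, 0, 0, 3, 1, 1, 2, 4, 0],
  [0, 0, 0, 0, 0, 0, 0, 0, 4, 3, 5, 4, 5, 2, 4, 0, 2, 0, 3, 0, 5, 4, 3, 2, 5, 6, 0, 2, 3, 6, 5, 2, 1, 3, 4, 0, 2, 4, 4, 4, 0, 4, 6, 2, 0],
  [0, 0, 0, 0, 0, 0, 0, 0, 3, 5, 2, 4, 4, 2, 3, 0, 6, 0, 1, 0, 6, 0, 2, 5, 2, 4, 4, 4, 3, 3, 5, 4, 2, 4, 3, 3, 3, 4, 6, 1, 1, 3, 5, 2, 5],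
  [0, 2, 0, 0, 0, 0, 0, 0, 3, 4, 1, 2, 4, 1, 4, 0, 3, 1, 3, 6, 2, 6, 1, 1, 4, 5, 3, 1, 5, 3, 1, 2, 4, 0, 4, 1, 6, 1, 5, 1, 2, 4, 3, 1, 2],
  [0, 0, 0, 0, 0, 0, 0, 0, 0, 0, 0, 0, 6, 0, 3, 0, 0, 0, 0, 5, 0, 0, 0, 0, 0, 0, 0, 0, 5, 1, 0, 0, 1, 0, 2, 0, 1, 0, 0, 5, 4, 0, 6, 6, 0],
  [0, 0, 0, 0, 0, 0, 0, 0, 4, 0, 0, 0, 4, 0, 5, 0, 0, 0, 0, 1, 3, 0, 0, 6, 0, 0, 0, 2, 4, 6, 0, 0, 0, 0, 3, 0, 0, 0, 0, 5, 6, 2, 6, 6, 0],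
  [0, 1, 0, 0, 0, 0, 0, 0, 4, 1, 1, 5, 2, 6, 2, 0, 5, 2, 3, 5, 4, 3, 2, 5, 2, 3, 4, 4, 3, 3, 2, 5, 2, 0, 6, 5, 2, 4, 2, 3, 0, 4, 2, 0, 3],
  [0, 1, 0, 0, 0, 0, 0, 0, 5, 4, 1, 4, 6, 1, 6, 0, 2, 4, 0, 4, 4, 3, 5, 1, 6, 6, 1, 5, 1, 0, 4, 2, 1, 6, 4, 2, 2, 3, 3, 4, 4, 2, 6, 2, 6],
  [0, 0, 0, 0, 0, 0, 0, 0, 0, 0, 0, 0, 5, 0, 0, 0, 0, 0, 0, 0, 4, 0, 0, 1, 0, 0, 0, 1, 3, 2, 0, 0, 6, 0, 1, 0, 6, 0, 0, 2, 4, 4, 5, 0, 0],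
  [0, 6, 0, 0, 0, 0, 0, 0, 0, 1, 5, 3, 6, 1, 3, 0, 0, 0, 0, 1, 0, 0, 0, 0, 4, 0, 5, 2, 6, 1, 4, 1, 4, 3, 0, 2, 4, 4, 2, 6, 0, 2, 6, 0, 5],
  [0, 5, 0, 0, 0, 0, 0, 0, 0, 4, 0, 6, 4, 4, 5, 0, 0, 0, 0, 3, 0, 0, 0, 0, 0, 0, 6, 1, 4, 4, 3, 1, 0, 6, 3, 1, 1, 0, 6, 3, 4, 0, 5, 1, 5],
  [0, 0, 0, 0, 0, 0, 0, 0, 0, 5, 0, 2, 0, 2, 4, 0, 0, 0, 0, 0, 0, 0, 0, 0, 6, 3, 2, 5, 1, 0, 6, 4, 5, 5, 2, 1, 2, 6, 6, 1, 2, 6, 5, 4, 0],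
  [0, 0, 0, 0, 0, 0, 0, 0, 0, 0, 0, 0, 5, 0, 2, 0, 0, 0, 0, 5, 0, 0, 0, 0, 0, 0, 0, 0, 0, 4, 0, 0, 4, 0, 5, 0, 4, 0, 0, 6, 5, 3, 0, 1, 0],
  [0, 0, 0, 0, 0, 0, 0, 0, 0, 0, 0, 0, 6, 0, 3, 0, 0, 0, 0, 6, 0, 0, 0, 0, 0, 0, 0, 5, 1, 5, 0, 0, 4, 0, 0, 0, 4, 0, 0, 4, 0, 2, 3, 6, 0],
  [0, 0, 0, 0, 0, 0, 0, 0, 0, 0, 0, 0, 3, 0, 4, 0, 0, 0, 0, 1, 0, 0, 0, 0, 0, 0, 0, 3, 2, 0, 0, 0, 2, 0, 3, 0, 2, 0, 0, 2, 4, 5, 4, 0, 0],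
  [0, 0, 0, 0, 0, 0, 0, 0, 0, 2, 6, 4, 2, 0, 3, 0, 0, 0, 0, 0, 0, 0, 0, 0, 6, 3, 4, 1, 3, 6, 3, 3, 3, 1, 3, 3, 2, 4, 6, 4, 1, 2, 4, 3, 3],
  [0, 3, 0, 0, 0, 0, 0, 0, 0, 5, 4, 2, 1, 5, 2, 0, 0, 0, 0, 1, 0, 0, 0, 0, 0, 5, 2, 2, 4, 1, 4, 1, 5, 1, 5, 4, 0, 3, 3, 2, 2, 0, 5, 0, 3],
  [0, 0, 0, 0, 0, 0, 0, 0, 0, 0, 0, 0, 5, 0, 6, 0, 0, 0, 0, 2, 0, 0, 0, 0, 0, 0, 0, 3, 6, 6, 0, 0, 5, 0, 2, 0, 5, 0, 0, 0, 1, 6, 6, 2, 2],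
  [0, 1, 0, 0, 0, 0, 0, 0, 0, 4, 6, 4, 3, 6, 0, 0, 0, 0, 0, 2, 0, 0, 0, 0, 4, 5, 0, 2, 1, 0, 0, 0, 0, 2, 4, 2, 4, 6, 1, 5, 6, 6, 0, 5, 5],
  [0, 0, 0, 0, 0, 0, 0, 0, 0, 0, 0, 0, 5, 0, 0, 0, 0, 0, 0, 6, 0, 0, 0, 0, 0, 0, 0, 1, 0, 2, 0, 0, 0, 0, 5, 0, 0, 0, 0, 4, 1, 4, 6, 0, 1],
  [0, 5, 0, 0, 0, 0, 0, 0, 0, 2, 1, 2, 4, 6, 4, 0, 0, 0, 0, 5, 0, 0, 0, 0, 2, 2, 1, 2, 3, 1, 6, 1, 6, 4, 5, 6, 4, 4, 3, 6, 5, 2, 6, 6, 3],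
  [0, 0, 0, 0, 0, 0, 0, 0, 0, 0, 0, 0, 3, 0, 2, 0, 0, 0, 0, 6, 0, 0, 0, 0, 0, 0, 0, 5, 2, 3, 0, 0, 0, 0, 5, 0, 5, 0, 0, 1, 1, 6, 2, 1, 0],
  [0, 4, 0, 0, 0, 0, 0, 0, 0, 6, 1, 4, 5, 1, 4, 0, 0, 0, 0, 1, 0, 0, 0, 0, 5, 3, 3, 1, 2, 2, 0, 5, 4, 6, 4, 4, 1, 5, 6, 5, 1, 0, 0, 4, 0],
  [0, 1, 0, 0, 0, 0, 0, 0, 0, 3, 6, 6, 3, 0, 4, 0, 0, 0, 0, 4, 0, 0, 0, 0, 6, 4, 5, 3, 3, 5, 6, 1, 2, 0, 5, 5, 4, 0, 5, 5, 6, 2, 0, 3, 0],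
  [0, 0, 0, 0, 0, 0, 0, 0, 0, 0, 0, 0, 0, 0, 0, 0, 0, 0, 0, 0, 0, 0, 0, 0, 0, 0, 0, 0, 0, 0, 0, 0, 0, 0, 0, 0, 0, 0, 0, 6, 4, 2, 0, 4, 0],
  [0, 0, 0, 0, 0, 0, 0, 0, 0, 0, 0, 0, 0, 0, 2, 0, 0, 0, 0, 1, 0, 0, 0, 0, 0, 0, 0, 3, 2, 6, 0, 0, 1, 0, 2, 0, 1, 0, 0, 1, 4, 3, 0, 5, 0],
  [0, 0, 0, 0, 0, 0, 0, 0, 0, 0, 0, 0, 6, 0, 1, 0, 0, 0, 0, 5, 0, 0, 0, 0, 0, 0, 0, 3, 4, 2, 0, 0, 4, 0, 5, 0, 4, 0, 0, 4, 6, 1, 3, 2, 0],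
  [0, 0, 0, 0, 0, 0, 0, 0, 0, 0, 0, 0, 2, 0, 1, 0, 0, 0, 0, 5, 0, 0, 0, 0, 0, 0, 0, 4, 1, 1, 0, 0, 6, 0, 1, 0, 4, 0, 0, 1, 5, 3, 1, 4, 0],
  [0, 0, 0, 0, 0, 0, 0, 0, 0, 0, 0, 0, 0, 0, 2, 0, 0, 0, 0, 5, 0, 0, 0, 0, 0, 0, 0, 1, 3, 3, 0, 0, 1, 0, 5, 0, 3, 0, 0, 6, 3, 5, 6, 3, 0],
  [0, 0, 0, 0, 0, 0, 0, 0, 0, 0, 0, 0, 5, 0, 0, 0, 0, 0, 0, 6, 0, 0, 0, 0, 0, 0, 0, 1, 0, 2, 0, 0, 0, 0, 0, 0, 0, 0, 0, 2, 6, 2, 1, 6, 0]]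

theorem s45_0 : List.foldl (fun P x => mulT P (T x)) idL [6, 1, 2, 6] = m45_0 := by decide +kernel

/-- an intermediate product -/
def m45_1 : LM := [
  [3, 2, 2, 4, 3, 5, 6, 1, 0, 2, 4, 3, 2, 2, 4, 6, 3, 3, 4, 0, 4, 5, 3, 5, 6, 1, 0, 2, 0, 5, 0, 0, 0, 0, 0, 0, 0, 6, 1, 1, 4, 2, 3, 6, 4],
  [3, 2, 2, 4, 3, 5, 6, 1, 1, 2, 4, 3, 2, 2, 4, 6, 5, 5, 0, 0, 3, 5, 5, 3, 0, 4, 6, 6, 3, 3, 0, 2, 6, 3, 4, 4, 4, 0, 0, 0, 0, 6, 1, 2, 6],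
  [1, 5, 6, 5, 5, 1, 0, 5, 5, 5, 3, 4, 5, 5, 3, 2, 3, 5, 4, 0, 1, 2, 4, 3, 4, 3, 2, 6, 2, 0, 0, 0, 0, 0, 0, 0, 0, 5, 4, 6, 0, 3, 0, 2, 0],
  [4, 1, 0, 6, 0, 5, 3, 3, 5, 1, 2, 5, 1, 1, 2, 2, 1, 2, 2, 0, 5, 6, 4, 3, 3, 4, 0, 0, 2, 4, 0, 0, 0, 0, 0, 0, 0, 6, 1, 1, 0, 0, 5, 0, 5],
  [2, 4, 3, 6, 5, 4, 6, 3, 0, 4, 1, 6, 4, 4, 1, 4, 5, 0, 2, 0, 3, 3, 6, 2, 1, 6, 5, 3, 5, 4, 0, 0, 0, 0, 0, 0, 0, 5, 5, 2, 3, 2, 0, 3, 5],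
  [6, 5, 2, 4, 1, 5, 4, 2, 1, 5, 3, 4, 5, 5, 3, 5, 6, 2, 0, 0, 2, 2, 2, 6, 0, 0, 0, 2, 1, 6, 0, 0, 0, 0, 0, 0, 0, 1, 3, 6, 4, 6, 5, 5, 6],
  [0, 0, 0, 0, 0, 0, 0, 0, 0, 0, 0, 0, 0, 0, 0, 0, 0, 0, 0, 0, 0, 0, 0, 0, 0, 0, 0, 0, 0, 4, 0, 0, 0, 0, 0, 0, 0, 0, 0, 0, 3, 1, 6, 3, 1],
  [0, 0, 0, 0, 0, 0, 0, 0, 3, 0, 0, 0, 0, 0, 0, 0, 0, 0, 0, 0, 5, 0, 0, 0, 0, 0, 0, 1, 4, 6, 0, 0, 0, 0, 0, 0, 0, 0, 0, 6, 3, 2, 0, 3, 2],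
  [0, 0, 0, 0, 0, 0, 1, 2, 0, 0, 0, 0, 0, 0, 0, 5, 0, 0, 0, 0, 3, 0, 0, 6, 0, 0, 0, 0, 0, 4, 0, 0, 0, 0, 0, 0, 0, 0, 0, 0, 0, 0, 2, 4, 6],
  [1, 5, 6, 5, 5, 1, 0, 5, 3, 5, 3, 4, 5, 5, 3, 2, 6, 5, 2, 0, 1, 5, 4, 2, 2, 1, 5, 3, 0, 0, 4, 0, 1, 6, 3, 4, 0, 0, 0, 0, 0, 4, 0, 0, 4],
  [4, 3, 1, 3, 3, 1, 5, 2, 5, 3, 6, 1, 3, 3, 6, 0, 2, 2, 2, 0, 6, 2, 6, 3, 4, 2, 2, 5, 0, 3, 0, 0, 6, 6, 2, 4, 1, 0, 0, 0, 0, 6, 6, 3, 3],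
  [2, 4, 3, 6, 5, 4, 6, 3, 4, 4, 1, 6, 4, 4, 1, 4, 5, 1, 5, 0, 2, 0, 6, 1, 0, 1, 6, 3, 3, 5, 3, 3, 5, 1, 0, 3, 4, 0, 0, 0, 0, 3, 6, 4, 1],
  [0, 0, 0, 0, 0, 0, 0, 0, 6, 0, 0, 0, 0, 0, 0, 0, 0, 0, 0, 0, 6, 0, 0, 3, 0, 0, 0, 5, 0, 3, 0, 0, 1, 0, 6, 0, 1, 0, 0, 0, 0, 4, 2, 4, 6],
  [6, 5, 2, 4, 1, 5, 4, 2, 6, 5, 3, 4, 5, 5, 3, 5, 5, 6, 0, 0, 6, 0, 3, 3, 2, 1, 3, 2, 2, 0, 2, 4, 1, 3, 2, 6, 5, 0, 0, 0, 0, 1, 3, 2, 4],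
  [0, 0, 0, 0, 0, 0, 0, 0, 4, 0, 0, 0, 0, 0, 0, 0, 0, 0, 0, 0, 0, 0, 0, 0, 0, 0, 0, 0, 0, 0, 0, 0, 0, 0, 3, 0, 0, 0, 0, 0, 0, 6, 2, 4, 6],
  [0, 0, 0, 0, 0, 0, 0, 0, 1, 0, 0, 0, 0, 0, 0, 0, 0, 0, 0, 0, 1, 0, 0, 2, 0, 0, 0, 2, 6, 3, 0, 0, 0, 0, 0, 0, 0, 0, 0, 6, 6, 2, 0, 6, 6],
  [0, 0, 3, 0, 6, 6, 2, 6, 2, 0, 0, 0, 0, 0, 0, 3, 5, 5, 4, 0, 4, 0, 5, 1, 4, 6, 6, 0, 0, 1, 0, 0, 0, 0, 0, 0, 0, 0, 0, 0, 0, 0, 4, 1, 4],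
  [4, 5, 5, 3, 4, 2, 2, 1, 1, 5, 3, 4, 5, 5, 3, 6, 2, 2, 3, 0, 2, 2, 2, 0, 3, 0, 2, 1, 1, 4, 0, 0, 0, 0, 0, 0, 0, 0, 0, 0, 0, 3, 2, 3, 0],
  [3, 2, 5, 4, 2, 4, 1, 0, 1, 2, 4, 3, 2, 2, 4, 2, 3, 3, 1, 0, 5, 5, 3, 0, 5, 2, 0, 6, 6, 5, 0, 0, 0, 0, 0, 0, 0, 0, 0, 0, 0, 3, 3, 6, 3],
  [0, 0, 0, 0, 0, 0, 0, 0, 1, 0, 0, 0, 0, 0, 0, 0, 0, 0, 0, 0, 5, 0, 0, 1, 0, 0, 0, 1, 2, 1, 0, 0, 1, 0, 4, 0, 6, 0, 0, 0, 0, 5, 5, 6, 0],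
  [0, 0, 0, 0, 0, 0, 5, 3, 0, 0, 0, 0, 0, 0, 0, 4, 0, 0, 0, 0, 4, 0, 0, 0, 0, 0, 0, 3, 0, 5, 0, 0, 0, 0, 0, 0, 0, 0, 0, 0, 0, 4, 2, 5, 1],
  [1, 3, 5, 6, 5, 1, 6, 5, 2, 3, 6, 1, 3, 3, 6, 1, 5, 4, 5, 0, 4, 0, 4, 1, 4, 4, 2, 1, 1, 1, 0, 0, 0, 0, 0, 0, 0, 0, 0, 0, 0, 4, 4, 4, 0],
  [2, 6, 1, 5, 6, 5, 1, 3, 3, 6, 5, 2, 6, 6, 5, 3, 2, 2, 3, 0, 2, 1, 2, 2, 1, 6, 5, 4, 4, 6, 0, 0, 0, 0, 0, 0, 0, 0, 0, 0, 0, 4, 2, 3, 0],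
  [0, 0, 0, 0, 0, 0, 4, 1, 4, 0, 0, 0, 0, 0, 0, 6, 0, 0, 0, 0, 1, 0, 0, 0, 0, 0, 0, 0, 3, 4, 0, 0, 0, 0, 0, 0, 0, 0, 0, 0, 0, 5, 1, 1, 2],
  [4, 5, 2, 3, 5, 3, 6, 0, 0, 5, 3, 4, 5, 5, 3, 5, 0, 1, 2, 0, 6, 2, 1, 1, 2, 2, 6, 4, 6, 6, 0, 0, 0, 0, 0, 0, 0, 0, 0, 0, 0, 5, 3, 4, 0],
  [4, 5, 2, 3, 5, 3, 1, 4, 0, 5, 3, 4, 5, 5, 3, 1, 3, 5, 2, 0, 5, 2, 0, 6, 2, 2, 6, 4, 6, 6, 0, 0, 0, 0, 0, 0, 0, 0, 0, 0, 0, 6, 0, 0, 6],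
  [0, 0, 0, 0, 0, 0, 4, 1, 0, 0, 0, 0, 0, 0, 0, 6, 0, 0, 4, 0, 5, 0, 1, 3, 0, 0, 0, 0, 0, 0, 0, 0, 0, 0, 0, 0, 0, 0, 0, 0, 0, 4, 5, 6, 0],
  [0, 0, 0, 0, 0, 0, 2, 4, 5, 0, 0, 0, 0, 0, 0, 3, 0, 0, 0, 0, 2, 0, 0, 5, 0, 0, 0, 4, 2, 0, 0, 0, 0, 0, 0, 0, 0, 0, 0, 0, 0, 3, 4, 5, 5],
  [0, 0, 0, 0, 0, 0, 3, 6, 4, 0, 0, 0, 0, 0, 0, 1, 0, 0, 0, 0, 2, 0, 0, 0, 0, 0, 0, 4, 3, 3, 0, 0, 0, 0, 0, 0, 0, 0, 0, 0, 0, 0, 5, 2, 4],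
  [0, 0, 0, 0, 0, 0, 6, 5, 4, 0, 0, 0, 0, 0, 0, 2, 0, 0, 0, 0, 4, 0, 0, 1, 0, 0, 0, 0, 0, 0, 0, 0, 0, 0, 0, 0, 0, 0, 0, 0, 0, 2, 1, 4, 5],
  [0, 5, 2, 1, 6, 6, 2, 1, 2, 4, 1, 5, 5, 3, 4, 0, 3, 2, 2, 5, 1, 6, 2, 3, 3, 5, 1, 3, 2, 3, 0, 0, 0, 0, 0, 0, 0, 0, 0, 0, 0, 5, 2, 6, 5],
  [4, 2, 2, 3, 5, 3, 0, 2, 0, 4, 3, 2, 1, 3, 6, 3, 5, 6, 5, 6, 4, 2, 4, 3, 1, 6, 1, 5, 5, 4, 0, 0, 0, 0, 0, 0, 0, 0, 0, 0, 0, 4, 1, 4, 2],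
  [0, 0, 0, 0, 0, 0, 5, 3, 0, 0, 0, 0, 6, 0, 3, 4, 0, 0, 0, 6, 1, 0, 0, 2, 0, 0, 0, 6, 6, 1, 0, 0, 0, 0, 0, 0, 0, 0, 0, 0, 0, 1, 3, 2, 0],
  [4, 6, 2, 3, 5, 3, 6, 0, 6, 0, 3, 3, 1, 6, 6, 5, 1, 3, 1, 6, 1, 2, 2, 4, 4, 3, 0, 5, 5, 4, 0, 0, 0, 0, 0, 0, 0, 0, 0, 0, 0, 3, 4, 1, 3],
  [0, 0, 0, 0, 0, 0, 1, 2, 0, 0, 0, 0, 0, 0, 3, 5, 0, 0, 0, 0, 3, 0, 0, 6, 0, 0, 0, 0, 0, 4, 0, 0, 0, 0, 0, 0, 0, 0, 0, 0, 0, 3, 1, 5, 2],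
  [5, 6, 6, 2, 1, 2, 5, 2, 1, 5, 2, 4, 3, 5, 4, 6, 6, 6, 2, 4, 6, 6, 3, 4, 0, 0, 2, 1, 1, 6, 0, 0, 0, 0, 0, 0, 0, 0, 0, 0, 0, 0, 3, 3, 3],
  [0, 0, 0, 0, 0, 0, 4, 1, 0, 0, 0, 0, 6, 0, 6, 6, 0, 0, 0, 1, 5, 0, 0, 3, 0, 0, 0, 5, 3, 0, 0, 0, 0, 0, 0, 0, 0, 0, 0, 0, 0, 3, 5, 2, 6],
  [4, 0, 3, 0, 4, 2, 5, 3, 0, 0, 0, 0, 0, 0, 0, 4, 3, 4, 3, 0, 1, 0, 5, 2, 6, 1, 5, 0, 0, 1, 0, 0, 0, 0, 0, 0, 0, 0, 0, 0, 0, 0, 5, 3, 0],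
  [0, 0, 0, 0, 3, 6, 4, 1, 1, 0, 0, 0, 0, 0, 0, 6, 6, 1, 2, 0, 5, 0, 2, 3, 3, 4, 2, 0, 0, 2, 0, 0, 0, 0, 0, 0, 0, 0, 0, 0, 0, 0, 2, 2, 2],
  [0, 0, 0, 0, 0, 0, 1, 5, 1, 0, 0, 0, 0, 0, 0, 4, 0, 0, 0, 0, 5, 0, 0, 4, 0, 0, 0, 0, 0, 0, 0, 0, 0, 0, 0, 0, 0, 0, 0, 0, 0, 0, 0, 0, 6],
  [0, 0, 0, 0, 0, 0, 2, 5, 4, 0, 0, 0, 0, 0, 0, 2, 0, 0, 0, 0, 4, 0, 0, 1, 0, 0, 0, 0, 0, 0, 0, 0, 0, 0, 0, 0, 0, 0, 0, 0, 0, 4, 3, 6, 4],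
  [0, 0, 0, 0, 0, 0, 0, 0, 0, 0, 0, 0, 0, 0, 0, 0, 0, 0, 0, 0, 0, 0, 0, 0, 0, 0, 0, 0, 0, 0, 0, 0, 0, 0, 0, 0, 0, 0, 0, 0, 0, 3, 2, 3, 5],
  [0, 0, 0, 0, 0, 0, 0, 0, 0, 0, 0, 0, 0, 0, 0, 0, 0, 0, 0, 0, 0, 0, 0, 0, 0, 0, 0, 0, 0, 0, 0, 0, 0, 0, 0, 0, 0, 0, 0, 0, 0, 6, 4, 5, 1],
  [0, 0, 0, 0, 0, 0, 0, 0, 0, 0, 0, 0, 0, 0, 0, 0, 0, 0, 0, 0, 0, 0, 0, 0, 0, 0, 0, 0, 0, 0, 0, 0, 0, 0, 0, 0, 0, 0, 0, 0, 0, 5, 3, 4, 1],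
  [0, 0, 0, 0, 0, 0, 0, 0, 0, 0, 0, 0, 0, 0, 0, 0, 0, 0, 0, 0, 0, 0, 0, 0, 0, 0, 0, 0, 0, 0, 0, 0, 0, 0, 0, 0, 0, 0, 0, 0, 0, 3, 1, 5, 3]]

theorem s45_1 : List.foldl (fun P x => mulT P (T x)) m45_0 [2, 1, 6, 1] = m45_1 := by decide +kernel

theorem s45_2 : List.foldl (fun P x => mulT P (T x)) m45_1 [2, 6, 2, 9] = idL := by decide +kernel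

theorem wd45 : evalW T ([6, 1, 2, 6] ++ ([2, 1, 6, 1] ++ ([2, 6, 2, 9] ++ []))) = idL := by
  unfold evalW
  rw [List.foldl_append, s45_0, List.foldl_append, s45_1, List.foldl_append, s45_2]
  rfl

theorem s52_0 : List.foldl (fun P x => mulT P (T x)) idL [8, 4, 9, 4] = idL := by decide +kernel

theorem wd52 : evalW T ([8, 4, 9, 4] ++ []) = idL := by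
  unfold evalW
  rw [List.foldl_append, s52_0]
  rfl

end Cfsg.Agent.Lib.Lead.ON45
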