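import Cfsg.Agent.Lib.Lead.ON45.Data

/-! # The relators of the triple cover hold on the 45-dimensional module: products of at most four letters at a time,
with the intermediate matrices written out (generated), part 4 -/

set_option autoImplicit false
set_option maxRecDepth 1000000
set_option maxHeartbeats 4000000

namespace Cfsg.Agent.Lib.Lead.ON45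

/-- an intermediate product -/
def m1_0 : LM := [
  [0, 0, 4, 6, 5, 3, 1, 0, 1, 0, 0, 0, 0, 0, 0, 0, 6, 3, 3, 0, 1, 3, 2, 5, 0, 0, 0, 0, 0, 0, 4, 5, 3, 2, 5, 5, 2, 0, 1, 3, 0, 1, 0, 4, 4],
  [6, 1, 0, 0, 1, 2, 2, 0, 1, 4, 4, 0, 1, 4, 6, 0, 4, 1, 1, 2, 2, 6, 1, 2, 0, 0, 0, 0, 0, 0, 0, 6, 5, 0, 4, 0, 1, 1, 5, 4, 5, 2, 2, 5, 1],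
  [6, 0, 0, 1, 2, 4, 2, 0, 2, 0, 0, 0, 0, 0, 0, 0, 5, 1, 0, 0, 4, 5, 4, 4, 5, 1, 3, 1, 4, 4, 4, 1, 5, 4, 6, 0, 2, 6, 3, 2, 2, 5, 4, 5, 1],
  [5, 0, 3, 0, 5, 4, 5, 0, 6, 0, 0, 0, 0, 0, 0, 0, 5, 4, 3, 0, 1, 4, 0, 3, 3, 5, 5, 5, 5, 6, 6, 3, 6, 0, 5, 2, 5, 6, 5, 1, 2, 4, 0, 2, 6],
  [4, 0, 4, 6, 5, 5, 4, 0, 1, 0, 0, 0, 0, 0, 0, 0, 4, 0, 1, 0, 6, 4, 3, 0, 2, 6, 4, 6, 3, 3, 1, 1, 6, 0, 5, 1, 1, 6, 3, 1, 1, 1, 3, 6, 5],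
  [2, 0, 4, 5, 3, 4, 0, 0, 5, 0, 0, 0, 0, 0, 0, 0, 2, 0, 2, 0, 6, 3, 5, 4, 6, 4, 5, 4, 2, 2, 1, 1, 3, 4, 5, 3, 5, 5, 1, 4, 3, 5, 2, 4, 4],
  [0, 0, 0, 0, 0, 0, 0, 0, 1, 0, 0, 0, 0, 0, 0, 0, 0, 0, 0, 0, 1, 0, 0, 1, 0, 0, 0, 0, 0, 0, 0, 0, 2, 0, 0, 0, 0, 0, 0, 5, 4, 0, 0, 0, 5],
  [0, 0, 0, 0, 0, 0, 0, 0, 3, 0, 0, 0, 0, 0, 0, 0, 0, 0, 0, 0, 2, 0, 0, 3, 0, 0, 0, 0, 0, 0, 0, 0, 0, 0, 0, 0, 1, 0, 0, 1, 1, 6, 0, 3, 0],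
  [0, 0, 0, 0, 0, 0, 0, 0, 1, 0, 0, 0, 0, 0, 0, 0, 0, 0, 0, 0, 1, 0, 0, 1, 0, 0, 0, 0, 0, 0, 0, 0, 1, 0, 4, 0, 0, 0, 0, 5, 3, 3, 4, 4, 1],
  [5, 1, 5, 2, 5, 4, 2, 0, 6, 2, 1, 6, 2, 0, 0, 0, 3, 2, 4, 0, 4, 3, 3, 6, 5, 1, 3, 1, 4, 4, 0, 5, 0, 3, 6, 5, 6, 1, 0, 6, 4, 1, 4, 5, 2],
  [2, 4, 0, 0, 0, 3, 2, 0, 3, 3, 4, 0, 4, 0, 5, 0, 5, 5, 5, 1, 4, 6, 3, 3, 3, 6, 0, 6, 4, 3, 6, 4, 6, 1, 2, 3, 3, 5, 2, 1, 2, 3, 2, 6, 6],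
  [4, 4, 3, 3, 1, 1, 3, 0, 5, 1, 3, 6, 4, 5, 2, 0, 3, 0, 0, 2, 2, 4, 6, 0, 2, 6, 4, 6, 3, 3, 6, 6, 0, 3, 1, 3, 2, 4, 6, 0, 0, 4, 5, 0, 3],
  [0, 0, 0, 0, 0, 0, 0, 0, 0, 0, 0, 0, 4, 0, 6, 0, 0, 0, 0, 3, 6, 0, 0, 0, 0, 0, 0, 0, 0, 0, 0, 0, 0, 0, 0, 0, 0, 0, 0, 3, 0, 2, 0, 0, 5],
  [1, 2, 5, 0, 4, 3, 5, 0, 2, 2, 5, 5, 1, 0, 3, 0, 3, 6, 0, 1, 5, 4, 2, 5, 6, 4, 5, 4, 2, 2, 6, 5, 1, 0, 5, 4, 2, 3, 3, 0, 5, 1, 1, 0, 3],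
  [0, 0, 0, 0, 0, 0, 0, 0, 3, 0, 0, 0, 5, 0, 0, 0, 0, 0, 0, 5, 1, 0, 0, 5, 0, 0, 0, 0, 0, 0, 0, 0, 5, 0, 1, 0, 0, 0, 0, 0, 6, 0, 0, 0, 2],
  [0, 0, 0, 0, 0, 0, 0, 0, 1, 0, 0, 0, 0, 0, 0, 0, 0, 0, 0, 0, 3, 0, 0, 2, 0, 0, 0, 0, 0, 0, 0, 0, 6, 0, 6, 0, 6, 0, 0, 1, 5, 3, 6, 3, 1],
  [5, 0, 3, 3, 4, 4, 2, 0, 6, 0, 0, 0, 0, 0, 0, 0, 5, 2, 0, 0, 5, 6, 4, 4, 0, 0, 0, 0, 0, 0, 1, 2, 6, 1, 0, 3, 6, 6, 5, 6, 5, 4, 5, 6, 2],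
  [5, 0, 6, 5, 3, 5, 0, 0, 0, 0, 0, 0, 0, 0, 0, 0, 0, 6, 3, 0, 2, 2, 0, 5, 3, 5, 5, 5, 5, 6, 2, 3, 5, 5, 0, 0, 5, 4, 1, 6, 3, 3, 4, 1, 5],
  [2, 0, 6, 2, 4, 4, 0, 0, 3, 0, 0, 0, 0, 0, 0, 0, 3, 4, 0, 0, 4, 6, 0, 0, 4, 2, 2, 2, 2, 1, 1, 4, 6, 2, 6, 1, 3, 4, 4, 6, 1, 2, 5, 2, 3],
  [0, 0, 0, 0, 0, 0, 0, 0, 3, 0, 0, 0, 2, 0, 5, 0, 0, 0, 0, 3, 2, 0, 0, 5, 0, 0, 0, 0, 0, 0, 0, 0, 4, 0, 4, 0, 0, 0, 0, 6, 5, 0, 3, 3, 2],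
  [0, 0, 0, 0, 0, 0, 0, 0, 5, 0, 0, 0, 0, 0, 0, 0, 0, 0, 0, 0, 5, 0, 0, 4, 0, 0, 0, 0, 0, 0, 0, 0, 6, 0, 1, 0, 0, 0, 0, 0, 3, 3, 2, 2, 5],
  [6, 0, 1, 6, 6, 3, 0, 0, 3, 0, 0, 0, 0, 0, 0, 0, 5, 5, 5, 0, 6, 5, 3, 3, 5, 1, 3, 1, 4, 4, 4, 2, 6, 0, 3, 5, 0, 6, 4, 0, 1, 2, 4, 4, 4],
  [2, 0, 4, 1, 1, 0, 0, 0, 3, 0, 0, 0, 0, 0, 0, 0, 2, 0, 3, 0, 5, 6, 5, 1, 5, 6, 6, 6, 6, 3, 3, 6, 2, 6, 1, 4, 3, 5, 0, 1, 4, 0, 0, 5, 0],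
  [0, 0, 0, 0, 0, 0, 0, 0, 6, 0, 0, 0, 0, 0, 0, 0, 0, 0, 0, 0, 0, 0, 0, 1, 0, 0, 0, 0, 0, 0, 0, 0, 2, 0, 4, 0, 0, 0, 0, 2, 4, 0, 6, 6, 0],
  [0, 0, 0, 1, 6, 3, 3, 0, 5, 0, 0, 0, 0, 0, 0, 0, 5, 4, 6, 0, 2, 4, 3, 5, 1, 4, 2, 4, 0, 5, 2, 1, 3, 5, 4, 3, 1, 4, 6, 0, 1, 2, 3, 4, 3],
  [0, 0, 0, 3, 4, 6, 3, 0, 5, 0, 0, 0, 0, 0, 0, 0, 0, 4, 5, 0, 4, 3, 5, 5, 6, 2, 6, 5, 4, 3, 0, 2, 4, 0, 0, 5, 5, 1, 5, 2, 4, 1, 4, 5, 4],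
  [3, 0, 0, 0, 4, 0, 6, 0, 3, 0, 0, 0, 0, 0, 0, 0, 5, 0, 5, 0, 4, 4, 6, 1, 6, 2, 4, 1, 3, 6, 4, 4, 6, 3, 6, 4, 4, 5, 5, 1, 1, 4, 2, 2, 3],
  [0, 0, 0, 0, 0, 0, 0, 0, 4, 0, 0, 0, 0, 0, 0, 0, 0, 0, 0, 0, 5, 0, 0, 2, 0, 0, 0, 3, 2, 4, 0, 0, 3, 0, 1, 0, 0, 0, 0, 5, 0, 6, 3, 3, 2],
  [0, 0, 0, 0, 0, 0, 0, 0, 5, 0, 0, 0, 0, 0, 0, 0, 0, 0, 0, 0, 5, 0, 0, 6, 0, 0, 0, 4, 5, 6, 0, 0, 0, 0, 4, 0, 0, 0, 0, 3, 2, 1, 2, 2, 6],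
  [0, 0, 0, 0, 0, 0, 0, 0, 3, 0, 0, 0, 0, 0, 0, 0, 0, 0, 0, 0, 1, 0, 0, 5, 0, 0, 0, 2, 2, 6, 0, 0, 6, 0, 3, 0, 0, 0, 0, 6, 4, 4, 3, 3, 6],
  [5, 0, 4, 5, 5, 2, 3, 0, 5, 0, 0, 0, 0, 0, 0, 0, 6, 0, 1, 0, 2, 0, 6, 3, 0, 0, 0, 0, 0, 0, 3, 4, 6, 4, 3, 4, 1, 5, 1, 6, 6, 4, 6, 2, 2],
  [0, 0, 4, 1, 0, 3, 0, 0, 2, 0, 0, 0, 0, 0, 0, 0, 5, 2, 3, 0, 0, 5, 0, 0, 0, 0, 0, 0, 0, 0, 5, 6, 2, 5, 4, 6, 1, 1, 3, 1, 3, 1, 0, 5, 3],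
  [0, 0, 0, 0, 0, 0, 0, 0, 0, 0, 0, 0, 0, 0, 0, 0, 0, 0, 0, 0, 0, 0, 0, 0, 0, 0, 0, 0, 0, 0, 0, 0, 4, 0, 1, 0, 0, 0, 0, 6, 6, 0, 2, 2, 4],
  [2, 0, 0, 6, 5, 4, 5, 0, 3, 0, 0, 0, 0, 0, 0, 0, 0, 5, 1, 0, 0, 3, 1, 0, 0, 0, 0, 0, 0, 0, 0, 4, 2, 1, 1, 0, 5, 6, 5, 0, 5, 3, 3, 1, 0],
  [0, 0, 0, 0, 0, 0, 0, 0, 0, 0, 0, 0, 0, 0, 0, 0, 0, 0, 0, 0, 0, 0, 0, 0, 0, 0, 0, 0, 0, 0, 0, 0, 3, 0, 4, 0, 0, 0, 0, 0, 1, 3, 4, 4, 6],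
  [4, 0, 2, 2, 6, 0, 0, 0, 0, 0, 0, 0, 0, 0, 0, 0, 2, 6, 5, 0, 6, 4, 1, 2, 0, 0, 0, 0, 0, 0, 4, 0, 1, 5, 5, 4, 4, 0, 0, 3, 6, 4, 6, 0, 1],
  [0, 0, 0, 0, 0, 0, 0, 0, 0, 0, 0, 0, 0, 0, 0, 0, 0, 0, 0, 0, 0, 0, 0, 0, 0, 0, 0, 0, 0, 0, 0, 0, 1, 0, 5, 0, 1, 0, 0, 5, 2, 3, 4, 1, 5],
  [1, 0, 1, 6, 1, 6, 1, 0, 2, 0, 0, 0, 0, 0, 0, 0, 3, 5, 2, 0, 6, 4, 3, 2, 0, 0, 0, 0, 0, 0, 6, 6, 4, 3, 4, 3, 6, 6, 3, 4, 0, 2, 6, 6, 4],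
  [3, 0, 1, 0, 4, 2, 5, 0, 5, 0, 0, 0, 0, 0, 0, 0, 2, 1, 2, 0, 5, 2, 2, 4, 0, 0, 0, 0, 0, 0, 1, 1, 6, 1, 2, 4, 0, 4, 0, 2, 5, 3, 2, 2, 3],
  [0, 0, 0, 0, 0, 0, 0, 0, 0, 0, 0, 0, 0, 0, 0, 0, 0, 0, 0, 0, 0, 0, 0, 0, 0, 0, 0, 0, 0, 0, 0, 0, 0, 0, 0, 0, 0, 0, 0, 6, 0, 0, 0, 0, 1],
  [0, 0, 0, 0, 0, 0, 0, 0, 0, 0, 0, 0, 0, 0, 0, 0, 0, 0, 0, 0, 0, 0, 0, 0, 0, 0, 0, 0, 0, 0, 0, 0, 4, 0, 4, 0, 0, 0, 0, 0, 0, 4, 3, 3, 1],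
  [0, 0, 0, 0, 0, 0, 1, 0, 6, 0, 0, 0, 0, 0, 0, 0, 0, 0, 0, 0, 0, 0, 0, 0, 0, 0, 0, 0, 0, 0, 0, 0, 3, 0, 1, 0, 0, 0, 0, 0, 5, 1, 0, 0, 4],
  [0, 0, 0, 0, 0, 0, 3, 6, 2, 0, 0, 0, 0, 0, 0, 0, 0, 0, 0, 0, 5, 0, 0, 6, 0, 0, 0, 0, 0, 0, 0, 0, 0, 0, 5, 0, 1, 0, 0, 5, 4, 3, 6, 0, 1],
  [0, 0, 0, 0, 0, 0, 1, 0, 1, 0, 0, 0, 0, 0, 0, 6, 0, 0, 0, 0, 3, 0, 0, 2, 0, 0, 0, 0, 0, 0, 0, 0, 5, 0, 4, 0, 6, 0, 0, 1, 6, 1, 0, 6, 2],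
  [0, 0, 0, 0, 0, 0, 0, 0, 0, 0, 0, 0, 0, 0, 0, 0, 0, 0, 0, 0, 0, 0, 0, 0, 0, 0, 0, 0, 0, 0, 0, 0, 0, 0, 0, 0, 0, 0, 0, 6, 0, 0, 0, 0, 0]]

theorem s1_0 : List.foldl (fun P x => mulT P (T x)) idL [0, 1, 0, 1] = m1_0 := by decide +kernel

theorem s1_1 : List.foldl (fun P x => mulT P (T x)) m1_0 [0, 1] = idL := by decide +kernel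

theorem wd1 : evalW T ([0, 1, 0, 1] ++ ([0, 1] ++ [])) = idL := by
  unfold evalW
  rw [List.foldl_append, s1_0, List.foldl_append, s1_1]
  rfl

theorem s3_0 : List.foldl (fun P x => mulT P (T x)) idL [0, 3, 0, 3] = idL := by decide +kernel

theorem wd3 : evalW T ([0, 3, 0, 3] ++ []) = idL := by
  unfold evalW
  rw [List.foldl_append, s3_0]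
  rfl

theorem s12_0 : List.foldl (fun P x => mulT P (T x)) idL [2, 0, 2, 0] = idL := by decide +kernel

theorem wd12 : evalW T ([2, 0, 2, 0] ++ []) = idL := by
  unfold evalW
  rw [List.foldl_append, s12_0]
  rfl

/-- an intermediate product -/
def m13_0 : LM := [
  [6, 0, 1, 3, 3, 6, 6, 4, 3, 0, 0, 0, 0, 0, 0, 5, 2, 0, 0, 0, 6, 6, 1, 0, 0, 0, 0, 0, 0, 0, 1, 6, 0, 6, 0, 3, 0, 5, 0, 5, 3, 3, 2, 1, 0],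
  [2, 0, 2, 0, 4, 3, 3, 2, 3, 6, 1, 6, 1, 6, 5, 6, 3, 2, 3, 5, 3, 4, 4, 2, 0, 0, 0, 0, 0, 0, 0, 6, 0, 5, 0, 6, 0, 4, 4, 6, 1, 5, 2, 1, 0],
  [3, 0, 5, 3, 0, 2, 3, 2, 0, 0, 0, 0, 0, 0, 0, 5, 1, 3, 6, 0, 5, 4, 0, 0, 3, 4, 0, 2, 1, 1, 6, 6, 0, 2, 0, 0, 0, 5, 2, 6, 2, 2, 1, 2, 0],
  [4, 0, 0, 1, 1, 0, 2, 1, 2, 0, 0, 0, 0, 0, 0, 2, 6, 4, 6, 0, 2, 4, 0, 2, 5, 0, 1, 4, 5, 6, 0, 0, 0, 6, 0, 0, 0, 1, 3, 2, 2, 1, 6, 4, 0],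
  [1, 0, 2, 6, 1, 5, 4, 1, 4, 0, 0, 0, 0, 0, 0, 6, 4, 2, 2, 0, 1, 4, 2, 4, 4, 3, 0, 5, 6, 6, 1, 5, 0, 5, 0, 5, 0, 1, 1, 1, 5, 6, 0, 5, 0],
  [6, 0, 6, 6, 0, 5, 1, 4, 5, 0, 0, 0, 0, 0, 0, 2, 1, 6, 4, 0, 6, 0, 5, 4, 5, 2, 0, 1, 4, 4, 2, 4, 0, 1, 0, 2, 0, 3, 3, 4, 5, 0, 1, 3, 0],
  [0, 0, 0, 0, 0, 0, 6, 5, 1, 0, 0, 0, 0, 0, 0, 0, 0, 0, 0, 0, 2, 0, 0, 1, 0, 0, 0, 0, 0, 0, 0, 0, 0, 0, 0, 0, 0, 0, 0, 5, 6, 6, 2, 3, 0],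
  [0, 0, 0, 0, 0, 0, 1, 0, 0, 0, 0, 0, 0, 0, 0, 6, 0, 0, 0, 0, 1, 0, 0, 2, 0, 0, 0, 0, 0, 0, 0, 0, 0, 0, 0, 0, 0, 0, 0, 4, 4, 0, 6, 4, 1],
  [0, 0, 0, 0, 0, 0, 0, 6, 2, 0, 0, 0, 0, 0, 0, 0, 0, 0, 0, 0, 4, 0, 0, 2, 0, 0, 0, 0, 0, 0, 0, 0, 0, 0, 0, 0, 0, 0, 0, 5, 0, 5, 1, 5, 0],
  [6, 2, 0, 0, 2, 6, 4, 0, 2, 0, 4, 2, 4, 2, 0, 1, 1, 2, 0, 1, 2, 1, 4, 6, 3, 4, 0, 2, 1, 1, 5, 5, 0, 5, 0, 1, 0, 5, 5, 3, 0, 1, 0, 6, 0],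
  [5, 4, 3, 1, 5, 6, 4, 1, 2, 3, 4, 5, 1, 3, 5, 4, 0, 0, 5, 2, 3, 3, 4, 0, 0, 2, 6, 4, 6, 5, 0, 1, 0, 1, 0, 5, 0, 0, 3, 0, 5, 2, 1, 6, 0],
  [3, 5, 0, 1, 1, 2, 4, 0, 0, 6, 6, 6, 6, 1, 6, 5, 4, 2, 6, 3, 3, 4, 4, 1, 4, 3, 0, 5, 6, 6, 4, 0, 0, 4, 0, 3, 0, 0, 2, 2, 1, 3, 6, 3, 0],
  [0, 0, 0, 0, 0, 0, 0, 0, 5, 0, 0, 0, 0, 0, 3, 0, 0, 0, 0, 2, 5, 0, 0, 6, 0, 0, 0, 0, 0, 0, 0, 0, 0, 0, 0, 0, 0, 0, 0, 4, 0, 3, 0, 1, 0],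
  [0, 6, 5, 1, 5, 2, 4, 6, 4, 1, 3, 4, 6, 3, 5, 5, 1, 3, 2, 6, 3, 4, 2, 2, 5, 2, 0, 1, 4, 4, 0, 4, 0, 2, 0, 5, 0, 5, 2, 1, 4, 2, 4, 0, 0],
  [0, 0, 0, 0, 0, 0, 2, 2, 1, 0, 0, 0, 6, 0, 2, 0, 0, 0, 0, 0, 0, 0, 0, 2, 0, 0, 0, 0, 0, 0, 0, 0, 0, 0, 0, 0, 0, 0, 0, 4, 5, 4, 5, 1, 0],
  [0, 0, 0, 0, 0, 0, 2, 1, 6, 0, 0, 0, 0, 0, 0, 1, 0, 0, 0, 0, 3, 0, 0, 0, 0, 0, 0, 0, 0, 0, 0, 0, 0, 0, 0, 0, 0, 0, 0, 3, 6, 3, 6, 2, 0],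
  [4, 0, 6, 6, 4, 5, 1, 1, 6, 0, 0, 0, 0, 0, 0, 1, 5, 5, 6, 0, 4, 6, 4, 6, 0, 0, 0, 0, 0, 0, 4, 1, 0, 2, 0, 6, 0, 1, 5, 5, 2, 2, 1, 4, 0],
  [6, 0, 6, 5, 3, 6, 6, 2, 6, 0, 0, 0, 0, 0, 0, 2, 5, 4, 6, 0, 6, 4, 6, 4, 5, 0, 1, 4, 5, 6, 2, 2, 0, 4, 0, 2, 0, 0, 5, 0, 0, 3, 4, 5, 0],
  [1, 0, 4, 6, 0, 6, 3, 1, 3, 0, 0, 0, 0, 0, 0, 4, 5, 5, 4, 0, 2, 4, 2, 0, 2, 0, 6, 3, 2, 1, 5, 3, 0, 3, 0, 6, 0, 0, 2, 2, 4, 6, 4, 1, 0],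
  [0, 0, 0, 0, 0, 0, 2, 3, 1, 0, 0, 0, 3, 0, 1, 0, 0, 0, 0, 5, 2, 0, 0, 4, 0, 0, 0, 0, 0, 0, 0, 0, 0, 0, 0, 0, 0, 0, 0, 5, 6, 0, 4, 2, 0],
  [0, 0, 0, 0, 0, 0, 5, 1, 4, 0, 0, 0, 0, 0, 0, 0, 0, 0, 0, 0, 4, 0, 0, 1, 0, 0, 0, 0, 0, 0, 0, 0, 0, 0, 0, 0, 0, 0, 0, 5, 2, 2, 6, 6, 0],
  [4, 0, 6, 3, 4, 1, 4, 1, 2, 0, 0, 0, 0, 0, 0, 0, 1, 6, 3, 0, 4, 4, 2, 2, 3, 4, 0, 2, 1, 1, 1, 0, 0, 2, 0, 4, 0, 5, 2, 0, 3, 0, 0, 4, 0],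
  [5, 0, 4, 4, 2, 6, 5, 5, 5, 0, 0, 0, 0, 0, 0, 4, 5, 3, 4, 0, 1, 0, 0, 5, 6, 0, 4, 2, 6, 3, 6, 6, 0, 6, 0, 2, 0, 2, 3, 2, 2, 2, 2, 5, 0],
  [0, 0, 0, 0, 0, 0, 3, 5, 0, 0, 0, 0, 0, 0, 0, 0, 0, 0, 0, 0, 3, 0, 0, 6, 0, 0, 0, 0, 0, 0, 0, 0, 0, 0, 0, 0, 0, 0, 0, 5, 3, 1, 2, 1, 0],
  [0, 0, 6, 5, 1, 4, 2, 4, 6, 0, 0, 0, 0, 0, 0, 6, 5, 6, 6, 0, 3, 2, 1, 2, 5, 4, 1, 1, 2, 3, 6, 0, 0, 6, 0, 0, 0, 0, 5, 6, 0, 1, 1, 5, 0],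
  [4, 0, 1, 0, 1, 2, 4, 3, 6, 0, 0, 0, 0, 0, 0, 2, 4, 6, 1, 0, 2, 1, 6, 6, 2, 6, 0, 2, 0, 2, 4, 3, 0, 0, 0, 1, 0, 4, 3, 4, 4, 2, 6, 6, 0],
  [3, 0, 6, 3, 3, 1, 3, 1, 5, 0, 0, 0, 0, 0, 0, 3, 2, 3, 5, 0, 3, 5, 0, 1, 1, 1, 0, 5, 4, 6, 0, 4, 0, 0, 0, 1, 0, 3, 0, 4, 5, 4, 4, 5, 0],
  [0, 0, 0, 0, 0, 0, 3, 4, 0, 0, 0, 0, 0, 0, 0, 0, 0, 0, 0, 0, 1, 0, 0, 3, 0, 0, 0, 4, 1, 5, 0, 0, 0, 0, 0, 0, 0, 0, 0, 0, 5, 0, 3, 5, 0],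
  [0, 0, 0, 0, 0, 0, 4, 0, 2, 0, 0, 0, 0, 0, 0, 0, 0, 0, 0, 0, 4, 0, 0, 1, 0, 0, 0, 3, 6, 6, 0, 0, 0, 0, 0, 0, 0, 0, 0, 0, 1, 5, 0, 1, 0],
  [0, 0, 0, 0, 0, 0, 0, 1, 1, 0, 0, 0, 0, 0, 0, 0, 0, 0, 0, 0, 5, 0, 0, 1, 0, 0, 0, 5, 6, 4, 0, 0, 0, 0, 0, 0, 0, 0, 0, 4, 6, 2, 6, 2, 0],
  [2, 0, 0, 4, 6, 0, 1, 1, 4, 0, 0, 0, 0, 0, 0, 6, 5, 1, 2, 0, 0, 6, 1, 6, 0, 0, 0, 0, 0, 0, 2, 4, 0, 6, 0, 3, 0, 3, 4, 0, 1, 0, 3, 0, 0],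
  [1, 0, 1, 2, 3, 3, 5, 5, 2, 0, 0, 0, 0, 0, 0, 6, 5, 6, 2, 0, 5, 4, 2, 2, 0, 0, 0, 0, 0, 0, 6, 3, 0, 4, 0, 4, 0, 3, 4, 2, 5, 0, 3, 5, 0],
  [0, 0, 0, 0, 0, 0, 6, 3, 0, 0, 0, 0, 0, 0, 0, 0, 0, 0, 0, 0, 6, 0, 0, 3, 0, 0, 0, 0, 0, 0, 0, 0, 0, 0, 0, 0, 0, 0, 0, 6, 6, 2, 3, 0, 0],
  [0, 0, 3, 0, 0, 3, 3, 5, 5, 0, 0, 0, 0, 0, 0, 2, 6, 0, 4, 0, 0, 6, 1, 2, 0, 0, 0, 0, 0, 0, 1, 2, 0, 6, 0, 5, 0, 4, 0, 5, 0, 0, 4, 5, 0],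
  [0, 0, 0, 0, 0, 0, 6, 4, 2, 0, 0, 0, 0, 0, 0, 0, 0, 0, 0, 0, 1, 0, 0, 4, 0, 0, 0, 0, 0, 0, 0, 0, 0, 0, 0, 0, 0, 0, 0, 5, 4, 3, 3, 2, 0],
  [3, 0, 1, 3, 2, 2, 4, 6, 5, 0, 0, 0, 0, 0, 0, 3, 5, 2, 0, 0, 3, 0, 4, 0, 0, 0, 0, 0, 0, 0, 5, 3, 0, 5, 0, 1, 0, 2, 1, 4, 1, 2, 6, 4, 0],
  [0, 0, 0, 0, 0, 0, 2, 6, 5, 0, 0, 0, 0, 0, 0, 6, 0, 0, 0, 0, 1, 0, 0, 1, 0, 0, 0, 0, 0, 0, 0, 0, 0, 0, 0, 0, 0, 0, 0, 0, 3, 4, 1, 0, 0],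
  [5, 0, 0, 1, 1, 6, 6, 3, 1, 0, 0, 0, 0, 0, 0, 1, 1, 2, 2, 0, 6, 5, 5, 2, 0, 0, 0, 0, 0, 0, 1, 0, 0, 0, 0, 5, 0, 1, 0, 1, 1, 2, 1, 4, 0],
  [6, 0, 2, 6, 0, 5, 1, 1, 0, 0, 0, 0, 0, 0, 0, 0, 4, 2, 4, 0, 6, 6, 6, 0, 0, 0, 0, 0, 0, 0, 0, 2, 0, 4, 0, 3, 0, 2, 5, 5, 4, 4, 1, 5, 0],
  [0, 0, 0, 0, 0, 0, 0, 0, 0, 0, 0, 0, 0, 0, 0, 0, 0, 0, 0, 0, 0, 0, 0, 0, 0, 0, 0, 0, 0, 0, 0, 0, 0, 0, 0, 0, 0, 0, 0, 3, 2, 1, 0, 2, 0],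
  [0, 0, 0, 0, 0, 0, 2, 3, 4, 0, 0, 0, 0, 0, 0, 0, 0, 0, 0, 0, 6, 0, 0, 3, 0, 0, 0, 0, 0, 0, 0, 0, 0, 0, 0, 0, 0, 0, 0, 2, 2, 6, 4, 3, 0],
  [0, 0, 0, 0, 0, 0, 3, 4, 5, 0, 0, 0, 0, 0, 0, 0, 0, 0, 0, 0, 1, 0, 0, 4, 0, 0, 0, 0, 0, 0, 0, 0, 0, 0, 1, 0, 0, 0, 0, 2, 4, 4, 3, 0, 0],
  [0, 0, 0, 0, 0, 0, 6, 0, 3, 0, 0, 0, 0, 0, 0, 6, 0, 0, 0, 0, 3, 0, 0, 2, 0, 0, 0, 0, 0, 0, 0, 0, 1, 0, 0, 0, 0, 0, 0, 6, 0, 6, 6, 2, 0],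
  [0, 0, 0, 0, 0, 0, 4, 2, 5, 0, 0, 0, 0, 0, 0, 1, 0, 0, 0, 0, 1, 0, 0, 0, 0, 0, 0, 0, 0, 0, 0, 0, 0, 0, 0, 0, 1, 0, 0, 0, 2, 1, 5, 1, 0],
  [0, 0, 0, 0, 0, 0, 0, 0, 0, 0, 0, 0, 0, 0, 0, 0, 0, 0, 0, 0, 0, 0, 0, 0, 0, 0, 0, 0, 0, 0, 0, 0, 0, 0, 0, 0, 0, 0, 0, 3, 2, 2, 6, 4, 0]]

theorem s13_0 : List.foldl (fun P x => mulT P (T x)) idL [2, 1, 2, 1] = m13_0 := by decide +kernel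

theorem s13_1 : List.foldl (fun P x => mulT P (T x)) m13_0 [2, 1] = idL := by decide +kernel

theorem wd13 : evalW T ([2, 1, 2, 1] ++ ([2, 1] ++ [])) = idL := by
  unfold evalW
  rw [List.foldl_append, s13_0, List.foldl_append, s13_1]
  rfl

theorem s14_0 : List.foldl (fun P x => mulT P (T x)) idL [2, 2] = idL := by decide +kernel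

theorem wd14 : evalW T ([2, 2] ++ []) = idL := by
  unfold evalW
  rw [List.foldl_append, s14_0]
  rfl

theorem s24_0 : List.foldl (fun P x => mulT P (T x)) idL [4, 0, 4, 0] = idL := by decide +kernel

theorem wd24 : evalW T ([4, 0, 4, 0] ++ []) = idL := by
  unfold evalW
  rw [List.foldl_append, s24_0]
  rfl

theorem s33_0 : List.foldl (fun P x => mulT P (T x)) idL [5, 3, 5, 3] = idL := by decide +kernel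

theorem wd33 : evalW T ([5, 3, 5, 3] ++ []) = idL := by
  unfold evalW
  rw [List.foldl_append, s33_0]
  rfl

theorem s37_0 : List.foldl (fun P x => mulT P (T x)) idL [7, 6] = idL := by decide +kernel

theorem wd37 : evalW T ([7, 6] ++ []) = idL := by
  unfold evalW
  rw [List.foldl_append, s37_0]
  rfl

/-- an intermediate product -/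
def m46_0 : LM := [
  [3, 0, 6, 4, 5, 4, 5, 1, 5, 1, 6, 4, 2, 3, 5, 4, 4, 1, 6, 1, 4, 5, 4, 6, 4, 6, 3, 6, 0, 5, 4, 4, 6, 5, 4, 5, 1, 0, 5, 3, 1, 6, 2, 2, 2],
  [0, 4, 0, 0, 0, 0, 0, 0, 2, 0, 0, 5, 3, 3, 1, 0, 6, 5, 5, 3, 3, 1, 0, 5, 0, 1, 5, 4, 3, 3, 4, 4, 6, 5, 4, 5, 1, 1, 4, 5, 3, 0, 3, 6, 6],
  [3, 6, 4, 3, 2, 5, 4, 3, 0, 5, 3, 4, 1, 2, 5, 6, 4, 1, 3, 3, 0, 3, 3, 3, 0, 3, 5, 1, 5, 5, 3, 3, 1, 2, 3, 2, 6, 4, 3, 1, 6, 0, 1, 5, 1],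
  [3, 0, 4, 2, 3, 1, 4, 2, 3, 4, 5, 0, 5, 6, 3, 2, 0, 5, 6, 0, 2, 0, 1, 0, 6, 0, 2, 5, 2, 0, 2, 2, 3, 6, 2, 6, 4, 1, 2, 4, 4, 4, 3, 3, 6],
  [3, 0, 6, 1, 0, 6, 4, 5, 5, 4, 3, 4, 1, 0, 1, 5, 3, 4, 2, 5, 4, 2, 5, 3, 3, 4, 2, 5, 2, 6, 1, 1, 5, 3, 1, 3, 2, 4, 2, 2, 1, 1, 1, 6, 1],
  [0, 4, 6, 3, 4, 1, 4, 1, 5, 1, 2, 2, 3, 2, 3, 1, 3, 4, 3, 1, 5, 6, 4, 2, 3, 4, 0, 1, 6, 2, 3, 3, 1, 2, 3, 2, 6, 6, 3, 6, 4, 1, 5, 1, 4],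
  [6, 4, 1, 0, 2, 2, 0, 0, 0, 3, 0, 6, 0, 6, 5, 0, 0, 0, 0, 0, 0, 0, 0, 0, 0, 0, 1, 0, 0, 0, 0, 0, 0, 0, 0, 0, 0, 6, 3, 0, 4, 0, 0, 0, 5],
  [6, 6, 5, 0, 5, 5, 3, 3, 3, 5, 4, 6, 3, 5, 5, 1, 5, 5, 1, 2, 4, 1, 4, 5, 3, 2, 0, 0, 6, 4, 0, 0, 0, 0, 0, 0, 0, 5, 4, 3, 6, 4, 4, 3, 1],
  [0, 4, 0, 0, 0, 0, 0, 0, 6, 0, 4, 5, 0, 0, 3, 0, 6, 2, 5, 6, 5, 5, 6, 3, 1, 2, 5, 6, 6, 4, 0, 0, 0, 0, 0, 0, 0, 3, 0, 4, 2, 1, 1, 1, 2],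
  [0, 5, 0, 0, 0, 0, 0, 0, 5, 2, 4, 0, 5, 2, 4, 0, 2, 5, 3, 0, 0, 6, 3, 0, 2, 1, 5, 3, 3, 1, 3, 3, 1, 2, 3, 2, 6, 2, 4, 6, 4, 2, 6, 4, 3],
  [0, 5, 0, 0, 0, 0, 0, 0, 2, 2, 3, 0, 2, 5, 1, 0, 5, 0, 4, 3, 5, 5, 6, 3, 4, 2, 0, 1, 6, 3, 6, 6, 2, 4, 6, 4, 5, 3, 6, 4, 2, 1, 1, 5, 2],
  [0, 2, 0, 0, 0, 0, 0, 0, 2, 2, 3, 0, 5, 4, 5, 0, 2, 2, 4, 3, 3, 2, 4, 5, 2, 3, 3, 1, 0, 2, 1, 1, 5, 3, 1, 3, 2, 3, 3, 6, 0, 6, 6, 2, 5],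
  [0, 3, 0, 0, 0, 0, 0, 0, 4, 1, 4, 2, 3, 0, 0, 0, 4, 3, 2, 4, 1, 1, 0, 6, 5, 4, 4, 5, 0, 3, 0, 0, 0, 0, 0, 0, 0, 6, 5, 0, 1, 0, 0, 0, 6],
  [0, 4, 0, 0, 0, 0, 0, 0, 1, 1, 2, 5, 1, 4, 1, 0, 1, 4, 4, 2, 2, 6, 0, 1, 2, 6, 5, 3, 0, 4, 3, 3, 1, 2, 3, 2, 6, 1, 0, 4, 5, 6, 3, 2, 2],
  [0, 2, 0, 0, 0, 0, 0, 0, 0, 5, 0, 3, 0, 3, 6, 0, 2, 5, 6, 0, 0, 0, 2, 0, 0, 0, 2, 0, 0, 3, 0, 0, 0, 0, 0, 0, 0, 1, 3, 0, 2, 0, 0, 0, 1],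
  [3, 5, 1, 3, 3, 6, 6, 6, 2, 3, 2, 2, 6, 2, 2, 1, 1, 6, 5, 3, 6, 0, 0, 3, 5, 1, 4, 1, 0, 6, 0, 0, 0, 0, 0, 0, 0, 6, 3, 2, 0, 1, 1, 2, 3],
  [0, 0, 0, 0, 0, 0, 0, 0, 2, 3, 1, 0, 4, 1, 3, 0, 2, 6, 0, 2, 6, 3, 6, 4, 6, 1, 2, 1, 2, 5, 0, 0, 0, 0, 0, 0, 0, 0, 1, 0, 4, 6, 0, 2, 6],
  [0, 6, 0, 0, 0, 0, 0, 0, 2, 1, 6, 6, 6, 1, 5, 0, 3, 0, 2, 4, 2, 6, 5, 6, 5, 5, 2, 6, 4, 1, 3, 3, 1, 2, 3, 2, 6, 3, 3, 5, 1, 4, 5, 2, 4],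
  [0, 6, 0, 0, 0, 0, 0, 0, 4, 1, 6, 2, 5, 1, 5, 0, 3, 3, 2, 4, 2, 2, 1, 1, 3, 4, 4, 1, 4, 1, 4, 4, 6, 5, 4, 5, 1, 6, 0, 6, 0, 6, 4, 0, 1],
  [0, 0, 0, 0, 0, 0, 0, 0, 0, 5, 2, 2, 5, 2, 4, 0, 1, 3, 3, 0, 6, 1, 4, 6, 0, 3, 4, 5, 2, 4, 0, 0, 0, 0, 0, 0, 0, 5, 4, 0, 0, 6, 6, 6, 4],
  [0, 1, 0, 0, 0, 0, 0, 0, 4, 1, 2, 2, 6, 5, 6, 0, 2, 4, 2, 5, 5, 5, 1, 4, 2, 5, 1, 1, 6, 6, 0, 0, 0, 0, 0, 0, 0, 1, 2, 0, 6, 4, 4, 4, 3],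
  [0, 3, 0, 0, 0, 0, 0, 0, 2, 0, 0, 0, 5, 5, 6, 0, 1, 6, 3, 4, 4, 6, 2, 0, 1, 4, 1, 1, 3, 3, 6, 6, 2, 4, 6, 4, 5, 3, 3, 2, 1, 2, 4, 5, 6],
  [0, 5, 0, 0, 0, 0, 0, 0, 3, 1, 3, 0, 1, 1, 2, 0, 0, 2, 1, 0, 3, 3, 0, 4, 3, 5, 6, 5, 0, 3, 5, 5, 4, 1, 5, 1, 3, 3, 2, 3, 6, 3, 6, 3, 2],
  [0, 2, 0, 0, 0, 0, 0, 0, 6, 2, 1, 6, 1, 1, 4, 0, 0, 5, 1, 6, 4, 1, 6, 6, 6, 1, 0, 0, 5, 4, 0, 0, 0, 0, 0, 0, 0, 4, 2, 3, 6, 5, 5, 5, 1],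
  [0, 2, 0, 0, 0, 0, 0, 0, 6, 6, 1, 6, 5, 6, 3, 0, 1, 3, 5, 6, 2, 3, 4, 1, 3, 6, 2, 3, 2, 6, 3, 3, 1, 2, 3, 2, 6, 5, 5, 4, 1, 2, 0, 4, 5],
  [0, 2, 0, 0, 0, 0, 0, 0, 6, 0, 2, 6, 5, 5, 2, 0, 6, 0, 2, 4, 5, 6, 4, 0, 5, 3, 1, 1, 0, 6, 3, 3, 1, 2, 3, 2, 6, 5, 3, 5, 6, 2, 6, 3, 5],
  [0, 4, 0, 0, 0, 0, 0, 0, 3, 5, 2, 1, 0, 1, 4, 0, 4, 0, 1, 3, 6, 6, 2, 5, 4, 1, 1, 3, 3, 6, 0, 0, 0, 0, 0, 0, 0, 3, 0, 2, 3, 0, 6, 1, 6],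
  [0, 1, 0, 0, 0, 0, 0, 0, 5, 2, 4, 1, 0, 0, 1, 0, 4, 0, 1, 4, 3, 5, 6, 2, 1, 1, 5, 3, 4, 0, 0, 0, 0, 0, 0, 0, 0, 0, 3, 6, 3, 6, 6, 6, 5],
  [0, 0, 0, 0, 0, 0, 0, 0, 4, 2, 4, 4, 1, 1, 0, 0, 4, 4, 6, 4, 5, 1, 4, 1, 0, 2, 5, 6, 0, 4, 0, 0, 0, 0, 0, 0, 0, 5, 2, 4, 3, 4, 4, 4, 0],
  [0, 3, 0, 0, 0, 0, 0, 0, 0, 0, 3, 2, 0, 0, 5, 0, 1, 5, 2, 1, 2, 2, 1, 4, 6, 5, 2, 1, 1, 3, 0, 0, 0, 0, 0, 0, 0, 4, 0, 3, 4, 6, 6, 6, 3],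
  [0, 6, 0, 0, 0, 0, 0, 0, 0, 1, 5, 1, 3, 6, 1, 0, 5, 2, 2, 5, 6, 1, 3, 3, 4, 3, 2, 4, 6, 4, 6, 0, 3, 3, 2, 0, 4, 1, 5, 4, 1, 0, 5, 5, 0],
  [0, 1, 0, 0, 0, 0, 0, 0, 6, 5, 0, 0, 3, 5, 3, 0, 2, 6, 6, 3, 5, 6, 0, 5, 5, 2, 5, 1, 1, 2, 6, 3, 0, 0, 1, 6, 0, 5, 5, 2, 2, 2, 0, 6, 1],
  [0, 4, 0, 0, 0, 0, 0, 0, 4, 6, 5, 2, 5, 1, 0, 0, 4, 6, 1, 1, 6, 1, 2, 1, 1, 6, 1, 6, 3, 1, 0, 5, 6, 4, 3, 5, 0, 1, 1, 0, 6, 4, 4, 4, 3],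
  [0, 5, 0, 0, 0, 0, 0, 0, 2, 4, 3, 6, 3, 1, 5, 0, 5, 2, 4, 4, 0, 1, 4, 2, 1, 3, 4, 2, 2, 0, 6, 3, 0, 6, 3, 4, 0, 6, 0, 5, 0, 4, 4, 4, 1],
  [0, 2, 0, 0, 0, 0, 0, 0, 0, 2, 4, 2, 0, 4, 4, 0, 5, 3, 3, 6, 5, 5, 0, 3, 1, 2, 3, 6, 6, 2, 0, 3, 0, 1, 0, 1, 0, 1, 0, 4, 4, 1, 1, 1, 3],
  [0, 2, 0, 0, 0, 0, 0, 0, 1, 1, 6, 2, 2, 4, 4, 0, 4, 4, 1, 4, 5, 1, 1, 2, 0, 1, 3, 5, 5, 5, 4, 1, 0, 2, 2, 6, 0, 0, 3, 5, 5, 3, 5, 5, 3],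
  [0, 1, 0, 0, 0, 0, 0, 0, 6, 0, 4, 6, 6, 3, 2, 0, 2, 1, 6, 0, 1, 5, 2, 3, 1, 4, 4, 2, 3, 3, 4, 0, 6, 6, 4, 5, 0, 1, 0, 2, 0, 4, 4, 5, 1],
  [0, 3, 0, 0, 0, 0, 0, 0, 1, 3, 6, 6, 0, 5, 3, 0, 0, 5, 2, 2, 4, 4, 1, 1, 0, 1, 2, 2, 2, 3, 0, 0, 0, 0, 0, 0, 0, 4, 1, 6, 2, 3, 4, 3, 0],
  [0, 1, 0, 0, 0, 0, 0, 0, 1, 1, 2, 6, 0, 5, 4, 0, 0, 4, 6, 3, 6, 6, 4, 5, 5, 0, 0, 3, 3, 6, 0, 0, 0, 0, 0, 0, 0, 2, 3, 2, 2, 5, 4, 2, 5],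
  [0, 5, 0, 0, 0, 0, 0, 0, 1, 5, 6, 4, 6, 6, 6, 0, 5, 0, 0, 2, 4, 6, 6, 2, 4, 6, 4, 5, 1, 5, 0, 0, 0, 0, 0, 0, 0, 3, 4, 2, 1, 0, 0, 0, 6],
  [0, 5, 0, 0, 0, 0, 0, 0, 0, 5, 3, 5, 0, 3, 3, 0, 3, 3, 1, 1, 2, 2, 3, 4, 6, 5, 4, 1, 1, 5, 0, 0, 0, 0, 0, 0, 0, 5, 3, 3, 0, 6, 6, 6, 4],
  [0, 5, 0, 0, 0, 0, 0, 0, 3, 2, 0, 4, 0, 4, 1, 0, 0, 0, 0, 0, 0, 0, 0, 0, 0, 0, 1, 0, 0, 2, 0, 0, 0, 0, 0, 0, 0, 2, 6, 0, 4, 0, 0, 0, 4],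
  [0, 0, 0, 0, 0, 0, 0, 0, 6, 0, 0, 2, 0, 4, 2, 0, 1, 6, 5, 0, 0, 0, 5, 0, 6, 1, 1, 0, 0, 2, 0, 0, 0, 0, 0, 0, 0, 0, 2, 0, 0, 4, 4, 6, 2],
  [0, 6, 0, 0, 0, 0, 0, 0, 5, 1, 0, 2, 0, 2, 4, 0, 5, 2, 6, 0, 0, 0, 1, 0, 0, 0, 4, 0, 0, 1, 0, 0, 0, 0, 0, 0, 0, 1, 3, 0, 2, 1, 1, 6, 4],
  [0, 1, 0, 0, 0, 0, 0, 0, 0, 6, 0, 0, 0, 2, 1, 0, 5, 2, 5, 0, 0, 0, 6, 0, 6, 1, 0, 0, 0, 2, 0, 0, 0, 0, 0, 0, 0, 6, 6, 0, 2, 0, 0, 0, 5]]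

theorem s46_0 : List.foldl (fun P x => mulT P (T x)) idL [6, 4, 3, 6] = m46_0 := by decide +kernel

/-- an intermediate product -/
def m46_1 : LM := [
  [0, 0, 0, 0, 0, 0, 0, 0, 0, 0, 0, 0, 0, 0, 0, 0, 0, 0, 0, 0, 0, 0, 0, 0, 2, 2, 5, 5, 4, 4, 0, 3, 1, 0, 2, 1, 6, 4, 6, 3, 1, 4, 1, 3, 1],
  [0, 0, 0, 0, 0, 0, 0, 0, 4, 0, 0, 0, 0, 0, 0, 0, 5, 5, 2, 0, 0, 0, 1, 0, 0, 0, 0, 0, 0, 0, 0, 2, 5, 3, 3, 4, 2, 6, 2, 3, 6, 6, 1, 4, 2],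
  [6, 0, 5, 5, 3, 4, 0, 2, 0, 0, 0, 0, 0, 0, 0, 5, 0, 0, 0, 0, 0, 0, 0, 0, 4, 1, 3, 1, 0, 0, 0, 6, 5, 2, 3, 0, 2, 5, 6, 3, 5, 0, 0, 6, 2],
  [6, 0, 4, 3, 0, 6, 6, 4, 0, 0, 0, 0, 0, 0, 0, 1, 0, 0, 0, 0, 0, 0, 0, 0, 1, 2, 5, 6, 1, 3, 0, 2, 3, 2, 5, 2, 1, 1, 5, 5, 5, 2, 2, 3, 5],
  [1, 0, 2, 2, 4, 3, 0, 5, 0, 0, 0, 0, 0, 0, 0, 2, 0, 0, 0, 0, 0, 0, 0, 0, 4, 2, 2, 4, 4, 2, 0, 1, 3, 2, 0, 3, 4, 2, 6, 0, 4, 1, 4, 5, 6],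
  [3, 0, 6, 6, 5, 2, 0, 1, 0, 0, 0, 0, 0, 0, 0, 6, 0, 0, 0, 0, 0, 0, 0, 0, 2, 2, 5, 5, 5, 2, 0, 6, 2, 5, 0, 6, 5, 6, 2, 0, 3, 4, 4, 5, 1],
  [0, 0, 0, 0, 0, 0, 0, 0, 0, 0, 0, 0, 0, 0, 0, 0, 0, 0, 0, 0, 0, 0, 0, 0, 0, 0, 0, 0, 0, 3, 0, 0, 0, 0, 0, 0, 0, 0, 0, 0, 4, 4, 3, 5, 4],
  [0, 0, 0, 0, 0, 0, 0, 0, 0, 0, 0, 0, 0, 0, 0, 0, 0, 0, 0, 0, 0, 0, 0, 0, 0, 0, 0, 6, 3, 1, 0, 0, 2, 0, 6, 0, 3, 0, 0, 6, 1, 3, 4, 3, 6],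
  [0, 0, 0, 0, 0, 0, 0, 0, 0, 0, 0, 0, 0, 0, 3, 0, 0, 0, 0, 0, 0, 0, 0, 0, 0, 0, 0, 0, 0, 0, 0, 0, 0, 0, 0, 0, 1, 0, 0, 0, 4, 6, 0, 3, 1],
  [6, 0, 5, 5, 3, 4, 0, 2, 6, 0, 0, 0, 0, 0, 0, 5, 3, 6, 4, 0, 4, 3, 0, 5, 0, 0, 0, 0, 0, 0, 4, 6, 2, 1, 2, 2, 1, 3, 4, 6, 5, 1, 4, 6, 4],
  [4, 0, 2, 3, 5, 3, 1, 4, 4, 0, 0, 0, 0, 0, 0, 5, 6, 5, 2, 0, 2, 5, 2, 5, 0, 0, 0, 0, 0, 0, 0, 0, 3, 0, 2, 6, 4, 6, 0, 3, 2, 6, 1, 2, 6],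
  [1, 0, 2, 2, 4, 3, 0, 5, 6, 0, 0, 0, 0, 0, 0, 2, 3, 5, 5, 0, 3, 4, 3, 2, 0, 0, 0, 0, 0, 0, 3, 4, 3, 6, 1, 5, 1, 0, 2, 4, 2, 5, 2, 0, 5],
  [0, 0, 0, 0, 0, 0, 0, 0, 1, 0, 0, 0, 0, 0, 0, 0, 0, 0, 0, 0, 6, 0, 0, 3, 0, 0, 0, 0, 0, 0, 0, 0, 6, 0, 1, 0, 6, 0, 0, 5, 1, 4, 1, 6, 0],
  [3, 0, 6, 6, 5, 2, 0, 1, 3, 0, 0, 0, 0, 0, 0, 6, 5, 5, 2, 0, 2, 5, 3, 6, 0, 0, 0, 0, 0, 0, 2, 0, 2, 4, 3, 5, 3, 6, 2, 5, 6, 0, 3, 0, 5],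
  [0, 0, 0, 0, 0, 0, 0, 0, 3, 0, 0, 0, 0, 0, 0, 0, 0, 0, 0, 0, 0, 0, 0, 0, 0, 0, 0, 0, 0, 0, 0, 0, 0, 0, 4, 0, 0, 0, 0, 0, 0, 5, 0, 2, 3],
  [0, 0, 0, 0, 0, 0, 0, 0, 0, 0, 0, 0, 0, 0, 0, 0, 0, 0, 0, 0, 0, 0, 0, 0, 0, 0, 0, 5, 1, 4, 0, 0, 0, 0, 1, 0, 5, 0, 0, 6, 3, 1, 5, 6, 6],
  [0, 6, 0, 0, 0, 0, 0, 0, 0, 4, 0, 6, 2, 4, 3, 0, 0, 0, 0, 3, 0, 0, 0, 0, 0, 0, 0, 0, 0, 0, 0, 1, 3, 4, 2, 4, 5, 0, 4, 6, 4, 3, 6, 0, 3],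
  [6, 1, 4, 3, 0, 6, 6, 4, 0, 1, 3, 6, 6, 0, 0, 1, 0, 0, 0, 0, 0, 0, 0, 0, 0, 0, 0, 0, 0, 0, 2, 1, 1, 5, 0, 2, 5, 0, 2, 4, 5, 3, 0, 6, 3],
  [1, 4, 3, 4, 0, 1, 1, 3, 0, 4, 4, 0, 3, 2, 1, 6, 0, 0, 0, 3, 0, 0, 0, 0, 0, 0, 0, 0, 0, 0, 5, 0, 2, 6, 2, 2, 1, 1, 3, 2, 5, 5, 3, 3, 2],
  [0, 0, 0, 0, 0, 0, 0, 0, 4, 0, 0, 0, 0, 0, 0, 0, 0, 0, 0, 0, 5, 0, 0, 1, 0, 0, 0, 0, 0, 0, 0, 0, 6, 0, 3, 0, 1, 0, 0, 0, 6, 1, 0, 5, 2],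
  [0, 0, 0, 0, 0, 0, 0, 0, 0, 0, 0, 0, 1, 0, 1, 0, 0, 0, 0, 4, 0, 0, 0, 0, 0, 0, 0, 0, 0, 0, 0, 0, 3, 0, 1, 0, 1, 0, 0, 3, 1, 1, 5, 5, 3],
  [6, 6, 5, 5, 3, 4, 0, 2, 0, 5, 5, 3, 1, 4, 2, 5, 0, 0, 0, 6, 0, 0, 0, 0, 0, 0, 0, 0, 0, 0, 4, 6, 0, 3, 4, 3, 2, 4, 1, 3, 2, 2, 5, 3, 1],
  [3, 2, 2, 5, 0, 3, 3, 2, 0, 1, 5, 6, 2, 5, 6, 4, 0, 0, 0, 2, 0, 0, 0, 0, 0, 0, 0, 0, 0, 0, 1, 0, 6, 4, 6, 6, 1, 6, 4, 6, 2, 3, 3, 0, 0],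
  [0, 0, 0, 0, 0, 0, 0, 0, 0, 0, 0, 0, 2, 0, 6, 0, 0, 0, 0, 6, 0, 0, 0, 0, 0, 0, 0, 0, 0, 0, 0, 0, 6, 0, 6, 0, 2, 0, 0, 2, 3, 1, 6, 6, 6],
  [1, 0, 3, 0, 1, 3, 3, 0, 0, 0, 0, 0, 0, 0, 0, 0, 0, 0, 0, 0, 0, 0, 0, 0, 0, 0, 0, 0, 0, 0, 0, 0, 6, 4, 5, 6, 2, 5, 4, 1, 4, 6, 5, 6, 6],
  [3, 0, 1, 0, 6, 3, 6, 0, 0, 0, 0, 0, 0, 0, 0, 0, 0, 0, 0, 0, 0, 0, 0, 0, 0, 0, 0, 0, 0, 0, 0, 4, 6, 6, 2, 4, 4, 5, 4, 1, 4, 1, 3, 4, 4],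
  [6, 0, 1, 0, 2, 2, 5, 0, 0, 0, 0, 0, 0, 0, 0, 0, 0, 0, 0, 0, 0, 0, 0, 0, 0, 0, 0, 0, 0, 0, 0, 4, 0, 6, 2, 6, 4, 0, 0, 0, 0, 0, 1, 0, 4],
  [0, 0, 0, 0, 0, 0, 1, 1, 0, 0, 0, 0, 0, 0, 0, 4, 0, 0, 0, 0, 0, 0, 0, 0, 0, 0, 0, 0, 0, 0, 0, 0, 4, 0, 4, 0, 1, 0, 0, 3, 1, 1, 6, 3, 0],
  [0, 0, 0, 0, 0, 0, 6, 2, 0, 0, 0, 0, 0, 0, 0, 6, 0, 0, 0, 0, 0, 0, 0, 0, 0, 0, 0, 0, 0, 0, 0, 0, 5, 0, 1, 0, 4, 0, 0, 6, 6, 4, 1, 3, 4],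
  [0, 0, 0, 0, 0, 0, 3, 0, 0, 0, 0, 0, 0, 0, 0, 0, 0, 0, 0, 0, 0, 0, 0, 0, 0, 0, 0, 0, 0, 0, 0, 0, 0, 0, 4, 0, 6, 0, 0, 0, 0, 6, 3, 3, 3],
  [0, 0, 0, 0, 0, 0, 0, 0, 0, 0, 0, 0, 0, 0, 0, 0, 0, 0, 0, 0, 0, 0, 0, 0, 0, 0, 0, 0, 0, 0, 3, 6, 4, 6, 2, 4, 5, 6, 0, 4, 4, 2, 2, 4, 3],
  [0, 0, 0, 0, 0, 0, 0, 0, 0, 0, 0, 0, 0, 0, 0, 0, 0, 0, 0, 0, 0, 0, 0, 0, 0, 0, 0, 0, 0, 0, 0, 0, 5, 3, 2, 5, 0, 5, 0, 5, 6, 6, 0, 0, 4],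
  [0, 0, 0, 0, 0, 0, 0, 0, 0, 0, 0, 0, 0, 0, 0, 0, 0, 0, 0, 0, 0, 0, 0, 0, 0, 0, 0, 0, 0, 0, 0, 0, 0, 0, 0, 0, 5, 0, 0, 3, 5, 5, 0, 0, 4],
  [0, 0, 0, 0, 0, 0, 0, 0, 0, 0, 0, 0, 0, 0, 0, 0, 0, 0, 0, 0, 0, 0, 0, 0, 0, 0, 0, 0, 0, 0, 0, 0, 5, 6, 3, 4, 6, 1, 4, 5, 5, 0, 4, 3, 2],
  [0, 0, 0, 0, 0, 0, 0, 0, 0, 0, 0, 0, 0, 0, 0, 0, 0, 0, 0, 0, 0, 0, 0, 0, 0, 0, 0, 0, 0, 0, 0, 0, 0, 0, 0, 0, 1, 0, 0, 0, 4, 1, 4, 4, 6],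
  [0, 0, 0, 0, 0, 0, 0, 0, 0, 0, 0, 0, 0, 0, 0, 0, 0, 0, 0, 0, 0, 0, 0, 0, 0, 0, 0, 0, 0, 0, 0, 3, 1, 1, 6, 5, 5, 1, 5, 1, 2, 0, 3, 5, 6],
  [0, 0, 0, 0, 0, 0, 0, 0, 0, 0, 0, 0, 0, 0, 0, 0, 0, 0, 0, 0, 0, 0, 0, 0, 0, 0, 0, 0, 0, 0, 0, 0, 0, 0, 0, 0, 4, 0, 0, 0, 4, 2, 4, 6, 0],
  [0, 0, 0, 0, 0, 0, 0, 0, 0, 0, 0, 0, 0, 0, 0, 0, 0, 0, 0, 0, 0, 0, 0, 0, 0, 0, 0, 0, 0, 0, 0, 0, 0, 3, 2, 6, 5, 6, 1, 0, 6, 1, 0, 6, 5],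
  [0, 0, 0, 0, 0, 0, 0, 0, 0, 0, 0, 0, 0, 0, 0, 0, 0, 0, 0, 0, 0, 0, 0, 0, 0, 0, 0, 0, 0, 0, 0, 3, 0, 0, 3, 6, 4, 2, 1, 0, 0, 6, 3, 3, 4],
  [0, 0, 0, 0, 0, 0, 0, 0, 0, 0, 0, 0, 0, 0, 0, 0, 0, 0, 0, 0, 0, 0, 0, 0, 0, 0, 0, 0, 0, 0, 0, 0, 4, 0, 0, 0, 2, 0, 0, 0, 0, 1, 5, 4, 0],
  [0, 0, 0, 0, 0, 0, 0, 0, 0, 0, 0, 0, 0, 0, 0, 0, 0, 0, 0, 0, 0, 0, 0, 0, 0, 0, 0, 0, 0, 0, 0, 0, 0, 0, 4, 0, 6, 0, 0, 0, 0, 5, 2, 2, 0],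
  [0, 0, 0, 0, 0, 0, 0, 0, 0, 0, 0, 0, 0, 0, 0, 0, 0, 0, 0, 0, 0, 0, 0, 0, 0, 0, 0, 0, 0, 0, 0, 0, 0, 0, 0, 0, 0, 0, 0, 0, 0, 3, 2, 3, 5],
  [0, 0, 0, 0, 0, 0, 0, 0, 0, 0, 0, 0, 0, 0, 0, 0, 0, 0, 0, 0, 0, 0, 0, 0, 0, 0, 0, 0, 0, 0, 0, 0, 0, 0, 0, 0, 0, 0, 0, 0, 0, 6, 4, 5, 1],
  [0, 0, 0, 0, 0, 0, 0, 0, 0, 0, 0, 0, 0, 0, 0, 0, 0, 0, 0, 0, 0, 0, 0, 0, 0, 0, 0, 0, 0, 0, 0, 0, 0, 0, 0, 0, 0, 0, 0, 0, 0, 5, 3, 4, 1],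
  [0, 0, 0, 0, 0, 0, 0, 0, 0, 0, 0, 0, 0, 0, 0, 0, 0, 0, 0, 0, 0, 0, 0, 0, 0, 0, 0, 0, 0, 0, 0, 0, 0, 0, 0, 0, 0, 0, 0, 0, 0, 3, 1, 5, 3]]

theorem s46_1 : List.foldl (fun P x => mulT P (T x)) m46_0 [3, 4, 6, 4] = m46_1 := by decide +kernel

theorem s46_2 : List.foldl (fun P x => mulT P (T x)) m46_1 [3, 6, 3, 9] = idL := by decide +kernel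

theorem wd46 : evalW T ([6, 4, 3, 6] ++ ([3, 4, 6, 4] ++ ([3, 6, 3, 9] ++ []))) = idL := by
  unfold evalW
  rw [List.foldl_append, s46_0, List.foldl_append, s46_1, List.foldl_append, s46_2]
  rfl

theorem s51_0 : List.foldl (fun P x => mulT P (T x)) idL [8, 3, 9, 3] = idL := by decide +kernel

theorem wd51 : evalW T ([8, 3, 9, 3] ++ []) = idL := by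
  unfold evalW
  rw [List.foldl_append, s51_0]
  rfl

end Cfsg.Agent.Lib.Lead.ON45
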