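import Cfsg.Agent.Lib.Lead.ON45.Data

/-! # The relators of the triple cover hold on the 45-dimensional module: products of at most four letters at a time,
with the intermediate matrices written out (generated), part 5 -/

set_option autoImplicit false
set_option maxRecDepth 1000000
set_option maxHeartbeats 4000000

namespace Cfsg.Agent.Lib.Lead.ON45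

theorem s5_0 : List.foldl (fun P x => mulT P (T x)) idL [0, 5, 0, 5] = idL := by decide +kernel

theorem wd5 : evalW T ([0, 5, 0, 5] ++ []) = idL := by
  unfold evalW
  rw [List.foldl_append, s5_0]
  rfl

theorem s17_0 : List.foldl (fun P x => mulT P (T x)) idL [2, 5, 2, 5] = idL := by decide +kernel

theorem wd17 : evalW T ([2, 5, 2, 5] ++ []) = idL := by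
  unfold evalW
  rw [List.foldl_append, s17_0]
  rfl

/-- an intermediate product -/
def m22_0 : LM := [
  [2, 0, 5, 4, 6, 5, 5, 2, 2, 0, 0, 0, 0, 0, 0, 5, 6, 1, 5, 0, 5, 6, 3, 1, 1, 5, 0, 5, 0, 6, 4, 4, 6, 6, 3, 6, 3, 3, 3, 0, 1, 3, 4, 1, 0],
  [3, 4, 0, 3, 0, 6, 2, 6, 0, 0, 0, 2, 2, 6, 4, 3, 3, 6, 0, 1, 1, 6, 3, 2, 2, 0, 6, 4, 4, 2, 6, 6, 1, 6, 1, 0, 0, 3, 3, 0, 1, 1, 4, 4, 2],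
  [0, 0, 4, 1, 6, 0, 2, 0, 0, 0, 0, 0, 0, 0, 0, 0, 4, 3, 0, 0, 6, 2, 3, 4, 0, 2, 1, 3, 2, 3, 2, 0, 1, 6, 4, 3, 5, 3, 1, 4, 6, 4, 5, 2, 0],
  [0, 0, 3, 6, 4, 2, 3, 6, 5, 0, 0, 0, 0, 0, 0, 0, 2, 0, 4, 0, 4, 4, 3, 3, 4, 4, 6, 3, 1, 2, 1, 0, 6, 4, 6, 0, 4, 0, 6, 2, 3, 0, 5, 0, 4],
  [3, 0, 0, 3, 1, 2, 5, 2, 4, 0, 0, 0, 0, 0, 0, 5, 1, 6, 0, 0, 6, 4, 2, 4, 3, 1, 3, 2, 5, 3, 2, 1, 5, 1, 2, 6, 5, 0, 2, 3, 2, 0, 1, 6, 6],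
  [4, 0, 5, 2, 0, 4, 3, 6, 6, 0, 0, 0, 0, 0, 0, 1, 0, 0, 3, 0, 4, 5, 6, 5, 0, 5, 0, 6, 1, 6, 6, 6, 1, 2, 3, 1, 1, 0, 6, 2, 6, 6, 1, 0, 1],
  [0, 0, 0, 0, 0, 0, 0, 0, 5, 0, 0, 0, 0, 0, 0, 0, 0, 0, 3, 0, 0, 0, 6, 0, 0, 0, 2, 0, 0, 5, 0, 2, 0, 3, 6, 3, 0, 0, 0, 0, 0, 0, 2, 2, 0],
  [4, 0, 0, 4, 1, 0, 5, 6, 6, 0, 0, 0, 0, 0, 0, 0, 0, 2, 3, 0, 5, 3, 3, 0, 3, 4, 2, 3, 3, 2, 1, 4, 0, 0, 6, 1, 1, 0, 0, 0, 0, 1, 4, 6, 4],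
  [6, 0, 6, 4, 0, 1, 4, 4, 5, 0, 0, 0, 0, 0, 0, 2, 6, 1, 0, 0, 5, 3, 2, 0, 5, 0, 1, 4, 1, 4, 5, 5, 0, 4, 4, 1, 0, 3, 1, 4, 1, 0, 1, 2, 6],
  [2, 0, 5, 3, 1, 0, 2, 3, 1, 4, 1, 4, 4, 2, 0, 3, 4, 5, 0, 0, 1, 6, 3, 2, 1, 4, 5, 6, 6, 2, 3, 4, 2, 1, 1, 5, 0, 3, 1, 4, 6, 0, 3, 4, 4],
  [4, 6, 0, 3, 1, 1, 5, 1, 0, 2, 6, 2, 5, 2, 4, 2, 2, 6, 4, 4, 5, 1, 4, 1, 3, 0, 1, 3, 5, 0, 0, 5, 2, 3, 2, 2, 3, 2, 2, 0, 6, 2, 4, 1, 3],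
  [3, 6, 0, 0, 0, 5, 5, 3, 0, 1, 6, 5, 5, 1, 1, 0, 5, 2, 6, 1, 0, 0, 3, 0, 4, 0, 3, 5, 5, 2, 3, 3, 6, 6, 6, 6, 0, 0, 2, 3, 2, 5, 2, 1, 5],
  [2, 5, 1, 3, 1, 4, 5, 2, 6, 5, 0, 1, 4, 1, 4, 1, 1, 1, 2, 6, 0, 1, 5, 1, 6, 5, 6, 0, 6, 5, 1, 5, 4, 4, 5, 3, 3, 0, 0, 0, 0, 2, 6, 2, 2],
  [6, 3, 3, 0, 1, 4, 6, 2, 4, 4, 4, 3, 1, 5, 4, 0, 2, 5, 6, 3, 0, 0, 1, 0, 6, 6, 3, 1, 1, 4, 2, 4, 4, 5, 1, 3, 0, 0, 6, 2, 6, 6, 1, 2, 6],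
  [1, 6, 6, 0, 0, 2, 5, 0, 3, 1, 0, 2, 0, 2, 0, 0, 1, 6, 6, 0, 0, 0, 0, 0, 0, 0, 1, 0, 0, 6, 0, 2, 0, 4, 0, 5, 0, 0, 0, 0, 0, 1, 0, 5, 3],
  [4, 0, 1, 2, 1, 1, 2, 6, 0, 0, 0, 0, 0, 0, 0, 1, 0, 3, 1, 0, 5, 1, 3, 2, 6, 5, 5, 4, 3, 2, 5, 3, 0, 0, 1, 1, 2, 0, 0, 0, 0, 5, 5, 0, 5],
  [4, 0, 2, 5, 6, 0, 0, 1, 0, 0, 0, 0, 0, 0, 0, 6, 6, 1, 0, 0, 1, 2, 4, 0, 5, 0, 3, 5, 2, 2, 4, 4, 6, 0, 5, 5, 2, 6, 3, 6, 5, 0, 6, 5, 6],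
  [3, 0, 1, 6, 2, 2, 1, 4, 1, 0, 0, 0, 0, 0, 0, 3, 5, 1, 3, 0, 3, 3, 3, 4, 2, 5, 6, 4, 0, 1, 6, 3, 1, 2, 5, 0, 5, 0, 5, 4, 0, 3, 5, 4, 6],
  [5, 0, 2, 3, 6, 6, 6, 1, 1, 0, 0, 0, 0, 0, 0, 5, 2, 6, 6, 0, 3, 2, 4, 3, 6, 4, 5, 5, 3, 4, 3, 2, 5, 0, 1, 1, 4, 2, 6, 6, 6, 6, 1, 2, 2],
  [2, 3, 4, 5, 2, 6, 3, 2, 2, 0, 4, 6, 1, 3, 1, 5, 3, 5, 1, 6, 6, 5, 2, 0, 6, 1, 4, 5, 0, 1, 3, 0, 5, 3, 3, 4, 0, 0, 0, 0, 0, 4, 1, 5, 4],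
  [0, 0, 2, 3, 3, 3, 5, 1, 6, 0, 0, 0, 0, 0, 0, 5, 1, 3, 4, 0, 6, 1, 3, 1, 2, 0, 2, 6, 2, 0, 2, 2, 2, 4, 6, 4, 0, 1, 5, 6, 5, 1, 3, 3, 5],
  [0, 0, 2, 2, 1, 0, 2, 1, 2, 0, 0, 0, 0, 0, 0, 6, 1, 1, 6, 0, 1, 2, 6, 5, 5, 6, 2, 2, 1, 1, 0, 3, 3, 1, 2, 6, 3, 6, 1, 3, 4, 4, 5, 2, 4],
  [6, 0, 5, 1, 1, 2, 2, 2, 6, 0, 0, 0, 0, 0, 0, 4, 1, 2, 1, 0, 6, 0, 2, 2, 2, 4, 0, 0, 0, 0, 6, 2, 1, 2, 3, 5, 5, 0, 2, 3, 2, 3, 4, 3, 5],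
  [2, 0, 0, 3, 6, 2, 4, 5, 5, 0, 0, 0, 0, 0, 0, 1, 2, 5, 1, 0, 4, 1, 6, 4, 5, 3, 0, 5, 5, 6, 0, 0, 1, 2, 4, 5, 4, 5, 4, 2, 4, 5, 4, 1, 0],
  [6, 0, 6, 1, 3, 0, 0, 2, 2, 0, 0, 0, 0, 0, 0, 1, 5, 0, 6, 0, 5, 6, 0, 6, 2, 0, 1, 5, 4, 4, 1, 0, 4, 6, 6, 3, 2, 5, 1, 1, 1, 2, 3, 2, 3],
  [6, 0, 2, 2, 6, 5, 4, 3, 1, 0, 0, 0, 0, 0, 0, 5, 3, 2, 1, 0, 1, 5, 1, 6, 4, 1, 1, 6, 6, 6, 4, 2, 4, 2, 4, 0, 2, 4, 3, 2, 3, 5, 5, 4, 2],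
  [1, 0, 5, 2, 5, 3, 5, 2, 1, 0, 0, 0, 0, 0, 0, 1, 0, 0, 0, 0, 6, 5, 2, 0, 3, 3, 6, 2, 4, 5, 6, 6, 0, 0, 6, 0, 0, 5, 4, 2, 4, 5, 6, 0, 6],
  [0, 0, 6, 4, 5, 0, 3, 1, 4, 0, 0, 0, 0, 0, 0, 0, 4, 2, 4, 0, 2, 0, 4, 4, 0, 4, 6, 5, 3, 1, 3, 4, 1, 2, 3, 2, 4, 6, 2, 1, 2, 0, 6, 6, 2],
  [1, 0, 2, 4, 5, 1, 6, 6, 2, 0, 0, 0, 0, 0, 0, 3, 2, 0, 3, 0, 5, 1, 6, 2, 6, 3, 1, 2, 1, 3, 3, 2, 1, 1, 4, 6, 1, 2, 3, 5, 3, 2, 2, 3, 0],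
  [3, 0, 6, 3, 3, 2, 3, 3, 5, 0, 0, 0, 0, 0, 0, 5, 1, 6, 4, 0, 2, 4, 6, 0, 2, 0, 1, 3, 6, 6, 2, 1, 0, 5, 3, 1, 0, 4, 6, 3, 6, 6, 5, 6, 5],
  [3, 0, 0, 5, 5, 6, 4, 5, 3, 0, 0, 0, 0, 0, 0, 0, 5, 0, 4, 0, 3, 1, 4, 1, 0, 2, 3, 3, 5, 5, 4, 3, 0, 4, 3, 5, 5, 5, 4, 2, 4, 3, 2, 2, 1],
  [2, 0, 5, 6, 2, 0, 2, 4, 3, 0, 0, 0, 0, 0, 0, 3, 4, 5, 6, 0, 0, 3, 6, 4, 4, 6, 6, 3, 2, 1, 0, 3, 1, 0, 2, 6, 1, 1, 2, 5, 2, 5, 3, 1, 0],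
  [2, 0, 0, 1, 0, 2, 0, 5, 6, 0, 0, 0, 0, 0, 0, 3, 2, 1, 2, 0, 4, 2, 5, 4, 6, 2, 6, 0, 6, 6, 5, 1, 6, 6, 6, 2, 4, 1, 5, 6, 5, 5, 3, 2, 2],
  [3, 0, 6, 2, 4, 3, 1, 0, 4, 0, 0, 0, 0, 0, 0, 1, 6, 3, 1, 0, 2, 0, 3, 4, 5, 0, 4, 6, 1, 4, 2, 5, 1, 0, 6, 6, 1, 5, 1, 1, 1, 5, 6, 0, 3],
  [6, 0, 6, 4, 6, 6, 1, 4, 0, 0, 0, 0, 0, 0, 0, 2, 2, 5, 5, 0, 5, 3, 4, 0, 5, 0, 0, 4, 1, 5, 5, 1, 0, 0, 6, 6, 0, 3, 1, 4, 1, 1, 1, 6, 6],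
  [4, 0, 0, 3, 3, 5, 3, 4, 4, 0, 0, 0, 0, 0, 0, 5, 5, 1, 4, 0, 4, 3, 3, 5, 0, 6, 6, 1, 4, 1, 4, 3, 3, 6, 6, 3, 3, 4, 4, 0, 4, 4, 4, 3, 2],
  [4, 0, 0, 0, 3, 0, 6, 3, 2, 0, 0, 0, 0, 0, 0, 1, 6, 3, 5, 0, 3, 5, 3, 4, 1, 1, 2, 6, 4, 2, 4, 2, 5, 5, 5, 6, 4, 5, 4, 2, 4, 4, 0, 5, 4],
  [6, 0, 5, 6, 4, 0, 6, 6, 3, 0, 0, 0, 0, 0, 0, 3, 1, 6, 3, 0, 4, 1, 0, 0, 0, 4, 2, 6, 5, 0, 4, 4, 0, 4, 2, 1, 0, 5, 0, 6, 5, 3, 6, 1, 4],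
  [0, 0, 6, 2, 3, 4, 4, 2, 1, 0, 0, 0, 0, 0, 0, 1, 5, 2, 6, 0, 6, 5, 3, 0, 4, 2, 2, 2, 4, 3, 6, 1, 0, 2, 5, 1, 0, 1, 6, 2, 6, 5, 3, 5, 2],
  [5, 0, 2, 0, 1, 6, 5, 3, 3, 0, 0, 0, 0, 0, 0, 4, 2, 4, 5, 0, 0, 1, 3, 1, 1, 0, 2, 4, 0, 1, 1, 1, 1, 3, 2, 1, 2, 0, 5, 1, 5, 5, 3, 4, 0],
  [4, 0, 5, 3, 3, 4, 1, 3, 0, 0, 0, 0, 0, 0, 0, 5, 2, 5, 4, 0, 2, 4, 1, 0, 2, 0, 0, 3, 6, 2, 2, 3, 0, 2, 3, 6, 0, 3, 3, 3, 0, 1, 6, 1, 5],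
  [1, 0, 6, 0, 5, 5, 0, 0, 4, 0, 0, 0, 0, 0, 0, 0, 0, 0, 6, 0, 0, 0, 5, 0, 0, 0, 6, 0, 0, 1, 0, 3, 0, 1, 0, 1, 0, 0, 0, 0, 0, 3, 5, 1, 0],
  [4, 0, 3, 0, 0, 1, 5, 0, 5, 0, 0, 0, 0, 0, 0, 0, 4, 3, 4, 0, 0, 0, 2, 0, 2, 5, 2, 0, 0, 2, 0, 4, 0, 4, 2, 2, 0, 0, 0, 0, 0, 6, 4, 5, 5],
  [5, 0, 2, 0, 2, 0, 3, 0, 2, 0, 0, 0, 0, 0, 0, 0, 6, 1, 6, 0, 0, 0, 3, 0, 0, 0, 3, 0, 0, 4, 0, 3, 0, 5, 4, 2, 0, 0, 0, 0, 0, 5, 0, 3, 0],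
  [2, 0, 5, 0, 1, 6, 0, 0, 3, 0, 0, 0, 0, 0, 0, 0, 6, 1, 6, 0, 0, 0, 3, 0, 2, 5, 5, 0, 0, 0, 0, 1, 0, 2, 0, 6, 0, 0, 0, 0, 0, 5, 3, 4, 2]]

theorem s22_0 : List.foldl (fun P x => mulT P (T x)) idL [3, 4, 3, 4] = m22_0 := by decide +kernel

theorem s22_1 : List.foldl (fun P x => mulT P (T x)) m22_0 [3, 4] = idL := by decide +kernel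

theorem wd22 : evalW T ([3, 4, 3, 4] ++ ([3, 4] ++ [])) = idL := by
  unfold evalW
  rw [List.foldl_append, s22_0, List.foldl_append, s22_1]
  rfl

theorem s26_0 : List.foldl (fun P x => mulT P (T x)) idL [4, 2, 4, 2] = idL := by decide +kernel

theorem wd26 : evalW T ([4, 2, 4, 2] ++ []) = idL := by
  unfold evalW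
  rw [List.foldl_append, s26_0]
  rfl

theorem s38_0 : List.foldl (fun P x => mulT P (T x)) idL [8, 9] = idL := by decide +kernel

theorem wd38 : evalW T ([8, 9] ++ []) = idL := by
  unfold evalW
  rw [List.foldl_append, s38_0]
  rfl

/-- an intermediate product -/
def m41_0 : LM := [
  [1, 0, 1, 1, 0, 5, 2, 4, 3, 0, 0, 0, 0, 0, 0, 1, 0, 1, 0, 0, 0, 0, 3, 1, 0, 0, 0, 0, 0, 0, 0, 0, 0, 0, 0, 0, 0, 1, 6, 4, 2, 0, 0, 2, 5],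
  [4, 2, 4, 1, 1, 1, 6, 3, 3, 6, 0, 2, 1, 6, 0, 2, 0, 1, 0, 2, 0, 0, 3, 1, 0, 0, 0, 0, 0, 0, 0, 0, 0, 0, 0, 0, 0, 1, 6, 4, 2, 6, 6, 5, 1],
  [1, 0, 3, 3, 5, 2, 1, 2, 4, 0, 0, 0, 0, 0, 0, 1, 0, 6, 0, 0, 0, 0, 4, 6, 2, 1, 1, 4, 2, 6, 0, 0, 0, 0, 0, 0, 0, 5, 0, 0, 4, 3, 5, 1, 4],
  [6, 0, 3, 5, 3, 6, 5, 2, 5, 0, 0, 0, 0, 0, 0, 6, 0, 4, 0, 0, 0, 0, 5, 4, 5, 1, 1, 2, 4, 5, 0, 0, 0, 0, 0, 0, 0, 2, 1, 4, 6, 6, 2, 4, 2],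
  [5, 0, 0, 5, 0, 2, 3, 2, 6, 0, 0, 0, 0, 0, 0, 0, 0, 2, 0, 0, 0, 0, 6, 2, 5, 6, 6, 3, 5, 1, 0, 0, 0, 0, 0, 0, 0, 3, 6, 4, 5, 5, 5, 5, 5],
  [2, 0, 6, 1, 3, 0, 0, 6, 4, 0, 0, 0, 0, 0, 0, 0, 0, 6, 0, 0, 0, 0, 4, 6, 1, 4, 4, 2, 1, 3, 0, 0, 0, 0, 0, 0, 0, 2, 4, 5, 1, 1, 6, 2, 4],
  [0, 0, 0, 0, 0, 0, 6, 0, 0, 0, 0, 0, 0, 0, 0, 0, 0, 0, 0, 0, 0, 0, 0, 0, 0, 0, 0, 0, 0, 0, 0, 0, 0, 0, 0, 0, 0, 0, 0, 0, 0, 1, 6, 2, 6],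
  [0, 0, 0, 0, 0, 0, 5, 1, 0, 0, 0, 0, 0, 0, 0, 5, 0, 0, 0, 0, 0, 0, 0, 0, 0, 0, 0, 0, 0, 0, 0, 0, 0, 0, 0, 0, 0, 0, 0, 0, 0, 3, 6, 4, 1],
  [0, 0, 0, 0, 0, 0, 6, 0, 0, 0, 0, 0, 0, 0, 0, 0, 0, 0, 0, 0, 0, 0, 0, 0, 0, 0, 0, 0, 0, 0, 0, 0, 0, 0, 1, 0, 0, 0, 0, 1, 2, 1, 1, 0, 3],
  [6, 6, 5, 0, 1, 2, 4, 6, 4, 3, 4, 3, 6, 5, 0, 5, 0, 6, 0, 1, 0, 0, 4, 6, 2, 1, 1, 4, 2, 6, 0, 0, 0, 0, 0, 0, 0, 5, 0, 0, 4, 1, 3, 2, 5],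
  [6, 1, 3, 0, 3, 0, 0, 3, 1, 6, 1, 1, 3, 3, 1, 5, 0, 5, 0, 0, 0, 0, 1, 5, 3, 3, 3, 0, 4, 5, 0, 0, 0, 0, 0, 0, 0, 3, 0, 6, 1, 1, 3, 0, 6],
  [2, 5, 2, 1, 1, 2, 5, 4, 6, 1, 3, 1, 2, 2, 5, 4, 0, 2, 0, 1, 0, 0, 6, 2, 5, 6, 6, 3, 5, 1, 0, 0, 0, 0, 0, 0, 0, 3, 6, 4, 5, 5, 2, 6, 6],
  [0, 0, 0, 0, 0, 0, 5, 1, 0, 0, 0, 0, 6, 0, 2, 1, 0, 0, 0, 2, 0, 0, 0, 0, 0, 0, 0, 0, 0, 0, 0, 0, 0, 0, 0, 0, 0, 0, 0, 0, 0, 3, 6, 1, 3],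
  [3, 0, 2, 3, 2, 5, 3, 5, 4, 4, 2, 0, 6, 5, 3, 5, 0, 6, 0, 3, 0, 0, 4, 6, 1, 4, 4, 2, 1, 3, 0, 0, 0, 0, 0, 0, 0, 2, 4, 5, 1, 4, 6, 1, 0],
  [0, 0, 0, 0, 0, 0, 0, 0, 0, 0, 0, 0, 0, 0, 1, 0, 0, 0, 0, 0, 0, 0, 0, 0, 0, 0, 0, 0, 0, 0, 0, 0, 0, 0, 0, 0, 0, 0, 0, 0, 0, 3, 5, 3, 6],
  [0, 0, 0, 0, 0, 0, 1, 3, 0, 0, 0, 0, 0, 0, 0, 2, 0, 0, 0, 0, 0, 0, 0, 0, 0, 0, 0, 0, 0, 0, 0, 0, 0, 0, 0, 0, 0, 0, 0, 0, 0, 1, 1, 4, 6],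
  [0, 0, 1, 0, 6, 3, 6, 1, 0, 0, 0, 0, 0, 0, 0, 2, 0, 0, 0, 0, 0, 0, 0, 0, 0, 0, 0, 0, 0, 0, 0, 5, 3, 5, 0, 4, 1, 4, 6, 1, 6, 5, 6, 3, 2],
  [4, 0, 3, 0, 6, 5, 5, 6, 4, 0, 0, 0, 0, 0, 0, 4, 0, 6, 0, 0, 0, 0, 4, 6, 5, 1, 1, 2, 4, 5, 0, 0, 4, 1, 4, 2, 4, 6, 1, 4, 0, 4, 4, 4, 2],
  [4, 0, 4, 0, 2, 4, 6, 2, 3, 0, 0, 0, 0, 0, 0, 5, 0, 1, 0, 0, 0, 0, 3, 1, 2, 6, 6, 5, 3, 2, 0, 4, 6, 5, 5, 2, 4, 5, 5, 5, 1, 2, 2, 5, 2],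
  [0, 0, 0, 0, 0, 0, 2, 2, 0, 0, 0, 0, 4, 0, 6, 4, 0, 0, 0, 5, 0, 0, 0, 0, 0, 0, 0, 0, 0, 0, 0, 0, 0, 0, 0, 0, 0, 0, 0, 0, 0, 2, 4, 6, 4],
  [0, 0, 0, 0, 0, 0, 5, 2, 0, 0, 0, 0, 0, 0, 0, 2, 0, 0, 0, 0, 0, 0, 0, 0, 0, 0, 0, 0, 0, 0, 0, 0, 6, 0, 3, 0, 0, 0, 0, 5, 3, 2, 0, 0, 4],
  [0, 0, 0, 2, 4, 6, 2, 5, 1, 0, 0, 0, 0, 0, 0, 4, 0, 5, 0, 0, 0, 0, 1, 5, 2, 1, 1, 4, 2, 6, 1, 1, 3, 3, 1, 1, 6, 3, 6, 0, 3, 1, 3, 4, 1],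
  [5, 0, 5, 0, 3, 6, 1, 6, 2, 0, 0, 0, 0, 0, 0, 1, 0, 3, 0, 0, 0, 0, 2, 3, 6, 4, 4, 1, 2, 6, 0, 1, 4, 1, 4, 5, 5, 1, 1, 6, 6, 6, 0, 2, 1],
  [0, 0, 0, 0, 0, 0, 1, 2, 0, 0, 0, 0, 0, 0, 0, 5, 0, 0, 0, 0, 0, 0, 0, 0, 0, 0, 0, 0, 0, 0, 0, 0, 0, 0, 1, 0, 6, 0, 0, 4, 1, 3, 5, 1, 5],
  [2, 0, 2, 6, 1, 5, 2, 3, 4, 0, 0, 0, 0, 0, 0, 4, 0, 6, 0, 0, 0, 0, 4, 6, 4, 2, 0, 0, 3, 6, 0, 0, 0, 0, 0, 0, 0, 2, 2, 2, 6, 4, 4, 5, 0],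
  [2, 0, 2, 6, 1, 5, 2, 3, 4, 0, 0, 0, 0, 0, 0, 4, 0, 6, 0, 0, 0, 0, 4, 6, 5, 1, 1, 0, 3, 6, 0, 0, 0, 0, 0, 0, 0, 2, 2, 4, 3, 4, 5, 4, 4],
  [0, 0, 0, 0, 0, 0, 0, 0, 0, 0, 0, 0, 0, 0, 0, 0, 0, 0, 0, 0, 0, 0, 0, 0, 5, 2, 4, 0, 0, 2, 0, 0, 0, 0, 0, 0, 0, 0, 0, 4, 1, 4, 4, 0, 2],
  [0, 0, 0, 0, 0, 0, 5, 4, 0, 0, 0, 0, 0, 0, 0, 6, 0, 0, 0, 0, 0, 0, 0, 0, 0, 0, 0, 5, 5, 2, 0, 0, 0, 0, 0, 0, 0, 0, 0, 2, 4, 1, 4, 5, 5],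
  [0, 0, 0, 0, 0, 0, 2, 0, 0, 0, 0, 0, 0, 0, 0, 3, 0, 0, 0, 0, 0, 0, 0, 0, 0, 0, 0, 3, 6, 0, 0, 0, 0, 0, 0, 0, 0, 0, 0, 3, 6, 6, 4, 3, 6],
  [0, 0, 0, 0, 0, 0, 0, 0, 0, 0, 0, 0, 0, 0, 0, 0, 0, 0, 0, 0, 0, 0, 0, 0, 0, 0, 0, 0, 0, 1, 0, 0, 0, 0, 0, 0, 0, 0, 0, 6, 5, 6, 6, 3, 2],
  [2, 0, 2, 2, 0, 5, 2, 4, 0, 0, 0, 0, 0, 0, 0, 6, 2, 3, 1, 0, 1, 6, 6, 5, 0, 0, 0, 0, 0, 0, 0, 0, 0, 0, 0, 0, 0, 2, 5, 2, 0, 2, 3, 2, 6],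
  [6, 0, 6, 6, 5, 5, 2, 4, 1, 0, 0, 0, 0, 0, 0, 5, 3, 4, 3, 0, 1, 0, 0, 6, 0, 0, 0, 0, 0, 0, 0, 0, 0, 0, 0, 0, 0, 2, 2, 3, 1, 2, 0, 6, 1],
  [0, 0, 0, 0, 0, 0, 4, 1, 5, 0, 0, 0, 0, 0, 0, 0, 0, 0, 0, 0, 2, 0, 0, 1, 0, 0, 0, 0, 0, 0, 0, 0, 0, 0, 0, 0, 0, 0, 0, 5, 3, 5, 0, 3, 2],
  [5, 0, 0, 6, 6, 5, 2, 4, 4, 0, 0, 0, 0, 0, 0, 5, 1, 6, 3, 0, 1, 0, 3, 6, 0, 0, 0, 0, 0, 0, 0, 0, 0, 0, 0, 0, 0, 2, 2, 2, 6, 5, 5, 0, 1],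
  [0, 0, 0, 0, 0, 0, 6, 0, 1, 0, 0, 0, 0, 0, 0, 0, 0, 0, 0, 0, 0, 0, 0, 0, 0, 0, 0, 0, 0, 0, 0, 0, 0, 0, 0, 0, 0, 0, 0, 1, 2, 2, 5, 6, 4],
  [5, 0, 3, 4, 4, 2, 4, 5, 1, 0, 0, 0, 0, 0, 0, 1, 5, 2, 0, 0, 3, 0, 2, 4, 0, 0, 0, 0, 0, 0, 0, 0, 0, 0, 0, 0, 0, 6, 6, 0, 6, 3, 5, 2, 2],
  [0, 0, 0, 0, 0, 0, 6, 3, 2, 0, 0, 0, 0, 0, 0, 6, 0, 0, 0, 0, 2, 0, 0, 5, 0, 0, 0, 0, 0, 0, 0, 0, 0, 0, 0, 0, 0, 0, 0, 4, 1, 0, 5, 4, 2],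
  [5, 0, 2, 0, 2, 0, 5, 0, 0, 0, 0, 0, 0, 0, 0, 0, 0, 0, 0, 0, 0, 0, 0, 0, 0, 0, 0, 0, 0, 0, 0, 0, 0, 0, 0, 0, 0, 1, 1, 5, 0, 2, 4, 5, 2],
  [6, 0, 1, 0, 2, 2, 3, 0, 0, 0, 0, 0, 0, 0, 0, 0, 0, 0, 0, 0, 0, 0, 0, 0, 0, 0, 0, 0, 0, 0, 0, 0, 0, 0, 0, 0, 0, 2, 3, 4, 5, 3, 1, 2, 5],
  [0, 0, 0, 0, 0, 0, 0, 0, 0, 0, 0, 0, 0, 0, 0, 0, 0, 0, 0, 0, 0, 0, 0, 0, 0, 0, 0, 0, 0, 0, 0, 0, 0, 0, 0, 0, 0, 0, 0, 4, 5, 5, 1, 3, 0],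
  [0, 0, 0, 0, 0, 0, 0, 0, 0, 0, 0, 0, 0, 0, 0, 0, 0, 0, 0, 0, 0, 0, 0, 0, 0, 0, 0, 0, 0, 0, 0, 0, 0, 0, 0, 0, 0, 0, 0, 6, 6, 3, 2, 3, 3],
  [0, 0, 0, 0, 0, 0, 0, 0, 0, 0, 0, 0, 0, 0, 0, 0, 0, 0, 0, 0, 0, 0, 0, 0, 0, 0, 0, 0, 0, 0, 0, 0, 0, 0, 0, 0, 0, 0, 0, 0, 0, 4, 4, 6, 0],
  [0, 0, 0, 0, 0, 0, 0, 0, 0, 0, 0, 0, 0, 0, 0, 0, 0, 0, 0, 0, 0, 0, 0, 0, 0, 0, 0, 0, 0, 0, 0, 0, 0, 0, 0, 0, 0, 0, 0, 0, 0, 6, 6, 0, 2],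
  [0, 0, 0, 0, 0, 0, 0, 0, 0, 0, 0, 0, 0, 0, 0, 0, 0, 0, 0, 0, 0, 0, 0, 0, 0, 0, 0, 0, 0, 0, 0, 0, 0, 0, 0, 0, 0, 0, 0, 0, 0, 4, 2, 2, 4],
  [0, 0, 0, 0, 0, 0, 0, 0, 0, 0, 0, 0, 0, 0, 0, 0, 0, 0, 0, 0, 0, 0, 0, 0, 0, 0, 0, 0, 0, 0, 0, 0, 0, 0, 0, 0, 0, 0, 0, 0, 0, 6, 1, 5, 0]]

theorem s41_0 : List.foldl (fun P x => mulT P (T x)) idL [0, 5, 3, 2] = m41_0 := by decide +kernel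

/-- an intermediate product -/
def m41_1 : LM := [
  [0, 0, 5, 6, 4, 5, 5, 6, 0, 0, 0, 0, 0, 0, 0, 5, 0, 1, 0, 0, 0, 0, 0, 0, 0, 0, 0, 0, 0, 0, 0, 0, 0, 0, 0, 0, 0, 5, 4, 6, 5, 6, 3, 1, 5],
  [0, 3, 4, 6, 2, 3, 5, 5, 0, 5, 0, 5, 0, 0, 0, 2, 0, 1, 0, 4, 0, 0, 0, 0, 0, 0, 0, 0, 0, 0, 0, 0, 0, 0, 0, 0, 0, 5, 4, 6, 5, 3, 1, 5, 2],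
  [4, 0, 2, 4, 0, 5, 4, 0, 0, 0, 0, 0, 0, 0, 0, 1, 0, 6, 0, 0, 0, 0, 0, 0, 1, 6, 6, 3, 0, 2, 0, 0, 0, 0, 0, 0, 0, 5, 4, 6, 3, 3, 0, 0, 6],
  [6, 0, 4, 2, 4, 1, 1, 6, 0, 0, 0, 0, 0, 0, 0, 1, 0, 4, 0, 0, 0, 0, 0, 0, 2, 4, 3, 0, 1, 6, 0, 0, 0, 0, 0, 0, 0, 0, 6, 1, 0, 4, 1, 4, 1],
  [4, 0, 2, 2, 6, 6, 6, 6, 0, 0, 0, 0, 0, 0, 0, 4, 0, 2, 0, 0, 0, 0, 0, 0, 6, 1, 1, 4, 0, 5, 0, 0, 0, 0, 0, 0, 0, 0, 0, 0, 2, 6, 2, 0, 0],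
  [6, 0, 5, 6, 2, 2, 3, 4, 0, 0, 0, 0, 0, 0, 0, 5, 0, 6, 0, 0, 0, 0, 0, 0, 4, 3, 3, 5, 0, 1, 0, 0, 0, 0, 0, 0, 0, 0, 0, 0, 6, 6, 5, 4, 2],
  [0, 0, 0, 0, 0, 0, 6, 0, 0, 0, 0, 0, 0, 0, 0, 0, 0, 0, 0, 0, 0, 0, 0, 0, 0, 0, 0, 0, 0, 0, 0, 0, 0, 0, 0, 0, 0, 0, 0, 0, 0, 0, 6, 2, 1],
  [0, 0, 0, 0, 0, 0, 6, 5, 0, 0, 0, 0, 0, 0, 0, 5, 0, 0, 0, 0, 0, 0, 0, 0, 0, 0, 0, 0, 0, 0, 0, 0, 0, 0, 0, 0, 0, 0, 0, 0, 0, 4, 6, 3, 4],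
  [0, 0, 0, 0, 0, 0, 6, 0, 0, 0, 0, 0, 0, 0, 0, 0, 0, 0, 0, 0, 0, 0, 0, 0, 0, 0, 0, 0, 0, 0, 0, 0, 0, 0, 1, 0, 0, 0, 0, 1, 5, 3, 0, 5, 6],
  [5, 6, 6, 0, 0, 6, 6, 0, 0, 1, 3, 3, 0, 6, 4, 1, 0, 6, 0, 1, 0, 0, 0, 0, 1, 6, 6, 3, 0, 2, 0, 0, 0, 0, 0, 0, 0, 5, 4, 6, 3, 5, 3, 2, 5],
  [1, 0, 1, 0, 6, 3, 2, 4, 0, 3, 6, 0, 4, 2, 4, 0, 0, 5, 0, 2, 0, 0, 0, 0, 2, 6, 0, 5, 6, 2, 0, 0, 0, 0, 0, 0, 0, 1, 6, 3, 0, 6, 1, 6, 5],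
  [3, 3, 4, 6, 3, 1, 1, 5, 0, 5, 4, 0, 0, 2, 5, 1, 0, 2, 0, 3, 0, 0, 0, 0, 6, 1, 1, 4, 0, 5, 0, 0, 0, 0, 0, 0, 0, 0, 0, 0, 2, 6, 4, 5, 6],
  [0, 0, 0, 0, 0, 0, 5, 4, 0, 0, 0, 0, 2, 0, 1, 6, 0, 0, 0, 2, 0, 0, 0, 0, 0, 0, 0, 0, 0, 0, 0, 0, 0, 0, 0, 0, 0, 0, 0, 0, 0, 6, 3, 0, 6],
  [5, 1, 2, 4, 4, 6, 5, 1, 0, 2, 5, 2, 0, 1, 2, 3, 0, 6, 0, 2, 0, 0, 0, 0, 4, 3, 3, 5, 0, 1, 0, 0, 0, 0, 0, 0, 0, 0, 0, 0, 6, 3, 1, 6, 0],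
  [0, 0, 0, 0, 0, 0, 0, 0, 0, 0, 0, 0, 0, 0, 1, 0, 0, 0, 0, 0, 0, 0, 0, 0, 0, 0, 0, 0, 0, 0, 0, 0, 0, 0, 0, 0, 0, 0, 0, 0, 0, 5, 5, 3, 2],
  [0, 0, 0, 0, 0, 0, 6, 3, 0, 0, 0, 0, 0, 0, 0, 6, 0, 0, 0, 0, 0, 0, 0, 0, 0, 0, 0, 0, 0, 0, 0, 0, 0, 0, 0, 0, 0, 0, 0, 0, 0, 1, 5, 5, 2],
  [5, 0, 3, 0, 4, 2, 6, 0, 0, 0, 0, 0, 0, 0, 0, 4, 0, 0, 0, 0, 0, 0, 0, 0, 0, 0, 0, 0, 0, 0, 0, 3, 1, 1, 0, 6, 0, 6, 3, 0, 2, 2, 5, 2, 0],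
  [5, 0, 2, 0, 2, 1, 0, 3, 0, 0, 0, 0, 0, 0, 0, 1, 0, 6, 0, 0, 0, 0, 0, 0, 2, 4, 3, 0, 1, 6, 0, 0, 0, 0, 3, 3, 1, 2, 3, 2, 0, 1, 5, 1, 0],
  [2, 0, 6, 0, 4, 2, 2, 4, 0, 0, 0, 0, 0, 0, 0, 3, 0, 1, 0, 0, 0, 0, 0, 0, 5, 3, 4, 0, 6, 1, 0, 3, 1, 3, 1, 0, 6, 4, 0, 6, 0, 0, 2, 1, 2],
  [0, 0, 0, 0, 0, 0, 6, 5, 0, 0, 0, 0, 4, 0, 1, 1, 0, 0, 0, 1, 0, 0, 0, 0, 0, 0, 0, 0, 0, 0, 0, 0, 0, 0, 0, 0, 0, 0, 0, 0, 0, 2, 1, 4, 1],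
  [0, 0, 0, 0, 0, 0, 5, 1, 0, 0, 0, 0, 0, 0, 0, 5, 0, 0, 0, 0, 0, 0, 0, 0, 0, 0, 0, 0, 0, 0, 0, 0, 2, 0, 5, 0, 1, 0, 0, 5, 4, 4, 0, 2, 6],
  [4, 0, 2, 5, 0, 5, 5, 0, 0, 0, 0, 0, 0, 0, 0, 2, 0, 5, 0, 0, 0, 0, 0, 0, 1, 6, 6, 3, 0, 2, 6, 1, 1, 2, 1, 0, 3, 1, 1, 0, 0, 3, 4, 6, 1],
  [2, 0, 1, 0, 3, 1, 1, 5, 0, 0, 0, 0, 0, 0, 0, 2, 0, 3, 0, 0, 0, 0, 0, 0, 1, 2, 5, 0, 4, 3, 0, 0, 3, 5, 1, 2, 4, 5, 0, 2, 4, 5, 6, 6, 2],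
  [0, 0, 0, 0, 0, 0, 0, 0, 0, 0, 0, 0, 0, 0, 0, 6, 0, 0, 0, 0, 0, 0, 0, 0, 0, 0, 0, 0, 0, 0, 0, 0, 2, 0, 2, 0, 5, 0, 0, 4, 6, 1, 4, 6, 2],
  [0, 0, 1, 1, 1, 0, 1, 3, 0, 0, 0, 0, 0, 0, 0, 6, 0, 6, 0, 0, 0, 0, 0, 0, 3, 3, 4, 6, 5, 0, 0, 0, 0, 0, 0, 0, 0, 3, 0, 1, 0, 6, 5, 3, 2],
  [0, 0, 1, 1, 1, 0, 1, 3, 0, 0, 0, 0, 0, 0, 0, 6, 0, 6, 0, 0, 0, 0, 0, 0, 0, 6, 5, 6, 5, 1, 0, 0, 0, 0, 0, 0, 0, 3, 0, 3, 3, 4, 5, 4, 6],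
  [0, 0, 0, 0, 0, 0, 0, 0, 0, 0, 0, 0, 0, 0, 0, 0, 0, 0, 0, 0, 0, 0, 0, 0, 5, 2, 1, 0, 0, 4, 0, 0, 0, 0, 0, 0, 0, 0, 0, 4, 6, 4, 3, 5, 4],
  [0, 0, 0, 0, 0, 0, 2, 6, 0, 0, 0, 0, 0, 0, 0, 6, 0, 0, 0, 0, 0, 0, 0, 0, 0, 0, 0, 1, 5, 1, 0, 0, 0, 0, 0, 0, 0, 0, 0, 2, 3, 5, 2, 6, 1],
  [0, 0, 0, 0, 0, 0, 1, 6, 0, 0, 0, 0, 0, 0, 0, 1, 0, 0, 0, 0, 0, 0, 0, 0, 0, 0, 0, 3, 2, 2, 0, 0, 0, 0, 0, 0, 0, 0, 0, 3, 1, 6, 6, 6, 0],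
  [0, 0, 0, 0, 0, 0, 0, 0, 0, 0, 0, 0, 0, 0, 0, 0, 0, 0, 0, 0, 0, 0, 0, 0, 0, 0, 0, 0, 0, 1, 0, 0, 0, 0, 0, 0, 0, 0, 0, 6, 2, 2, 2, 1, 1],
  [3, 0, 0, 5, 1, 0, 5, 4, 0, 0, 0, 0, 0, 0, 0, 6, 0, 2, 0, 0, 0, 1, 0, 0, 0, 0, 0, 0, 0, 0, 0, 0, 0, 0, 0, 0, 0, 2, 0, 2, 4, 2, 5, 2, 4],
  [2, 0, 0, 1, 4, 1, 3, 1, 0, 0, 0, 0, 0, 0, 0, 5, 0, 0, 1, 0, 0, 0, 0, 0, 0, 0, 0, 0, 0, 0, 0, 0, 0, 0, 0, 0, 0, 3, 0, 2, 5, 1, 0, 3, 0],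
  [0, 0, 0, 0, 0, 0, 2, 2, 0, 0, 0, 0, 0, 0, 0, 1, 0, 0, 0, 0, 1, 0, 0, 0, 0, 0, 0, 0, 0, 0, 0, 0, 0, 0, 0, 0, 0, 0, 0, 5, 4, 3, 4, 5, 5],
  [4, 0, 5, 1, 4, 5, 0, 1, 0, 0, 0, 0, 0, 0, 0, 5, 1, 6, 0, 0, 0, 0, 0, 0, 0, 0, 0, 0, 0, 0, 0, 0, 0, 0, 0, 0, 0, 3, 0, 1, 0, 6, 3, 5, 2],
  [0, 0, 0, 0, 0, 0, 6, 0, 1, 0, 0, 0, 0, 0, 0, 0, 0, 0, 0, 0, 0, 0, 0, 0, 0, 0, 0, 0, 0, 0, 0, 0, 0, 0, 0, 0, 0, 0, 0, 1, 5, 1, 1, 3, 2],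
  [0, 0, 6, 3, 3, 1, 1, 3, 0, 0, 0, 0, 0, 0, 0, 1, 0, 0, 0, 0, 0, 0, 1, 0, 0, 0, 0, 0, 0, 0, 0, 0, 0, 0, 0, 0, 0, 2, 0, 4, 5, 4, 4, 0, 0],
  [0, 0, 0, 0, 0, 0, 5, 4, 0, 0, 0, 0, 0, 0, 0, 5, 0, 0, 0, 0, 0, 0, 0, 1, 0, 0, 0, 0, 0, 0, 0, 0, 0, 0, 0, 0, 0, 0, 0, 4, 6, 3, 3, 2, 1],
  [4, 0, 3, 0, 0, 1, 6, 0, 0, 0, 0, 0, 0, 0, 0, 0, 0, 0, 0, 0, 0, 0, 0, 0, 0, 0, 0, 0, 0, 0, 0, 0, 0, 0, 0, 0, 0, 4, 1, 5, 2, 5, 6, 6, 3],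
  [1, 0, 6, 0, 3, 1, 3, 0, 0, 0, 0, 0, 0, 0, 0, 0, 0, 0, 0, 0, 0, 0, 0, 0, 0, 0, 0, 0, 0, 0, 0, 0, 0, 0, 0, 0, 0, 2, 6, 4, 1, 2, 5, 0, 0],
  [0, 0, 0, 0, 0, 0, 0, 0, 0, 0, 0, 0, 0, 0, 0, 0, 0, 0, 0, 0, 0, 0, 0, 0, 0, 0, 0, 0, 0, 0, 0, 0, 0, 0, 0, 0, 0, 0, 0, 1, 5, 2, 1, 3, 4],
  [0, 0, 0, 0, 0, 0, 0, 0, 0, 0, 0, 0, 0, 0, 0, 0, 0, 0, 0, 0, 0, 0, 0, 0, 0, 0, 0, 0, 0, 0, 0, 0, 0, 0, 0, 0, 0, 0, 0, 6, 3, 1, 5, 1, 5],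
  [0, 0, 0, 0, 0, 0, 0, 0, 0, 0, 0, 0, 0, 0, 0, 0, 0, 0, 0, 0, 0, 0, 0, 0, 0, 0, 0, 0, 0, 0, 0, 0, 0, 0, 0, 0, 0, 0, 0, 0, 0, 1, 0, 0, 3],
  [0, 0, 0, 0, 0, 0, 0, 0, 0, 0, 0, 0, 0, 0, 0, 0, 0, 0, 0, 0, 0, 0, 0, 0, 0, 0, 0, 0, 0, 0, 0, 0, 0, 0, 0, 0, 0, 0, 0, 0, 0, 6, 1, 3, 0],
  [0, 0, 0, 0, 0, 0, 0, 0, 0, 0, 0, 0, 0, 0, 0, 0, 0, 0, 0, 0, 0, 0, 0, 0, 0, 0, 0, 0, 0, 0, 0, 0, 0, 0, 0, 0, 0, 0, 0, 0, 0, 6, 4, 5, 5],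
  [0, 0, 0, 0, 0, 0, 0, 0, 0, 0, 0, 0, 0, 0, 0, 0, 0, 0, 0, 0, 0, 0, 0, 0, 0, 0, 0, 0, 0, 0, 0, 0, 0, 0, 0, 0, 0, 0, 0, 0, 0, 0, 1, 5, 5]]

theorem s41_1 : List.foldl (fun P x => mulT P (T x)) m41_0 [3, 2, 3, 2] = m41_1 := by decide +kernel

theorem s41_2 : List.foldl (fun P x => mulT P (T x)) m41_1 [3, 2] = idL := by decide +kernel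

theorem wd41 : evalW T ([0, 5, 3, 2] ++ ([3, 2, 3, 2] ++ ([3, 2] ++ []))) = idL := by
  unfold evalW
  rw [List.foldl_append, s41_0, List.foldl_append, s41_1, List.foldl_append, s41_2]
  rfl

/-- an intermediate product -/
def m42_0 : LM := [
  [6, 0, 5, 6, 1, 0, 5, 1, 0, 0, 0, 0, 0, 0, 0, 3, 6, 0, 2, 0, 6, 3, 6, 0, 0, 0, 0, 0, 0, 0, 0, 0, 6, 4, 2, 3, 0, 0, 6, 3, 3, 0, 1, 5, 2],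
  [6, 0, 5, 6, 1, 0, 5, 1, 0, 0, 0, 0, 0, 0, 0, 3, 2, 3, 3, 0, 3, 3, 2, 1, 2, 4, 5, 6, 5, 6, 0, 0, 0, 0, 0, 0, 0, 6, 2, 3, 4, 0, 1, 3, 1],
  [1, 4, 2, 1, 6, 0, 2, 6, 3, 1, 0, 6, 6, 5, 3, 4, 4, 0, 2, 5, 5, 3, 2, 1, 0, 0, 0, 0, 0, 0, 1, 6, 0, 0, 3, 2, 3, 3, 1, 1, 2, 4, 0, 1, 5],
  [3, 2, 6, 3, 4, 0, 6, 4, 1, 2, 6, 4, 5, 5, 0, 5, 5, 4, 4, 1, 6, 5, 6, 6, 0, 0, 0, 0, 0, 0, 4, 2, 3, 1, 5, 5, 1, 4, 6, 5, 4, 6, 5, 6, 5],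
  [5, 3, 3, 5, 2, 0, 3, 2, 4, 6, 0, 1, 1, 2, 4, 6, 3, 6, 2, 2, 1, 0, 3, 6, 0, 0, 0, 0, 0, 0, 6, 0, 6, 5, 6, 1, 4, 3, 5, 2, 3, 3, 4, 0, 6],
  [1, 2, 2, 1, 6, 0, 2, 6, 5, 4, 0, 3, 3, 6, 5, 4, 2, 4, 3, 6, 3, 0, 3, 4, 0, 0, 0, 0, 0, 0, 4, 3, 4, 2, 2, 4, 5, 6, 0, 6, 4, 3, 3, 5, 2],
  [0, 0, 0, 0, 0, 0, 0, 0, 1, 0, 0, 0, 0, 0, 0, 0, 0, 0, 0, 0, 0, 0, 0, 0, 0, 0, 0, 0, 0, 0, 0, 0, 0, 0, 6, 0, 0, 0, 0, 0, 0, 5, 5, 1, 2],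
  [0, 0, 0, 0, 0, 0, 0, 0, 2, 0, 0, 0, 0, 0, 0, 0, 0, 0, 0, 0, 5, 0, 0, 5, 0, 0, 0, 0, 0, 0, 0, 0, 1, 0, 4, 0, 0, 0, 0, 1, 0, 5, 5, 2, 1],
  [0, 0, 0, 0, 0, 0, 0, 0, 1, 0, 0, 0, 0, 0, 0, 0, 0, 0, 0, 0, 0, 0, 0, 0, 0, 0, 0, 0, 0, 0, 0, 0, 0, 0, 0, 0, 0, 0, 0, 6, 4, 2, 1, 6, 2],
  [1, 4, 2, 1, 6, 0, 2, 6, 3, 1, 0, 6, 6, 5, 3, 4, 1, 0, 6, 5, 6, 2, 3, 4, 4, 4, 6, 4, 0, 1, 0, 0, 0, 0, 0, 0, 0, 3, 4, 5, 3, 3, 1, 6, 4],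
  [2, 0, 4, 2, 5, 0, 4, 5, 1, 2, 1, 6, 5, 1, 5, 1, 2, 0, 0, 5, 5, 0, 0, 5, 2, 0, 5, 2, 3, 6, 0, 0, 0, 0, 0, 0, 0, 5, 0, 0, 0, 5, 2, 4, 6],
  [5, 3, 3, 5, 2, 0, 3, 2, 2, 6, 0, 1, 1, 2, 4, 6, 0, 4, 3, 2, 4, 1, 2, 4, 4, 1, 4, 2, 5, 5, 0, 0, 0, 0, 0, 0, 0, 4, 4, 5, 3, 6, 0, 4, 5],
  [0, 0, 0, 0, 0, 0, 0, 0, 2, 0, 0, 0, 0, 0, 0, 0, 0, 0, 0, 0, 3, 0, 0, 1, 0, 0, 0, 5, 5, 6, 0, 0, 0, 0, 0, 0, 0, 0, 0, 6, 3, 6, 6, 0, 1],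
  [1, 2, 2, 1, 6, 0, 2, 6, 6, 4, 0, 3, 3, 6, 5, 4, 2, 3, 3, 6, 5, 3, 5, 5, 5, 3, 1, 6, 1, 1, 0, 0, 0, 0, 0, 0, 0, 6, 1, 1, 3, 1, 6, 3, 0],
  [0, 0, 0, 0, 0, 0, 0, 0, 0, 0, 0, 0, 0, 0, 0, 0, 0, 0, 0, 0, 0, 0, 0, 0, 0, 0, 0, 0, 0, 6, 0, 0, 0, 0, 0, 0, 0, 0, 0, 0, 1, 2, 4, 5, 3],
  [0, 0, 0, 0, 0, 0, 0, 0, 6, 0, 0, 0, 0, 0, 0, 0, 0, 0, 0, 0, 5, 0, 0, 2, 0, 0, 0, 0, 0, 0, 0, 0, 3, 0, 6, 0, 6, 0, 0, 2, 1, 6, 3, 2, 0],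
  [0, 0, 0, 0, 0, 0, 0, 0, 6, 0, 0, 0, 0, 0, 0, 0, 0, 1, 6, 0, 1, 0, 3, 2, 0, 0, 0, 0, 0, 0, 0, 0, 0, 0, 0, 0, 0, 1, 4, 6, 2, 0, 4, 1, 3],
  [1, 2, 2, 1, 6, 0, 2, 6, 3, 2, 6, 4, 5, 5, 0, 4, 0, 1, 3, 1, 0, 4, 0, 2, 0, 0, 0, 0, 0, 0, 0, 0, 0, 0, 0, 0, 0, 2, 6, 0, 3, 2, 4, 6, 1],
  [6, 5, 5, 6, 1, 0, 5, 1, 0, 5, 1, 3, 2, 2, 0, 3, 5, 2, 1, 6, 1, 3, 2, 0, 0, 0, 0, 0, 0, 0, 0, 0, 0, 0, 0, 0, 0, 6, 5, 5, 3, 3, 4, 1, 4],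
  [0, 0, 0, 0, 0, 0, 0, 0, 5, 0, 0, 0, 0, 0, 0, 0, 0, 0, 0, 0, 0, 0, 0, 4, 0, 0, 0, 5, 2, 5, 0, 0, 0, 0, 0, 0, 0, 0, 0, 4, 1, 5, 5, 0, 5],
  [0, 0, 0, 0, 0, 0, 0, 0, 2, 0, 0, 0, 0, 0, 0, 0, 0, 0, 0, 0, 6, 0, 0, 2, 0, 0, 0, 0, 0, 0, 0, 0, 0, 0, 0, 0, 0, 0, 0, 5, 5, 3, 1, 0, 6],
  [2, 4, 4, 2, 5, 0, 4, 5, 2, 1, 0, 6, 6, 5, 3, 1, 6, 4, 5, 5, 6, 0, 5, 5, 0, 0, 0, 0, 0, 0, 0, 0, 0, 0, 0, 0, 0, 3, 5, 2, 5, 2, 5, 3, 1],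
  [4, 1, 1, 4, 3, 0, 1, 3, 1, 1, 3, 2, 6, 6, 0, 2, 2, 5, 6, 4, 3, 2, 0, 0, 0, 0, 0, 0, 0, 0, 0, 0, 0, 0, 0, 0, 0, 4, 1, 3, 1, 6, 5, 6, 4],
  [0, 0, 0, 0, 0, 0, 0, 0, 6, 0, 0, 0, 0, 0, 0, 0, 0, 0, 0, 0, 4, 0, 0, 5, 0, 0, 0, 0, 0, 0, 0, 0, 0, 0, 0, 0, 0, 0, 0, 3, 4, 2, 1, 2, 6],
  [1, 2, 2, 1, 6, 0, 2, 6, 0, 4, 0, 2, 4, 3, 5, 4, 4, 3, 6, 3, 6, 4, 4, 5, 0, 0, 0, 0, 0, 0, 0, 0, 0, 0, 0, 0, 0, 2, 3, 3, 4, 4, 1, 6, 3],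
  [1, 5, 2, 1, 6, 0, 2, 6, 0, 1, 0, 1, 4, 0, 4, 4, 4, 3, 6, 3, 6, 4, 4, 5, 0, 0, 0, 0, 0, 0, 0, 0, 0, 0, 0, 0, 0, 6, 6, 1, 0, 1, 2, 6, 3],
  [0, 6, 0, 0, 0, 0, 0, 0, 0, 1, 0, 3, 0, 4, 4, 0, 0, 0, 0, 0, 0, 0, 0, 0, 0, 0, 0, 0, 0, 0, 0, 0, 0, 0, 0, 0, 0, 1, 4, 3, 5, 5, 4, 6, 4],
  [0, 0, 0, 0, 0, 0, 0, 0, 2, 0, 0, 0, 1, 0, 5, 0, 0, 0, 0, 5, 6, 0, 0, 6, 0, 0, 0, 0, 0, 0, 0, 0, 0, 0, 0, 0, 0, 0, 0, 0, 6, 2, 4, 2, 5],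
  [0, 0, 0, 0, 0, 0, 0, 0, 5, 0, 0, 0, 0, 0, 0, 0, 0, 0, 0, 6, 5, 0, 0, 3, 0, 0, 0, 0, 0, 0, 0, 0, 0, 0, 0, 0, 0, 0, 0, 6, 0, 2, 0, 1, 4],
  [0, 0, 0, 0, 0, 0, 0, 0, 0, 0, 0, 0, 0, 0, 6, 0, 0, 0, 0, 0, 0, 0, 0, 0, 0, 0, 0, 0, 0, 0, 0, 0, 0, 0, 0, 0, 0, 0, 0, 1, 4, 5, 6, 1, 0],
  [3, 0, 6, 1, 6, 4, 4, 6, 4, 0, 0, 0, 0, 0, 0, 2, 2, 1, 0, 0, 3, 5, 3, 1, 0, 0, 0, 0, 0, 0, 0, 0, 0, 0, 0, 0, 0, 6, 4, 1, 6, 6, 6, 3, 6],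
  [6, 0, 3, 1, 3, 6, 5, 6, 4, 0, 0, 0, 0, 0, 0, 4, 4, 4, 0, 0, 3, 4, 4, 6, 0, 0, 0, 0, 0, 0, 0, 0, 0, 0, 0, 0, 0, 1, 6, 1, 4, 1, 4, 5, 4],
  [0, 0, 0, 0, 0, 0, 2, 5, 3, 0, 0, 0, 0, 0, 0, 6, 0, 0, 0, 0, 6, 0, 0, 0, 0, 0, 0, 0, 0, 0, 0, 0, 0, 0, 0, 0, 0, 0, 0, 2, 6, 1, 5, 3, 0],
  [4, 0, 5, 1, 3, 2, 3, 6, 4, 0, 0, 0, 0, 0, 0, 4, 5, 3, 6, 0, 3, 4, 4, 6, 0, 0, 0, 0, 0, 0, 0, 0, 0, 0, 0, 0, 0, 4, 5, 2, 4, 6, 3, 1, 6],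
  [0, 0, 0, 0, 0, 0, 6, 0, 1, 0, 0, 0, 0, 0, 0, 0, 0, 0, 0, 0, 0, 0, 0, 0, 0, 0, 0, 0, 0, 0, 0, 0, 0, 0, 0, 0, 0, 0, 0, 6, 4, 2, 3, 5, 4],
  [3, 0, 3, 3, 4, 6, 6, 4, 5, 0, 0, 0, 0, 0, 0, 5, 5, 5, 4, 0, 2, 5, 6, 4, 0, 0, 0, 0, 0, 0, 0, 0, 0, 0, 0, 0, 0, 0, 3, 5, 6, 2, 6, 5, 2],
  [0, 0, 0, 0, 0, 0, 1, 3, 1, 0, 0, 0, 0, 0, 0, 2, 0, 0, 0, 0, 0, 0, 0, 6, 0, 0, 0, 0, 0, 0, 0, 0, 0, 0, 0, 0, 0, 0, 0, 3, 2, 6, 5, 0, 1],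
  [0, 0, 0, 0, 0, 0, 0, 0, 2, 0, 0, 0, 0, 0, 0, 0, 2, 5, 5, 0, 0, 0, 0, 0, 0, 0, 0, 0, 0, 0, 0, 0, 0, 0, 0, 0, 0, 3, 6, 2, 5, 4, 4, 1, 0],
  [0, 0, 0, 0, 0, 0, 0, 0, 0, 0, 0, 0, 0, 0, 0, 0, 3, 4, 5, 0, 0, 0, 2, 0, 0, 0, 0, 0, 0, 0, 0, 0, 0, 0, 0, 0, 0, 5, 1, 3, 6, 5, 4, 0, 5],
  [0, 0, 0, 0, 0, 0, 0, 0, 0, 0, 0, 0, 0, 0, 0, 0, 0, 0, 0, 0, 0, 0, 0, 0, 0, 0, 0, 0, 0, 0, 0, 0, 0, 0, 0, 0, 0, 0, 0, 6, 2, 5, 0, 2, 1],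
  [0, 0, 0, 0, 0, 0, 0, 0, 0, 0, 0, 0, 0, 0, 0, 0, 0, 0, 0, 0, 0, 0, 0, 0, 0, 0, 0, 0, 0, 0, 0, 0, 0, 0, 0, 0, 0, 0, 0, 1, 4, 0, 3, 6, 3],
  [0, 0, 0, 0, 0, 0, 0, 0, 0, 0, 0, 0, 0, 0, 0, 0, 0, 0, 0, 0, 0, 0, 0, 0, 0, 0, 0, 0, 0, 0, 0, 0, 0, 0, 0, 0, 0, 0, 0, 0, 0, 1, 0, 0, 3],
  [0, 0, 0, 0, 0, 0, 0, 0, 0, 0, 0, 0, 0, 0, 0, 0, 0, 0, 0, 0, 0, 0, 0, 0, 0, 0, 0, 0, 0, 0, 0, 0, 0, 0, 0, 0, 0, 0, 0, 0, 0, 6, 1, 3, 0],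
  [0, 0, 0, 0, 0, 0, 0, 0, 0, 0, 0, 0, 0, 0, 0, 0, 0, 0, 0, 0, 0, 0, 0, 0, 0, 0, 0, 0, 0, 0, 0, 0, 0, 0, 0, 0, 0, 0, 0, 0, 0, 6, 4, 5, 5],
  [0, 0, 0, 0, 0, 0, 0, 0, 0, 0, 0, 0, 0, 0, 0, 0, 0, 0, 0, 0, 0, 0, 0, 0, 0, 0, 0, 0, 0, 0, 0, 0, 0, 0, 0, 0, 0, 0, 0, 0, 0, 0, 1, 5, 5]]

theorem s42_0 : List.foldl (fun P x => mulT P (T x)) idL [2, 7, 3, 7] = m42_0 := by decide +kernel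

/-- an intermediate product -/
def m42_1 : LM := [
  [0, 5, 0, 0, 0, 0, 0, 0, 0, 1, 0, 5, 4, 1, 6, 0, 0, 0, 0, 6, 0, 0, 0, 0, 0, 0, 0, 0, 0, 0, 6, 6, 2, 0, 1, 5, 2, 0, 6, 0, 3, 2, 0, 3, 2],
  [0, 0, 0, 0, 0, 0, 0, 0, 0, 0, 0, 0, 0, 0, 0, 0, 5, 3, 5, 0, 3, 0, 4, 1, 0, 0, 0, 0, 0, 0, 6, 6, 5, 4, 5, 4, 1, 0, 6, 0, 3, 0, 1, 5, 1],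
  [0, 2, 0, 6, 0, 0, 0, 0, 0, 2, 6, 5, 5, 0, 0, 0, 0, 0, 0, 0, 0, 0, 0, 0, 0, 0, 0, 0, 0, 0, 1, 4, 1, 5, 6, 4, 0, 0, 1, 0, 4, 1, 2, 2, 0],
  [0, 5, 0, 3, 0, 2, 0, 0, 0, 3, 3, 6, 2, 1, 4, 0, 0, 0, 0, 5, 0, 0, 0, 0, 0, 0, 0, 0, 0, 0, 3, 2, 1, 6, 4, 2, 4, 0, 3, 0, 5, 4, 4, 1, 4],
  [0, 1, 0, 1, 0, 0, 0, 0, 0, 1, 1, 0, 6, 4, 2, 0, 0, 0, 0, 6, 0, 0, 0, 0, 0, 0, 0, 0, 0, 0, 5, 1, 1, 5, 6, 5, 2, 0, 5, 0, 6, 6, 5, 1, 2],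
  [0, 4, 0, 3, 0, 0, 0, 0, 0, 2, 3, 5, 4, 3, 5, 0, 0, 0, 0, 4, 0, 0, 0, 0, 0, 0, 0, 0, 0, 0, 1, 4, 3, 4, 2, 2, 6, 0, 1, 0, 4, 2, 0, 1, 3],
  [0, 0, 0, 0, 0, 0, 0, 0, 0, 0, 0, 0, 0, 0, 6, 0, 0, 0, 0, 0, 0, 0, 0, 0, 0, 0, 0, 0, 0, 0, 0, 0, 0, 0, 0, 0, 0, 0, 0, 0, 0, 5, 3, 0, 2],
  [0, 0, 0, 0, 0, 0, 0, 0, 0, 0, 0, 0, 2, 0, 2, 0, 0, 0, 0, 1, 0, 0, 0, 0, 0, 0, 0, 0, 0, 0, 0, 0, 6, 0, 2, 0, 6, 0, 0, 0, 0, 5, 5, 3, 1],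
  [0, 0, 0, 0, 0, 0, 0, 0, 0, 0, 0, 0, 0, 0, 0, 0, 0, 0, 0, 0, 0, 0, 0, 0, 0, 0, 0, 0, 0, 6, 0, 0, 1, 0, 0, 0, 2, 0, 0, 0, 0, 4, 3, 2, 2],
  [0, 0, 0, 6, 0, 0, 0, 0, 4, 0, 0, 0, 0, 0, 0, 0, 1, 0, 0, 0, 4, 0, 2, 4, 0, 0, 0, 0, 0, 0, 4, 4, 6, 3, 2, 2, 4, 0, 1, 0, 4, 1, 3, 3, 1],
  [0, 0, 0, 0, 0, 5, 0, 0, 1, 0, 0, 0, 0, 0, 0, 0, 3, 4, 1, 0, 3, 1, 1, 6, 0, 0, 0, 0, 0, 0, 1, 4, 6, 3, 1, 2, 4, 0, 2, 0, 1, 1, 2, 2, 0],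
  [0, 0, 0, 1, 0, 0, 0, 0, 5, 0, 0, 0, 0, 0, 0, 0, 5, 2, 4, 0, 6, 0, 2, 4, 0, 0, 0, 0, 0, 0, 2, 0, 6, 6, 5, 1, 4, 0, 5, 0, 6, 2, 0, 4, 6],
  [0, 0, 0, 0, 0, 0, 0, 0, 3, 0, 0, 0, 0, 0, 0, 0, 0, 0, 0, 0, 6, 0, 0, 0, 0, 0, 0, 0, 0, 0, 0, 0, 1, 0, 5, 0, 5, 0, 0, 0, 0, 0, 3, 6, 3],
  [0, 0, 0, 3, 0, 0, 0, 0, 4, 0, 0, 0, 0, 0, 0, 0, 1, 6, 1, 0, 4, 0, 5, 5, 0, 0, 0, 0, 0, 0, 6, 3, 4, 5, 6, 4, 5, 0, 1, 0, 4, 4, 4, 1, 4],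
  [0, 0, 0, 0, 0, 0, 0, 0, 1, 0, 0, 0, 0, 0, 0, 0, 0, 0, 0, 0, 0, 0, 0, 0, 0, 0, 0, 0, 0, 0, 0, 0, 0, 0, 6, 0, 0, 0, 0, 0, 0, 3, 2, 6, 3],
  [0, 0, 0, 0, 0, 0, 0, 0, 0, 0, 0, 0, 4, 0, 5, 0, 0, 0, 0, 5, 0, 0, 0, 0, 0, 0, 0, 0, 0, 0, 0, 0, 5, 0, 5, 0, 3, 0, 0, 0, 0, 1, 5, 0, 1],
  [0, 0, 0, 0, 0, 0, 0, 0, 0, 0, 0, 0, 0, 0, 0, 0, 0, 0, 0, 0, 0, 0, 0, 0, 4, 4, 3, 3, 1, 1, 0, 0, 5, 3, 4, 1, 3, 0, 0, 0, 0, 6, 4, 3, 4],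
  [0, 0, 0, 3, 0, 2, 0, 0, 0, 0, 0, 0, 0, 0, 0, 0, 0, 0, 0, 0, 0, 0, 0, 0, 1, 2, 6, 2, 0, 0, 0, 0, 1, 5, 0, 2, 5, 0, 1, 0, 4, 4, 1, 2, 2],
  [0, 0, 0, 4, 0, 5, 0, 0, 0, 0, 0, 0, 0, 0, 0, 0, 0, 0, 0, 0, 0, 0, 0, 0, 1, 4, 4, 1, 1, 4, 0, 0, 5, 5, 4, 6, 0, 0, 6, 0, 3, 5, 4, 2, 5],
  [0, 0, 0, 0, 0, 0, 0, 0, 1, 0, 0, 0, 0, 0, 0, 0, 0, 0, 0, 0, 0, 0, 0, 6, 0, 0, 0, 0, 0, 0, 0, 0, 3, 0, 1, 0, 2, 0, 0, 0, 0, 6, 5, 1, 3],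
  [0, 0, 0, 0, 0, 0, 0, 0, 0, 0, 0, 0, 0, 0, 0, 0, 0, 0, 0, 0, 0, 0, 0, 0, 0, 0, 0, 5, 6, 2, 0, 0, 2, 0, 5, 0, 2, 0, 0, 0, 0, 5, 4, 4, 6],
  [0, 0, 0, 6, 0, 0, 0, 0, 0, 0, 0, 0, 0, 0, 0, 0, 0, 0, 0, 0, 0, 0, 0, 0, 2, 4, 3, 5, 2, 6, 5, 4, 0, 0, 3, 1, 2, 0, 2, 0, 1, 2, 5, 5, 5],
  [0, 0, 0, 5, 0, 1, 0, 0, 0, 0, 0, 0, 0, 0, 0, 0, 0, 0, 0, 0, 0, 0, 0, 0, 4, 4, 3, 3, 3, 4, 0, 0, 6, 1, 5, 4, 3, 0, 4, 0, 2, 1, 5, 3, 2],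
  [0, 0, 0, 0, 0, 0, 0, 0, 0, 0, 0, 0, 0, 0, 0, 0, 0, 0, 0, 0, 0, 0, 0, 0, 0, 0, 0, 3, 2, 1, 0, 0, 4, 0, 2, 0, 4, 0, 0, 0, 0, 5, 2, 2, 5],
  [1, 0, 0, 0, 0, 0, 0, 0, 0, 0, 0, 0, 0, 0, 0, 0, 0, 0, 0, 0, 0, 0, 0, 0, 0, 0, 0, 0, 0, 0, 1, 2, 6, 6, 6, 2, 0, 0, 1, 0, 4, 6, 2, 6, 6],
  [0, 0, 1, 0, 0, 5, 0, 0, 0, 0, 0, 0, 0, 0, 0, 0, 0, 0, 0, 0, 0, 0, 0, 0, 0, 0, 0, 0, 0, 0, 1, 1, 1, 5, 6, 5, 4, 0, 1, 0, 4, 4, 4, 6, 6],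
  [0, 0, 0, 0, 1, 2, 0, 0, 0, 0, 0, 0, 0, 0, 0, 0, 0, 0, 0, 0, 0, 0, 0, 0, 0, 0, 0, 0, 0, 0, 0, 6, 4, 0, 0, 5, 1, 0, 0, 0, 0, 6, 1, 4, 5],
  [0, 0, 0, 0, 0, 0, 0, 1, 0, 0, 0, 0, 0, 0, 0, 0, 0, 0, 0, 0, 0, 0, 0, 0, 0, 0, 0, 0, 0, 0, 0, 0, 0, 0, 6, 0, 2, 0, 0, 0, 0, 3, 6, 0, 3],
  [0, 0, 0, 0, 0, 0, 0, 0, 0, 0, 0, 0, 0, 0, 0, 1, 0, 0, 0, 0, 0, 0, 0, 0, 0, 0, 0, 0, 0, 0, 0, 0, 1, 0, 5, 0, 1, 0, 0, 0, 0, 5, 0, 4, 1],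
  [0, 0, 0, 0, 0, 0, 1, 0, 0, 0, 0, 0, 0, 0, 0, 0, 0, 0, 0, 0, 0, 0, 0, 0, 0, 0, 0, 0, 0, 0, 0, 0, 6, 0, 6, 0, 5, 0, 0, 0, 0, 2, 1, 1, 6],
  [0, 0, 0, 0, 0, 0, 0, 0, 0, 0, 0, 0, 0, 0, 0, 0, 0, 0, 0, 0, 0, 0, 0, 0, 0, 0, 0, 0, 0, 0, 5, 4, 6, 6, 4, 4, 0, 1, 0, 3, 4, 6, 0, 3, 2],
  [0, 0, 0, 0, 0, 0, 0, 0, 0, 0, 0, 0, 0, 0, 0, 0, 0, 0, 0, 0, 0, 0, 0, 0, 0, 0, 0, 0, 0, 0, 1, 4, 5, 2, 5, 0, 3, 5, 0, 6, 6, 6, 2, 5, 4],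
  [0, 0, 0, 0, 0, 0, 0, 0, 0, 0, 0, 0, 0, 0, 0, 0, 0, 0, 0, 0, 0, 0, 0, 0, 0, 0, 0, 0, 0, 0, 0, 0, 5, 0, 0, 0, 3, 0, 0, 1, 4, 4, 0, 0, 3],
  [0, 0, 0, 0, 0, 0, 0, 0, 0, 0, 0, 0, 0, 0, 0, 0, 0, 0, 0, 0, 0, 0, 0, 0, 0, 0, 0, 0, 0, 0, 1, 4, 4, 1, 0, 5, 1, 4, 1, 6, 6, 1, 5, 6, 6],
  [0, 0, 0, 0, 0, 0, 0, 0, 0, 0, 0, 0, 0, 0, 0, 0, 0, 0, 0, 0, 0, 0, 0, 0, 0, 0, 0, 0, 0, 0, 0, 0, 1, 0, 0, 0, 2, 0, 0, 0, 6, 5, 6, 6, 0],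
  [0, 0, 0, 0, 0, 0, 0, 0, 0, 0, 0, 0, 0, 0, 0, 0, 0, 0, 0, 0, 0, 0, 0, 0, 0, 0, 0, 0, 0, 0, 3, 6, 6, 2, 6, 1, 5, 2, 3, 4, 2, 5, 1, 6, 1],
  [0, 0, 0, 0, 0, 0, 0, 0, 0, 0, 0, 0, 0, 0, 0, 0, 0, 0, 0, 0, 0, 0, 0, 0, 0, 0, 0, 0, 0, 0, 0, 0, 4, 0, 0, 0, 1, 0, 0, 3, 6, 2, 1, 5, 3],
  [0, 0, 0, 0, 0, 0, 0, 0, 0, 0, 0, 0, 0, 0, 0, 0, 0, 0, 0, 0, 0, 0, 0, 0, 0, 0, 0, 0, 0, 0, 0, 0, 5, 6, 0, 5, 3, 0, 0, 0, 0, 6, 3, 4, 5],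
  [0, 0, 0, 0, 0, 0, 0, 0, 0, 0, 0, 0, 0, 0, 0, 0, 0, 0, 0, 0, 0, 0, 0, 0, 0, 0, 0, 0, 0, 0, 0, 1, 4, 5, 5, 5, 1, 0, 0, 0, 0, 2, 0, 2, 0],
  [0, 0, 0, 0, 0, 0, 0, 0, 0, 0, 0, 0, 0, 0, 0, 0, 0, 0, 0, 0, 0, 0, 0, 0, 0, 0, 0, 0, 0, 0, 0, 0, 1, 0, 0, 0, 4, 0, 0, 0, 0, 2, 3, 1, 0],
  [0, 0, 0, 0, 0, 0, 0, 0, 0, 0, 0, 0, 0, 0, 0, 0, 0, 0, 0, 0, 0, 0, 0, 0, 0, 0, 0, 0, 0, 0, 0, 0, 6, 0, 6, 0, 5, 0, 0, 0, 0, 4, 3, 3, 2],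
  [0, 0, 0, 0, 0, 0, 0, 0, 0, 0, 0, 0, 0, 0, 0, 0, 0, 0, 0, 0, 0, 0, 0, 0, 0, 0, 0, 0, 0, 0, 0, 0, 0, 0, 0, 0, 0, 0, 0, 0, 0, 4, 4, 6, 0],
  [0, 0, 0, 0, 0, 0, 0, 0, 0, 0, 0, 0, 0, 0, 0, 0, 0, 0, 0, 0, 0, 0, 0, 0, 0, 0, 0, 0, 0, 0, 0, 0, 0, 0, 0, 0, 0, 0, 0, 0, 0, 5, 0, 2, 6],
  [0, 0, 0, 0, 0, 0, 0, 0, 0, 0, 0, 0, 0, 0, 0, 0, 0, 0, 0, 0, 0, 0, 0, 0, 0, 0, 0, 0, 0, 0, 0, 0, 0, 0, 0, 0, 0, 0, 0, 0, 0, 0, 2, 4, 3],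
  [0, 0, 0, 0, 0, 0, 0, 0, 0, 0, 0, 0, 0, 0, 0, 0, 0, 0, 0, 0, 0, 0, 0, 0, 0, 0, 0, 0, 0, 0, 0, 0, 0, 0, 0, 0, 0, 0, 0, 0, 0, 6, 2, 3, 6]]

theorem s42_1 : List.foldl (fun P x => mulT P (T x)) m42_0 [3, 2, 3, 6] = m42_1 := by decide +kernel

theorem s42_2 : List.foldl (fun P x => mulT P (T x)) m42_1 [3, 6] = idL := by decide +kernel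

theorem wd42 : evalW T ([2, 7, 3, 7] ++ ([3, 2, 3, 6] ++ ([3, 6] ++ []))) = idL := by
  unfold evalW
  rw [List.foldl_append, s42_0, List.foldl_append, s42_1, List.foldl_append, s42_2]
  rfl

theorem s47_0 : List.foldl (fun P x => mulT P (T x)) idL [8, 6, 9, 7] = idL := by decide +kernel

theorem wd47 : evalW T ([8, 6, 9, 7] ++ []) = idL := by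
  unfold evalW
  rw [List.foldl_append, s47_0]
  rfl

theorem s53_0 : List.foldl (fun P x => mulT P (T x)) idL [8, 5, 9, 5] = idL := by decide +kernel

theorem wd53 : evalW T ([8, 5, 9, 5] ++ []) = idL := by
  unfold evalW
  rw [List.foldl_append, s53_0]
  rfl

end Cfsg.Agent.Lib.Lead.ON45
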