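import Cfsg.Agent.Lib.Lead.ON45.LMat

/-! # The 45-dimensional module of the triple cover of the O'Nan group over the field with seven elements: the
transposed matrices of the letters `0..5 = a..f`, `6 = g`, `7 = g⁻¹`, `8 = z`, `9 = z⁻¹` (generated) -/

set_option autoImplicit false
set_option maxRecDepth 100000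

namespace Cfsg.Agent.Lib.Lead.ON45

/-- the transposed matrix of the letter 0 -/
def tA : LM := [
  [2, 0, 6, 4, 2, 6, 0, 0, 0, 0, 0, 0, 0, 0, 0, 0, 0, 0, 0, 0, 0, 0, 0, 0, 0, 0, 0, 0, 0, 0, 0, 0, 0, 0, 0, 0, 0, 0, 0, 0, 0, 0, 0, 0, 0],
  [0, 2, 0, 0, 0, 0, 0, 0, 0, 6, 4, 2, 0, 6, 0, 0, 0, 0, 0, 0, 0, 0, 0, 0, 0, 0, 0, 0, 0, 0, 0, 0, 0, 0, 0, 0, 0, 0, 0, 0, 0, 0, 0, 0, 0],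
  [4, 0, 0, 3, 5, 1, 0, 0, 0, 0, 0, 0, 0, 0, 0, 0, 0, 0, 0, 0, 0, 0, 0, 0, 0, 0, 0, 0, 0, 0, 0, 0, 0, 0, 0, 0, 0, 0, 0, 0, 0, 0, 0, 0, 0],
  [0, 0, 0, 6, 0, 0, 0, 0, 0, 0, 0, 0, 0, 0, 0, 0, 0, 0, 0, 0, 0, 0, 0, 0, 0, 0, 0, 0, 0, 0, 0, 0, 0, 0, 0, 0, 0, 0, 0, 0, 0, 0, 0, 0, 0],
  [2, 0, 0, 6, 3, 6, 0, 0, 0, 0, 0, 0, 0, 0, 0, 0, 0, 0, 0, 0, 0, 0, 0, 0, 0, 0, 0, 0, 0, 0, 0, 0, 0, 0, 0, 0, 0, 0, 0, 0, 0, 0, 0, 0, 0],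
  [3, 0, 5, 6, 5, 2, 0, 0, 0, 0, 0, 0, 0, 0, 0, 0, 0, 0, 0, 0, 0, 0, 0, 0, 0, 0, 0, 0, 0, 0, 0, 0, 0, 0, 0, 0, 0, 0, 0, 0, 0, 0, 0, 0, 0],
  [2, 0, 5, 0, 4, 5, 1, 3, 0, 0, 0, 0, 0, 0, 0, 1, 0, 0, 0, 0, 0, 0, 0, 0, 0, 0, 0, 0, 0, 0, 0, 0, 0, 0, 0, 0, 0, 0, 0, 0, 0, 0, 0, 0, 0],
  [0, 0, 0, 0, 0, 0, 0, 6, 0, 0, 0, 0, 0, 0, 0, 0, 0, 0, 0, 0, 0, 0, 0, 0, 0, 0, 0, 0, 0, 0, 0, 0, 0, 0, 0, 0, 0, 0, 0, 0, 0, 0, 0, 0, 0],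
  [0, 0, 0, 0, 0, 0, 0, 0, 1, 0, 0, 0, 0, 0, 0, 0, 2, 5, 4, 0, 3, 0, 5, 1, 0, 0, 0, 0, 0, 0, 0, 0, 0, 0, 0, 0, 0, 0, 0, 0, 0, 0, 0, 0, 0],
  [0, 4, 0, 0, 0, 0, 0, 0, 0, 0, 3, 5, 0, 1, 0, 0, 0, 0, 0, 0, 0, 0, 0, 0, 0, 0, 0, 0, 0, 0, 0, 0, 0, 0, 0, 0, 0, 0, 0, 0, 0, 0, 0, 0, 0],
  [0, 0, 0, 0, 0, 0, 0, 0, 0, 0, 6, 0, 0, 0, 0, 0, 0, 0, 0, 0, 0, 0, 0, 0, 0, 0, 0, 0, 0, 0, 0, 0, 0, 0, 0, 0, 0, 0, 0, 0, 0, 0, 0, 0, 0],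
  [0, 2, 0, 0, 0, 0, 0, 0, 0, 0, 6, 3, 0, 6, 0, 0, 0, 0, 0, 0, 0, 0, 0, 0, 0, 0, 0, 0, 0, 0, 0, 0, 0, 0, 0, 0, 0, 0, 0, 0, 0, 0, 0, 0, 0],
  [0, 0, 0, 0, 0, 0, 0, 0, 0, 0, 0, 0, 6, 0, 0, 0, 0, 0, 0, 0, 0, 0, 0, 0, 0, 0, 0, 0, 0, 0, 0, 0, 0, 0, 0, 0, 0, 0, 0, 0, 0, 0, 0, 0, 0],
  [0, 3, 0, 0, 0, 0, 0, 0, 0, 5, 6, 5, 0, 2, 0, 0, 0, 0, 0, 0, 0, 0, 0, 0, 0, 0, 0, 0, 0, 0, 0, 0, 0, 0, 0, 0, 0, 0, 0, 0, 0, 0, 0, 0, 0],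
  [0, 2, 0, 0, 0, 0, 0, 0, 0, 5, 0, 4, 3, 5, 1, 0, 0, 0, 0, 1, 0, 0, 0, 0, 0, 0, 0, 0, 0, 0, 0, 0, 0, 0, 0, 0, 0, 0, 0, 0, 0, 0, 0, 0, 0],
  [0, 0, 0, 0, 0, 0, 0, 0, 0, 0, 0, 0, 0, 0, 0, 6, 0, 0, 0, 0, 0, 0, 0, 0, 0, 0, 0, 0, 0, 0, 0, 0, 0, 0, 0, 0, 0, 0, 0, 0, 0, 0, 0, 0, 0],
  [0, 0, 0, 0, 0, 0, 0, 0, 0, 0, 0, 0, 0, 0, 0, 0, 2, 6, 2, 0, 0, 4, 6, 0, 0, 0, 0, 0, 0, 0, 0, 0, 0, 0, 0, 0, 0, 0, 0, 0, 0, 0, 0, 0, 0],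
  [0, 0, 0, 0, 0, 0, 0, 0, 0, 0, 0, 0, 0, 0, 0, 0, 4, 0, 5, 0, 0, 3, 1, 0, 0, 0, 0, 0, 0, 0, 0, 0, 0, 0, 0, 0, 0, 0, 0, 0, 0, 0, 0, 0, 0],
  [0, 0, 0, 0, 0, 0, 0, 0, 0, 0, 0, 0, 0, 0, 0, 0, 2, 0, 3, 0, 0, 6, 6, 0, 0, 0, 0, 0, 0, 0, 0, 0, 0, 0, 0, 0, 0, 0, 0, 0, 0, 0, 0, 0, 0],
  [0, 0, 0, 0, 0, 0, 0, 0, 0, 0, 0, 0, 0, 0, 0, 0, 0, 0, 0, 6, 0, 0, 0, 0, 0, 0, 0, 0, 0, 0, 0, 0, 0, 0, 0, 0, 0, 0, 0, 0, 0, 0, 0, 0, 0],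
  [0, 0, 0, 0, 0, 0, 0, 0, 0, 0, 0, 0, 0, 0, 0, 0, 0, 0, 0, 0, 6, 0, 0, 0, 0, 0, 0, 0, 0, 0, 0, 0, 0, 0, 0, 0, 0, 0, 0, 0, 0, 0, 0, 0, 0],
  [0, 0, 0, 0, 0, 0, 0, 0, 0, 0, 0, 0, 0, 0, 0, 0, 0, 0, 0, 0, 0, 6, 0, 0, 0, 0, 0, 0, 0, 0, 0, 0, 0, 0, 0, 0, 0, 0, 0, 0, 0, 0, 0, 0, 0],
  [0, 0, 0, 0, 0, 0, 0, 0, 0, 0, 0, 0, 0, 0, 0, 0, 3, 5, 5, 0, 0, 6, 2, 0, 0, 0, 0, 0, 0, 0, 0, 0, 0, 0, 0, 0, 0, 0, 0, 0, 0, 0, 0, 0, 0],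
  [0, 0, 0, 0, 0, 0, 0, 0, 0, 0, 0, 0, 0, 0, 0, 0, 0, 0, 0, 0, 0, 0, 0, 6, 0, 0, 0, 0, 0, 0, 0, 0, 0, 0, 0, 0, 0, 0, 0, 0, 0, 0, 0, 0, 0],
  [0, 0, 3, 3, 4, 5, 0, 0, 0, 3, 2, 4, 0, 5, 0, 0, 0, 3, 4, 0, 0, 3, 5, 0, 2, 1, 0, 0, 0, 0, 0, 0, 0, 0, 0, 0, 0, 0, 0, 0, 0, 0, 0, 0, 0],
  [0, 0, 4, 4, 3, 2, 0, 0, 0, 4, 5, 3, 0, 2, 0, 0, 0, 4, 3, 0, 0, 4, 2, 0, 4, 5, 0, 0, 0, 0, 0, 0, 0, 0, 0, 0, 0, 0, 0, 0, 0, 0, 0, 0, 0],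
  [0, 0, 1, 2, 6, 4, 0, 0, 0, 1, 2, 6, 0, 4, 0, 0, 0, 2, 5, 0, 0, 1, 1, 0, 2, 2, 1, 0, 0, 0, 0, 0, 0, 0, 0, 0, 0, 0, 0, 0, 0, 0, 0, 0, 0],
  [0, 0, 0, 0, 0, 0, 0, 0, 0, 0, 0, 0, 0, 0, 0, 0, 0, 0, 0, 0, 0, 0, 0, 0, 0, 0, 0, 6, 0, 0, 0, 0, 0, 0, 0, 0, 0, 0, 0, 0, 0, 0, 0, 0, 0],
  [0, 0, 0, 0, 0, 0, 0, 0, 0, 0, 0, 0, 0, 0, 0, 0, 0, 0, 0, 0, 0, 0, 0, 0, 0, 0, 0, 0, 6, 0, 0, 0, 0, 0, 0, 0, 0, 0, 0, 0, 0, 0, 0, 0, 0],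
  [0, 0, 0, 3, 0, 0, 0, 0, 0, 0, 4, 0, 0, 0, 0, 0, 0, 3, 4, 0, 0, 0, 5, 0, 2, 2, 0, 3, 1, 1, 0, 0, 0, 0, 0, 0, 0, 0, 0, 0, 0, 0, 0, 0, 0],
  [0, 0, 0, 0, 0, 0, 0, 0, 0, 0, 0, 0, 0, 0, 0, 0, 0, 0, 0, 0, 0, 0, 0, 0, 0, 0, 0, 0, 0, 0, 6, 0, 0, 0, 0, 0, 0, 0, 0, 0, 0, 0, 0, 0, 0],
  [0, 0, 0, 0, 0, 0, 0, 0, 0, 0, 0, 0, 0, 0, 0, 0, 0, 0, 0, 0, 0, 0, 0, 0, 0, 0, 0, 0, 0, 0, 6, 3, 0, 2, 0, 6, 0, 0, 0, 0, 0, 0, 0, 0, 0],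
  [0, 0, 0, 0, 0, 0, 0, 0, 0, 0, 0, 0, 0, 0, 0, 0, 0, 0, 0, 0, 0, 0, 0, 0, 0, 0, 0, 0, 0, 0, 0, 0, 6, 0, 0, 0, 0, 0, 0, 0, 0, 0, 0, 0, 0],
  [6, 6, 1, 3, 5, 1, 0, 0, 0, 1, 2, 5, 0, 1, 0, 0, 0, 1, 6, 0, 0, 2, 4, 0, 1, 1, 0, 0, 0, 0, 2, 2, 0, 3, 0, 6, 0, 0, 0, 0, 0, 0, 0, 0, 0],
  [5, 5, 2, 6, 3, 2, 0, 0, 0, 2, 4, 3, 0, 2, 0, 0, 0, 2, 5, 0, 0, 4, 1, 0, 2, 2, 0, 0, 0, 0, 3, 4, 3, 4, 1, 5, 1, 0, 0, 0, 0, 0, 0, 0, 0],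
  [5, 5, 2, 6, 3, 2, 0, 0, 0, 2, 4, 3, 0, 2, 0, 0, 0, 2, 5, 0, 0, 4, 1, 0, 2, 2, 0, 0, 0, 0, 2, 5, 0, 5, 0, 2, 0, 0, 0, 0, 0, 0, 0, 0, 0],
  [0, 0, 0, 0, 0, 0, 0, 0, 0, 0, 0, 0, 0, 0, 0, 0, 0, 0, 0, 0, 0, 0, 0, 0, 0, 0, 0, 0, 0, 0, 0, 0, 0, 0, 0, 0, 6, 0, 0, 0, 0, 0, 0, 0, 0],
  [6, 6, 3, 6, 3, 2, 0, 0, 0, 3, 0, 3, 0, 2, 0, 0, 6, 1, 5, 0, 0, 6, 1, 0, 2, 2, 0, 0, 0, 0, 2, 2, 0, 2, 0, 6, 0, 1, 0, 0, 0, 0, 0, 0, 0],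
  [2, 2, 6, 5, 3, 2, 0, 0, 0, 6, 3, 3, 0, 2, 0, 0, 5, 5, 0, 0, 0, 4, 0, 0, 0, 0, 0, 0, 0, 0, 3, 0, 0, 0, 0, 0, 0, 0, 1, 0, 0, 0, 0, 0, 0],
  [0, 0, 0, 0, 0, 0, 0, 0, 0, 0, 0, 0, 0, 0, 0, 0, 0, 0, 0, 0, 0, 0, 0, 0, 0, 0, 0, 0, 0, 0, 0, 0, 0, 0, 0, 0, 0, 0, 0, 6, 0, 0, 0, 0, 0],
  [6, 6, 6, 5, 0, 0, 0, 0, 2, 6, 6, 0, 0, 0, 0, 0, 1, 3, 0, 0, 3, 1, 3, 1, 0, 4, 1, 4, 6, 5, 5, 2, 3, 0, 2, 2, 1, 3, 1, 0, 6, 0, 0, 0, 0],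
  [4, 4, 0, 3, 4, 5, 0, 2, 5, 0, 2, 4, 2, 5, 0, 3, 4, 3, 6, 5, 4, 3, 1, 3, 6, 2, 6, 4, 2, 2, 0, 1, 1, 3, 5, 0, 2, 4, 6, 0, 2, 1, 0, 0, 0],
  [0, 5, 3, 0, 4, 5, 0, 0, 3, 3, 5, 2, 0, 6, 0, 1, 2, 3, 2, 4, 5, 3, 0, 1, 4, 3, 5, 4, 5, 4, 1, 0, 5, 4, 3, 1, 3, 1, 5, 0, 4, 0, 1, 0, 0],
  [3, 2, 2, 5, 1, 3, 0, 4, 3, 2, 1, 0, 0, 0, 0, 4, 1, 6, 5, 4, 5, 3, 2, 1, 3, 2, 5, 4, 5, 4, 5, 2, 5, 6, 3, 0, 6, 1, 5, 0, 4, 0, 0, 1, 0],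
  [0, 3, 2, 1, 5, 1, 0, 4, 5, 6, 5, 4, 5, 5, 0, 0, 6, 2, 2, 3, 2, 5, 3, 3, 6, 2, 6, 2, 4, 2, 6, 5, 1, 0, 5, 5, 3, 4, 6, 1, 2, 0, 0, 0, 1]]

/-- the transposed matrix of the letter 1 -/
def tB : LM := [
  [6, 5, 2, 6, 5, 1, 0, 0, 0, 5, 1, 4, 0, 2, 0, 0, 2, 4, 3, 0, 0, 2, 6, 0, 6, 0, 0, 0, 0, 0, 6, 4, 0, 6, 0, 5, 0, 0, 4, 0, 0, 0, 0, 0, 0],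
  [0, 3, 0, 0, 0, 0, 0, 0, 0, 2, 0, 5, 0, 4, 0, 0, 0, 0, 0, 0, 0, 0, 0, 0, 0, 0, 0, 0, 0, 0, 0, 0, 0, 0, 0, 0, 0, 0, 0, 0, 0, 0, 0, 0, 0],
  [4, 3, 6, 0, 1, 0, 0, 0, 0, 6, 4, 3, 0, 6, 0, 0, 4, 6, 3, 0, 0, 5, 2, 0, 1, 0, 4, 0, 0, 0, 6, 6, 0, 6, 0, 3, 0, 5, 6, 0, 0, 0, 0, 0, 0],
  [1, 0, 6, 0, 1, 2, 0, 0, 0, 5, 0, 4, 0, 0, 0, 0, 4, 2, 5, 0, 0, 1, 6, 0, 6, 4, 0, 0, 0, 0, 2, 6, 0, 1, 0, 5, 0, 1, 0, 0, 0, 0, 0, 0, 0],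
  [6, 6, 6, 0, 5, 4, 0, 0, 0, 5, 1, 0, 0, 4, 0, 0, 1, 2, 3, 0, 0, 0, 6, 0, 0, 3, 4, 0, 0, 0, 4, 3, 0, 2, 0, 3, 0, 0, 2, 0, 0, 0, 0, 0, 0],
  [3, 6, 0, 0, 5, 2, 0, 0, 0, 1, 5, 3, 0, 5, 0, 0, 6, 2, 6, 0, 0, 4, 2, 0, 0, 1, 1, 0, 0, 0, 3, 4, 0, 5, 0, 1, 0, 5, 3, 0, 0, 0, 0, 0, 0],
  [0, 0, 0, 0, 0, 0, 0, 0, 0, 0, 0, 0, 0, 0, 0, 0, 0, 0, 0, 0, 0, 0, 0, 0, 0, 0, 0, 0, 0, 0, 0, 0, 0, 0, 0, 0, 0, 0, 0, 0, 0, 1, 0, 0, 0],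
  [0, 0, 0, 0, 0, 0, 0, 0, 0, 0, 0, 0, 0, 0, 0, 0, 0, 0, 0, 0, 0, 0, 0, 0, 0, 0, 0, 0, 0, 0, 0, 0, 0, 0, 0, 0, 0, 0, 0, 0, 0, 0, 1, 0, 0],
  [2, 3, 4, 5, 4, 1, 5, 5, 5, 1, 4, 5, 4, 5, 4, 5, 2, 4, 6, 0, 3, 3, 4, 0, 1, 3, 6, 0, 5, 4, 4, 6, 0, 2, 0, 2, 0, 6, 2, 0, 0, 6, 2, 5, 0],
  [0, 6, 0, 0, 0, 0, 0, 0, 0, 2, 0, 4, 0, 6, 0, 0, 0, 0, 0, 0, 0, 0, 0, 0, 0, 0, 0, 0, 0, 0, 0, 0, 0, 0, 0, 0, 0, 0, 0, 0, 0, 0, 0, 0, 0],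
  [0, 3, 0, 0, 0, 0, 0, 0, 0, 6, 3, 4, 0, 2, 0, 0, 0, 0, 0, 0, 0, 0, 0, 0, 0, 0, 0, 0, 0, 0, 0, 0, 0, 0, 0, 0, 0, 0, 0, 0, 0, 0, 0, 0, 0],
  [0, 1, 0, 0, 0, 0, 0, 0, 0, 5, 4, 4, 0, 0, 0, 0, 0, 0, 0, 0, 0, 0, 0, 0, 0, 0, 0, 0, 0, 0, 0, 0, 0, 0, 0, 0, 0, 0, 0, 0, 0, 0, 0, 0, 0],
  [0, 6, 0, 0, 0, 0, 0, 0, 0, 5, 3, 3, 3, 6, 2, 0, 0, 0, 0, 5, 0, 0, 0, 0, 0, 0, 0, 0, 0, 0, 0, 0, 0, 0, 0, 0, 0, 0, 0, 0, 0, 0, 0, 0, 0],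
  [0, 6, 0, 0, 0, 0, 0, 0, 0, 0, 2, 5, 0, 1, 0, 0, 0, 0, 0, 0, 0, 0, 0, 0, 0, 0, 0, 0, 0, 0, 0, 0, 0, 0, 0, 0, 0, 0, 0, 0, 0, 0, 0, 0, 0],
  [0, 4, 0, 0, 0, 0, 0, 0, 0, 0, 6, 1, 0, 6, 6, 0, 0, 0, 0, 0, 0, 0, 0, 0, 0, 0, 0, 0, 0, 0, 0, 0, 0, 0, 0, 0, 0, 0, 0, 0, 0, 0, 0, 0, 0],
  [0, 0, 0, 0, 0, 0, 0, 0, 0, 0, 0, 0, 0, 0, 0, 0, 0, 0, 0, 0, 0, 0, 0, 0, 0, 0, 0, 0, 0, 0, 0, 0, 0, 0, 0, 0, 0, 0, 0, 0, 0, 0, 0, 1, 0],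
  [4, 4, 4, 0, 2, 1, 0, 0, 0, 0, 1, 2, 0, 0, 0, 0, 0, 1, 5, 0, 0, 4, 1, 0, 3, 6, 2, 0, 0, 0, 1, 6, 0, 1, 0, 2, 0, 4, 6, 0, 0, 0, 0, 0, 0],
  [1, 5, 4, 5, 1, 4, 0, 0, 0, 2, 3, 2, 0, 5, 0, 0, 0, 0, 2, 0, 0, 0, 4, 0, 2, 4, 0, 0, 0, 0, 0, 1, 0, 1, 0, 4, 0, 2, 5, 0, 0, 0, 0, 0, 0],
  [2, 4, 1, 1, 4, 2, 0, 0, 0, 5, 2, 3, 0, 0, 0, 0, 0, 0, 0, 0, 0, 3, 2, 0, 0, 0, 1, 0, 0, 0, 2, 0, 0, 6, 0, 0, 0, 5, 6, 0, 0, 0, 0, 0, 0],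
  [0, 5, 0, 0, 0, 0, 0, 0, 0, 0, 6, 5, 4, 6, 2, 0, 0, 0, 0, 4, 0, 0, 0, 0, 0, 0, 0, 0, 0, 0, 0, 0, 0, 0, 0, 0, 0, 0, 0, 0, 0, 0, 0, 0, 0],
  [6, 5, 3, 6, 1, 1, 6, 5, 6, 3, 3, 5, 1, 2, 6, 4, 2, 5, 3, 5, 2, 1, 2, 0, 5, 3, 3, 2, 2, 6, 5, 0, 0, 0, 0, 1, 0, 1, 2, 0, 0, 0, 2, 4, 0],
  [4, 1, 2, 3, 3, 4, 0, 0, 0, 4, 1, 3, 0, 3, 0, 0, 1, 5, 1, 0, 0, 2, 1, 0, 3, 4, 3, 0, 0, 0, 0, 2, 0, 4, 0, 3, 0, 3, 5, 0, 0, 0, 0, 0, 0],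
  [0, 4, 2, 4, 5, 2, 0, 0, 0, 0, 2, 3, 0, 4, 0, 0, 6, 1, 2, 0, 0, 3, 4, 0, 4, 3, 6, 0, 0, 0, 0, 0, 0, 1, 0, 3, 0, 4, 2, 0, 0, 0, 0, 0, 0],
  [2, 5, 3, 4, 0, 3, 6, 4, 6, 1, 4, 0, 0, 2, 2, 5, 3, 2, 0, 2, 3, 4, 6, 6, 2, 2, 6, 5, 1, 2, 4, 0, 0, 0, 0, 5, 0, 5, 3, 0, 0, 0, 1, 5, 0],
  [0, 0, 3, 5, 4, 5, 0, 0, 0, 3, 0, 4, 0, 5, 0, 0, 0, 5, 2, 0, 0, 3, 6, 0, 6, 2, 1, 0, 0, 0, 0, 0, 0, 0, 0, 0, 0, 0, 0, 0, 0, 0, 0, 0, 0],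
  [0, 0, 5, 1, 2, 6, 0, 0, 0, 5, 5, 2, 0, 6, 0, 0, 0, 1, 6, 0, 0, 5, 4, 0, 3, 4, 5, 0, 0, 0, 0, 0, 0, 0, 0, 0, 0, 0, 0, 0, 0, 0, 0, 0, 0],
  [0, 0, 0, 6, 0, 0, 0, 0, 0, 0, 1, 0, 0, 0, 0, 0, 0, 6, 1, 0, 0, 0, 3, 0, 2, 5, 2, 0, 0, 0, 0, 0, 0, 0, 0, 0, 0, 0, 0, 0, 0, 0, 0, 0, 0],
  [0, 0, 6, 2, 1, 3, 0, 0, 0, 6, 1, 1, 0, 3, 0, 0, 0, 2, 5, 0, 0, 6, 1, 0, 3, 2, 6, 4, 3, 5, 0, 0, 0, 0, 0, 0, 0, 0, 0, 0, 0, 0, 0, 0, 0],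
  [0, 0, 3, 2, 4, 5, 0, 0, 0, 3, 3, 4, 0, 5, 0, 0, 0, 2, 5, 0, 0, 3, 1, 0, 0, 3, 4, 5, 2, 5, 0, 0, 0, 0, 0, 0, 0, 0, 0, 0, 0, 0, 0, 0, 0],
  [0, 0, 0, 3, 0, 0, 0, 0, 0, 0, 4, 0, 0, 0, 0, 0, 0, 3, 4, 0, 0, 0, 5, 0, 4, 6, 1, 1, 2, 0, 0, 0, 0, 0, 0, 0, 0, 0, 0, 0, 0, 0, 0, 0, 0],
  [3, 0, 3, 1, 6, 6, 0, 0, 0, 0, 1, 1, 0, 1, 0, 0, 6, 5, 6, 0, 0, 3, 4, 0, 5, 0, 3, 0, 0, 0, 4, 2, 0, 0, 0, 3, 0, 1, 6, 0, 0, 0, 0, 0, 0],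
  [3, 4, 0, 1, 1, 0, 0, 0, 0, 2, 5, 1, 0, 5, 0, 0, 4, 3, 0, 0, 0, 4, 2, 0, 1, 1, 3, 0, 0, 0, 6, 3, 0, 0, 0, 2, 0, 1, 0, 0, 0, 0, 0, 0, 0],
  [4, 2, 2, 1, 1, 4, 5, 0, 6, 0, 1, 0, 0, 6, 2, 1, 1, 2, 1, 3, 1, 1, 5, 5, 4, 3, 1, 4, 0, 1, 1, 5, 3, 5, 4, 6, 6, 3, 1, 0, 3, 4, 0, 2, 0],
  [6, 2, 3, 4, 1, 6, 0, 0, 0, 6, 5, 3, 0, 0, 0, 0, 4, 6, 1, 0, 0, 4, 5, 0, 0, 4, 3, 0, 0, 0, 2, 1, 0, 0, 0, 3, 0, 5, 6, 0, 0, 0, 0, 0, 0],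
  [6, 3, 3, 2, 4, 1, 6, 1, 0, 4, 4, 4, 0, 4, 2, 2, 1, 6, 3, 2, 5, 4, 5, 3, 2, 4, 3, 3, 4, 0, 1, 5, 6, 3, 6, 4, 2, 6, 1, 0, 2, 3, 6, 4, 0],
  [6, 3, 2, 0, 5, 5, 0, 0, 0, 6, 6, 2, 0, 2, 0, 0, 5, 6, 6, 0, 0, 1, 6, 0, 4, 2, 1, 0, 0, 0, 0, 3, 0, 3, 0, 2, 0, 6, 5, 0, 0, 0, 0, 0, 0],
  [5, 6, 5, 2, 6, 2, 0, 6, 0, 1, 4, 5, 0, 5, 0, 1, 1, 2, 4, 0, 0, 0, 4, 0, 6, 2, 3, 0, 0, 0, 6, 6, 0, 2, 0, 3, 6, 1, 0, 0, 0, 0, 6, 1, 0],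
  [6, 2, 3, 5, 3, 3, 0, 0, 0, 6, 3, 3, 0, 2, 0, 0, 6, 2, 2, 0, 0, 0, 0, 0, 1, 5, 0, 0, 0, 0, 0, 2, 0, 4, 0, 2, 0, 6, 3, 0, 0, 0, 0, 0, 0],
  [5, 0, 5, 2, 3, 5, 0, 0, 0, 5, 2, 5, 0, 3, 0, 0, 4, 2, 3, 0, 0, 4, 2, 0, 4, 6, 6, 0, 0, 0, 6, 3, 0, 1, 0, 4, 0, 4, 5, 0, 0, 0, 0, 0, 0],
  [4, 3, 5, 6, 6, 3, 2, 6, 2, 1, 6, 0, 4, 0, 0, 6, 1, 1, 1, 1, 0, 0, 6, 5, 0, 5, 6, 2, 4, 1, 1, 6, 1, 0, 0, 4, 2, 3, 5, 1, 0, 0, 2, 6, 1],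
  [3, 1, 1, 6, 6, 5, 1, 1, 0, 6, 4, 0, 4, 1, 4, 2, 5, 0, 6, 4, 4, 1, 3, 2, 0, 5, 0, 3, 1, 0, 6, 4, 1, 3, 2, 6, 5, 3, 5, 0, 6, 4, 4, 1, 0],
  [0, 0, 0, 0, 0, 0, 1, 0, 0, 0, 0, 0, 0, 0, 0, 0, 0, 0, 0, 0, 0, 0, 0, 0, 0, 0, 0, 0, 0, 0, 0, 0, 0, 0, 0, 0, 0, 0, 0, 0, 0, 0, 0, 0, 0],
  [0, 0, 0, 0, 0, 0, 0, 1, 0, 0, 0, 0, 0, 0, 0, 0, 0, 0, 0, 0, 0, 0, 0, 0, 0, 0, 0, 0, 0, 0, 0, 0, 0, 0, 0, 0, 0, 0, 0, 0, 0, 0, 0, 0, 0],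
  [0, 0, 0, 0, 0, 0, 0, 0, 0, 0, 0, 0, 0, 0, 0, 1, 0, 0, 0, 0, 0, 0, 0, 0, 0, 0, 0, 0, 0, 0, 0, 0, 0, 0, 0, 0, 0, 0, 0, 0, 0, 0, 0, 0, 0],
  [2, 2, 1, 6, 0, 1, 2, 6, 1, 0, 1, 6, 0, 4, 5, 6, 1, 4, 4, 4, 6, 0, 2, 2, 1, 6, 4, 3, 0, 6, 3, 3, 3, 4, 3, 6, 1, 1, 1, 0, 4, 3, 6, 5, 6]]

/-- the transposed matrix of the letter 2 -/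
def tC : LM := [
  [0, 0, 0, 0, 0, 0, 0, 0, 0, 0, 0, 0, 0, 0, 0, 0, 0, 0, 0, 0, 0, 0, 0, 0, 0, 0, 0, 0, 0, 0, 0, 0, 0, 1, 0, 0, 0, 0, 0, 0, 0, 0, 0, 0, 0],
  [0, 2, 0, 0, 0, 0, 0, 0, 0, 4, 2, 4, 0, 5, 0, 0, 0, 0, 0, 0, 0, 0, 0, 0, 0, 0, 0, 0, 0, 0, 0, 0, 0, 0, 0, 0, 0, 0, 0, 0, 0, 0, 0, 0, 0],
  [1, 1, 6, 4, 2, 6, 0, 0, 0, 6, 5, 2, 0, 6, 0, 0, 0, 6, 1, 0, 0, 5, 3, 0, 6, 6, 0, 0, 0, 0, 2, 0, 0, 6, 0, 0, 0, 0, 0, 0, 0, 0, 0, 0, 0],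
  [0, 0, 0, 0, 0, 0, 0, 0, 0, 0, 0, 0, 0, 0, 0, 0, 0, 0, 0, 0, 0, 0, 0, 0, 0, 0, 0, 0, 0, 0, 1, 0, 0, 0, 0, 0, 0, 0, 0, 0, 0, 0, 0, 0, 0],
  [0, 0, 0, 0, 0, 0, 0, 0, 0, 0, 0, 0, 0, 0, 0, 0, 0, 0, 0, 0, 0, 0, 0, 0, 0, 0, 0, 0, 0, 0, 0, 1, 0, 0, 0, 0, 0, 0, 0, 0, 0, 0, 0, 0, 0],
  [0, 0, 0, 0, 0, 0, 0, 0, 0, 0, 0, 0, 0, 0, 0, 0, 0, 0, 0, 0, 0, 0, 0, 0, 0, 0, 0, 0, 0, 0, 0, 0, 0, 0, 0, 1, 0, 0, 0, 0, 0, 0, 0, 0, 0],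
  [0, 0, 0, 0, 0, 0, 0, 0, 0, 0, 0, 0, 0, 0, 0, 0, 0, 0, 0, 0, 0, 0, 0, 0, 0, 0, 0, 0, 0, 0, 0, 0, 0, 0, 1, 0, 0, 0, 0, 0, 0, 0, 0, 0, 0],
  [0, 0, 0, 0, 0, 0, 0, 0, 0, 0, 0, 0, 0, 0, 0, 0, 0, 0, 0, 0, 0, 0, 0, 0, 0, 0, 0, 0, 0, 0, 0, 0, 1, 0, 0, 0, 0, 0, 0, 0, 0, 0, 0, 0, 0],
  [5, 5, 4, 1, 6, 3, 6, 6, 6, 6, 2, 1, 5, 5, 0, 6, 6, 0, 2, 6, 5, 5, 1, 0, 1, 1, 0, 2, 1, 0, 5, 3, 2, 0, 6, 1, 5, 6, 3, 0, 0, 0, 0, 0, 0],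
  [0, 4, 0, 0, 0, 0, 0, 0, 0, 4, 0, 1, 0, 3, 0, 0, 0, 0, 0, 0, 0, 0, 0, 0, 0, 0, 0, 0, 0, 0, 0, 0, 0, 0, 0, 0, 0, 0, 0, 0, 0, 0, 0, 0, 0],
  [0, 0, 0, 0, 0, 0, 0, 0, 0, 1, 0, 6, 0, 4, 0, 0, 0, 0, 0, 0, 0, 0, 0, 0, 0, 0, 0, 0, 0, 0, 0, 0, 0, 0, 0, 0, 0, 0, 0, 0, 0, 0, 0, 0, 0],
  [0, 5, 0, 0, 0, 0, 0, 0, 0, 6, 5, 4, 0, 1, 0, 0, 0, 0, 0, 0, 0, 0, 0, 0, 0, 0, 0, 0, 0, 0, 0, 0, 0, 0, 0, 0, 0, 0, 0, 0, 0, 0, 0, 0, 0],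
  [0, 6, 0, 0, 0, 0, 0, 0, 0, 4, 2, 2, 5, 6, 0, 0, 0, 0, 0, 5, 0, 0, 0, 0, 0, 0, 0, 0, 0, 0, 0, 0, 0, 0, 0, 0, 0, 0, 0, 0, 0, 0, 0, 0, 0],
  [0, 2, 0, 0, 0, 0, 0, 0, 0, 4, 5, 6, 0, 3, 0, 0, 0, 0, 0, 0, 0, 0, 0, 0, 0, 0, 0, 0, 0, 0, 0, 0, 0, 0, 0, 0, 0, 0, 0, 0, 0, 0, 0, 0, 0],
  [0, 6, 0, 0, 0, 0, 0, 0, 0, 1, 6, 5, 6, 1, 6, 0, 0, 0, 0, 5, 0, 0, 0, 0, 0, 0, 0, 0, 0, 0, 0, 0, 0, 0, 0, 0, 0, 0, 0, 0, 0, 0, 0, 0, 0],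
  [0, 0, 0, 0, 0, 0, 0, 0, 0, 0, 0, 0, 0, 0, 0, 0, 0, 0, 0, 0, 0, 0, 0, 0, 0, 0, 0, 0, 0, 0, 0, 0, 0, 0, 0, 0, 1, 0, 0, 0, 0, 0, 0, 0, 0],
  [0, 0, 4, 6, 4, 6, 0, 0, 0, 5, 1, 3, 0, 5, 0, 0, 5, 5, 2, 0, 0, 4, 2, 0, 0, 0, 0, 0, 0, 0, 3, 2, 0, 4, 0, 0, 0, 4, 1, 0, 0, 0, 0, 0, 0],
  [5, 4, 2, 4, 2, 5, 0, 0, 0, 6, 1, 4, 0, 2, 0, 0, 3, 2, 6, 0, 0, 2, 1, 0, 1, 1, 0, 0, 0, 0, 0, 0, 0, 5, 0, 6, 0, 3, 6, 0, 0, 0, 0, 0, 0],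
  [4, 2, 0, 4, 6, 2, 0, 0, 0, 0, 6, 3, 0, 4, 0, 0, 4, 2, 4, 0, 0, 0, 3, 0, 1, 1, 0, 0, 0, 0, 1, 4, 0, 4, 0, 3, 0, 0, 3, 0, 0, 0, 0, 0, 0],
  [0, 5, 0, 0, 0, 0, 0, 0, 0, 0, 3, 5, 5, 1, 0, 0, 0, 0, 0, 2, 0, 0, 0, 0, 0, 0, 0, 0, 0, 0, 0, 0, 0, 0, 0, 0, 0, 0, 0, 0, 0, 0, 0, 0, 0],
  [6, 5, 0, 6, 6, 4, 0, 5, 0, 0, 4, 5, 4, 1, 0, 3, 0, 3, 4, 5, 1, 0, 5, 0, 3, 3, 0, 6, 6, 0, 4, 1, 2, 1, 0, 3, 4, 0, 0, 0, 0, 0, 0, 0, 0],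
  [6, 6, 4, 2, 2, 6, 0, 0, 0, 0, 0, 6, 0, 4, 0, 0, 0, 0, 0, 0, 0, 5, 0, 0, 1, 1, 0, 0, 0, 0, 5, 1, 0, 1, 0, 3, 0, 0, 0, 0, 0, 0, 0, 0, 0],
  [5, 3, 5, 1, 6, 2, 0, 0, 0, 6, 3, 1, 0, 6, 0, 0, 2, 1, 2, 0, 0, 5, 1, 0, 0, 0, 0, 0, 0, 0, 0, 1, 0, 5, 0, 1, 0, 1, 1, 0, 0, 0, 0, 0, 0],
  [5, 2, 1, 1, 4, 5, 0, 5, 0, 1, 0, 1, 6, 3, 0, 6, 4, 1, 3, 1, 5, 2, 2, 6, 6, 6, 0, 6, 1, 0, 6, 5, 1, 5, 0, 1, 5, 0, 0, 0, 0, 0, 0, 0, 0],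
  [0, 0, 4, 2, 3, 2, 0, 0, 0, 4, 0, 3, 0, 2, 0, 0, 0, 2, 5, 0, 0, 4, 1, 0, 2, 5, 6, 0, 0, 0, 0, 0, 0, 0, 0, 0, 0, 0, 0, 0, 0, 0, 0, 0, 0],
  [0, 0, 1, 2, 6, 4, 0, 0, 0, 1, 2, 6, 0, 4, 0, 0, 0, 2, 5, 0, 0, 1, 1, 0, 4, 1, 1, 0, 0, 0, 0, 0, 0, 0, 0, 0, 0, 0, 0, 0, 0, 0, 0, 0, 0],
  [0, 0, 6, 4, 1, 3, 0, 0, 0, 6, 6, 1, 0, 3, 0, 0, 0, 4, 3, 0, 0, 6, 2, 0, 2, 1, 3, 0, 0, 0, 0, 0, 0, 0, 0, 0, 0, 0, 0, 0, 0, 0, 0, 0, 0],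
  [0, 0, 6, 5, 1, 3, 0, 0, 0, 6, 5, 1, 0, 3, 0, 0, 0, 5, 2, 0, 0, 6, 6, 0, 4, 4, 0, 1, 0, 0, 0, 0, 0, 0, 0, 0, 0, 0, 0, 0, 0, 0, 0, 0, 0],
  [0, 0, 5, 1, 2, 6, 0, 0, 0, 5, 5, 2, 0, 6, 0, 0, 0, 1, 6, 0, 0, 5, 4, 0, 3, 3, 0, 5, 6, 0, 0, 0, 0, 0, 0, 0, 0, 0, 0, 0, 0, 0, 0, 0, 0],
  [0, 0, 3, 0, 4, 5, 0, 0, 0, 3, 5, 4, 0, 5, 0, 0, 0, 0, 0, 0, 0, 3, 0, 0, 5, 4, 4, 5, 0, 6, 0, 0, 0, 0, 0, 0, 0, 0, 0, 0, 0, 0, 0, 0, 0],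
  [0, 0, 0, 1, 0, 0, 0, 0, 0, 0, 0, 0, 0, 0, 0, 0, 0, 0, 0, 0, 0, 0, 0, 0, 0, 0, 0, 0, 0, 0, 0, 0, 0, 0, 0, 0, 0, 0, 0, 0, 0, 0, 0, 0, 0],
  [0, 0, 0, 0, 1, 0, 0, 0, 0, 0, 0, 0, 0, 0, 0, 0, 0, 0, 0, 0, 0, 0, 0, 0, 0, 0, 0, 0, 0, 0, 0, 0, 0, 0, 0, 0, 0, 0, 0, 0, 0, 0, 0, 0, 0],
  [0, 0, 0, 0, 0, 0, 0, 1, 0, 0, 0, 0, 0, 0, 0, 0, 0, 0, 0, 0, 0, 0, 0, 0, 0, 0, 0, 0, 0, 0, 0, 0, 0, 0, 0, 0, 0, 0, 0, 0, 0, 0, 0, 0, 0],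
  [1, 0, 0, 0, 0, 0, 0, 0, 0, 0, 0, 0, 0, 0, 0, 0, 0, 0, 0, 0, 0, 0, 0, 0, 0, 0, 0, 0, 0, 0, 0, 0, 0, 0, 0, 0, 0, 0, 0, 0, 0, 0, 0, 0, 0],
  [0, 0, 0, 0, 0, 0, 1, 0, 0, 0, 0, 0, 0, 0, 0, 0, 0, 0, 0, 0, 0, 0, 0, 0, 0, 0, 0, 0, 0, 0, 0, 0, 0, 0, 0, 0, 0, 0, 0, 0, 0, 0, 0, 0, 0],
  [0, 0, 0, 0, 0, 1, 0, 0, 0, 0, 0, 0, 0, 0, 0, 0, 0, 0, 0, 0, 0, 0, 0, 0, 0, 0, 0, 0, 0, 0, 0, 0, 0, 0, 0, 0, 0, 0, 0, 0, 0, 0, 0, 0, 0],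
  [0, 0, 0, 0, 0, 0, 0, 0, 0, 0, 0, 0, 0, 0, 0, 1, 0, 0, 0, 0, 0, 0, 0, 0, 0, 0, 0, 0, 0, 0, 0, 0, 0, 0, 0, 0, 0, 0, 0, 0, 0, 0, 0, 0, 0],
  [6, 6, 2, 1, 4, 5, 0, 0, 0, 2, 1, 4, 0, 5, 0, 0, 0, 1, 6, 0, 0, 2, 4, 0, 1, 1, 0, 0, 0, 0, 0, 1, 0, 1, 0, 3, 0, 1, 0, 0, 0, 0, 0, 0, 0],
  [6, 6, 3, 0, 3, 2, 0, 0, 0, 3, 6, 3, 0, 2, 0, 0, 5, 1, 4, 0, 0, 3, 5, 0, 3, 3, 0, 0, 0, 0, 5, 3, 0, 3, 0, 2, 0, 1, 6, 0, 0, 0, 0, 0, 0],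
  [2, 2, 3, 6, 6, 4, 0, 0, 4, 3, 4, 6, 0, 4, 0, 0, 5, 2, 0, 0, 6, 3, 6, 2, 0, 1, 2, 1, 5, 3, 2, 4, 6, 0, 4, 4, 2, 6, 2, 3, 3, 0, 0, 0, 0],
  [5, 5, 0, 6, 5, 1, 0, 0, 2, 0, 3, 5, 0, 1, 0, 0, 4, 4, 2, 0, 3, 5, 2, 1, 5, 2, 1, 4, 6, 5, 4, 0, 3, 5, 2, 3, 1, 3, 1, 2, 4, 0, 0, 0, 0],
  [2, 5, 6, 6, 2, 5, 3, 5, 3, 2, 2, 6, 3, 3, 3, 4, 0, 2, 0, 2, 5, 3, 6, 4, 3, 5, 4, 2, 3, 4, 4, 4, 2, 6, 2, 6, 6, 2, 2, 1, 0, 6, 4, 6, 6],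
  [0, 0, 0, 0, 0, 0, 0, 0, 0, 0, 0, 0, 0, 0, 0, 0, 0, 0, 0, 0, 0, 0, 0, 0, 0, 0, 0, 0, 0, 0, 0, 0, 0, 0, 0, 0, 0, 0, 0, 0, 0, 0, 0, 0, 1],
  [5, 2, 3, 6, 1, 2, 3, 4, 5, 3, 4, 5, 1, 0, 1, 3, 4, 2, 1, 2, 6, 3, 1, 1, 5, 4, 0, 5, 1, 2, 2, 4, 1, 3, 2, 6, 6, 3, 4, 2, 3, 0, 2, 1, 5],
  [0, 0, 0, 0, 0, 0, 0, 0, 0, 0, 0, 0, 0, 0, 0, 0, 0, 0, 0, 0, 0, 0, 0, 0, 0, 0, 0, 0, 0, 0, 0, 0, 0, 0, 0, 0, 0, 0, 0, 0, 0, 0, 1, 0, 0]]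

/-- the transposed matrix of the letter 3 -/
def tD : LM := [
  [0, 0, 0, 0, 0, 0, 0, 0, 0, 0, 0, 0, 0, 0, 0, 0, 1, 0, 0, 0, 0, 0, 0, 0, 0, 0, 0, 0, 0, 0, 0, 0, 0, 0, 0, 0, 0, 0, 0, 0, 0, 0, 0, 0, 0],
  [0, 5, 0, 0, 0, 0, 0, 0, 0, 2, 5, 1, 0, 4, 0, 0, 0, 0, 0, 0, 0, 0, 0, 0, 0, 0, 0, 0, 0, 0, 0, 0, 0, 0, 0, 0, 0, 0, 0, 0, 0, 0, 0, 0, 0],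
  [0, 0, 0, 0, 0, 0, 0, 0, 0, 0, 0, 0, 0, 0, 0, 0, 0, 1, 0, 0, 0, 0, 0, 0, 0, 0, 0, 0, 0, 0, 0, 0, 0, 0, 0, 0, 0, 0, 0, 0, 0, 0, 0, 0, 0],
  [0, 0, 0, 0, 0, 0, 0, 0, 0, 0, 0, 0, 0, 0, 0, 0, 0, 0, 0, 0, 0, 1, 0, 0, 0, 0, 0, 0, 0, 0, 0, 0, 0, 0, 0, 0, 0, 0, 0, 0, 0, 0, 0, 0, 0],
  [0, 0, 0, 0, 0, 0, 0, 0, 0, 0, 0, 0, 0, 0, 0, 0, 0, 0, 1, 0, 0, 0, 0, 0, 0, 0, 0, 0, 0, 0, 0, 0, 0, 0, 0, 0, 0, 0, 0, 0, 0, 0, 0, 0, 0],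
  [0, 0, 0, 0, 0, 0, 0, 0, 0, 0, 0, 0, 0, 0, 0, 0, 0, 0, 0, 0, 0, 0, 1, 0, 0, 0, 0, 0, 0, 0, 0, 0, 0, 0, 0, 0, 0, 0, 0, 0, 0, 0, 0, 0, 0],
  [0, 0, 0, 0, 0, 0, 0, 0, 1, 0, 0, 0, 0, 0, 0, 0, 0, 0, 0, 0, 0, 0, 0, 0, 0, 0, 0, 0, 0, 0, 0, 0, 0, 0, 0, 0, 0, 0, 0, 0, 0, 0, 0, 0, 0],
  [0, 0, 0, 0, 0, 0, 0, 0, 0, 0, 0, 0, 0, 0, 0, 0, 0, 0, 0, 0, 1, 0, 0, 0, 0, 0, 0, 0, 0, 0, 0, 0, 0, 0, 0, 0, 0, 0, 0, 0, 0, 0, 0, 0, 0],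
  [0, 0, 0, 0, 0, 0, 1, 0, 0, 0, 0, 0, 0, 0, 0, 0, 0, 0, 0, 0, 0, 0, 0, 0, 0, 0, 0, 0, 0, 0, 0, 0, 0, 0, 0, 0, 0, 0, 0, 0, 0, 0, 0, 0, 0],
  [0, 1, 0, 0, 0, 0, 0, 0, 0, 2, 3, 1, 0, 2, 0, 0, 0, 0, 0, 0, 0, 0, 0, 0, 0, 0, 0, 0, 0, 0, 0, 0, 0, 0, 0, 0, 0, 0, 0, 0, 0, 0, 0, 0, 0],
  [0, 0, 0, 0, 0, 0, 0, 0, 0, 6, 3, 1, 0, 3, 0, 0, 0, 0, 0, 0, 0, 0, 0, 0, 0, 0, 0, 0, 0, 0, 0, 0, 0, 0, 0, 0, 0, 0, 0, 0, 0, 0, 0, 0, 0],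
  [0, 5, 0, 0, 0, 0, 0, 0, 0, 5, 6, 0, 0, 5, 0, 0, 0, 0, 0, 0, 0, 0, 0, 0, 0, 0, 0, 0, 0, 0, 0, 0, 0, 0, 0, 0, 0, 0, 0, 0, 0, 0, 0, 0, 0],
  [0, 4, 0, 0, 0, 0, 0, 0, 0, 5, 2, 6, 2, 4, 0, 0, 0, 0, 0, 4, 0, 0, 0, 0, 0, 0, 0, 0, 0, 0, 0, 0, 0, 0, 0, 0, 0, 0, 0, 0, 0, 0, 0, 0, 0],
  [0, 1, 0, 0, 0, 0, 0, 0, 0, 0, 1, 4, 0, 3, 0, 0, 0, 0, 0, 0, 0, 0, 0, 0, 0, 0, 0, 0, 0, 0, 0, 0, 0, 0, 0, 0, 0, 0, 0, 0, 0, 0, 0, 0, 0],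
  [0, 6, 0, 0, 0, 0, 0, 0, 0, 0, 4, 2, 2, 5, 6, 0, 0, 0, 0, 5, 0, 0, 0, 0, 0, 0, 0, 0, 0, 0, 0, 0, 0, 0, 0, 0, 0, 0, 0, 0, 0, 0, 0, 0, 0],
  [0, 0, 0, 0, 0, 0, 0, 0, 0, 0, 0, 0, 0, 0, 0, 0, 0, 0, 0, 0, 0, 0, 0, 1, 0, 0, 0, 0, 0, 0, 0, 0, 0, 0, 0, 0, 0, 0, 0, 0, 0, 0, 0, 0, 0],
  [1, 0, 0, 0, 0, 0, 0, 0, 0, 0, 0, 0, 0, 0, 0, 0, 0, 0, 0, 0, 0, 0, 0, 0, 0, 0, 0, 0, 0, 0, 0, 0, 0, 0, 0, 0, 0, 0, 0, 0, 0, 0, 0, 0, 0],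
  [0, 0, 1, 0, 0, 0, 0, 0, 0, 0, 0, 0, 0, 0, 0, 0, 0, 0, 0, 0, 0, 0, 0, 0, 0, 0, 0, 0, 0, 0, 0, 0, 0, 0, 0, 0, 0, 0, 0, 0, 0, 0, 0, 0, 0],
  [0, 0, 0, 0, 1, 0, 0, 0, 0, 0, 0, 0, 0, 0, 0, 0, 0, 0, 0, 0, 0, 0, 0, 0, 0, 0, 0, 0, 0, 0, 0, 0, 0, 0, 0, 0, 0, 0, 0, 0, 0, 0, 0, 0, 0],
  [0, 6, 0, 0, 0, 0, 0, 0, 0, 0, 5, 6, 1, 4, 0, 0, 0, 0, 0, 5, 0, 0, 0, 0, 0, 0, 0, 0, 0, 0, 0, 0, 0, 0, 0, 0, 0, 0, 0, 0, 0, 0, 0, 0, 0],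
  [0, 0, 0, 0, 0, 0, 0, 1, 0, 0, 0, 0, 0, 0, 0, 0, 0, 0, 0, 0, 0, 0, 0, 0, 0, 0, 0, 0, 0, 0, 0, 0, 0, 0, 0, 0, 0, 0, 0, 0, 0, 0, 0, 0, 0],
  [0, 0, 0, 1, 0, 0, 0, 0, 0, 0, 0, 0, 0, 0, 0, 0, 0, 0, 0, 0, 0, 0, 0, 0, 0, 0, 0, 0, 0, 0, 0, 0, 0, 0, 0, 0, 0, 0, 0, 0, 0, 0, 0, 0, 0],
  [0, 0, 0, 0, 0, 1, 0, 0, 0, 0, 0, 0, 0, 0, 0, 0, 0, 0, 0, 0, 0, 0, 0, 0, 0, 0, 0, 0, 0, 0, 0, 0, 0, 0, 0, 0, 0, 0, 0, 0, 0, 0, 0, 0, 0],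
  [0, 0, 0, 0, 0, 0, 0, 0, 0, 0, 0, 0, 0, 0, 0, 1, 0, 0, 0, 0, 0, 0, 0, 0, 0, 0, 0, 0, 0, 0, 0, 0, 0, 0, 0, 0, 0, 0, 0, 0, 0, 0, 0, 0, 0],
  [0, 0, 5, 5, 2, 6, 0, 0, 0, 5, 1, 2, 0, 6, 0, 0, 0, 5, 2, 0, 0, 5, 6, 0, 2, 6, 5, 0, 0, 0, 0, 0, 0, 0, 0, 0, 0, 0, 0, 0, 0, 0, 0, 0, 0],
  [0, 0, 3, 1, 4, 5, 0, 0, 0, 3, 4, 4, 0, 5, 0, 0, 0, 1, 6, 0, 0, 3, 4, 0, 6, 2, 2, 0, 0, 0, 0, 0, 0, 0, 0, 0, 0, 0, 0, 0, 0, 0, 0, 0, 0],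
  [0, 0, 6, 0, 1, 3, 0, 0, 0, 6, 3, 1, 0, 3, 0, 0, 0, 0, 0, 0, 0, 6, 0, 0, 2, 5, 4, 0, 0, 0, 0, 0, 0, 0, 0, 0, 0, 0, 0, 0, 0, 0, 0, 0, 0],
  [0, 0, 4, 1, 3, 2, 0, 0, 0, 4, 1, 3, 0, 2, 0, 0, 0, 1, 6, 0, 0, 4, 4, 0, 0, 0, 0, 2, 4, 0, 0, 0, 0, 0, 0, 0, 0, 0, 0, 0, 0, 0, 0, 0, 0],
  [0, 0, 3, 2, 4, 5, 0, 0, 0, 3, 3, 4, 0, 5, 0, 0, 0, 2, 5, 0, 0, 3, 1, 0, 0, 0, 0, 1, 5, 0, 0, 0, 0, 0, 0, 0, 0, 0, 0, 0, 0, 0, 0, 0, 0],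
  [0, 0, 0, 5, 0, 0, 0, 0, 0, 0, 2, 0, 0, 0, 0, 0, 0, 5, 2, 0, 0, 0, 6, 0, 6, 5, 3, 2, 5, 6, 0, 0, 0, 0, 0, 0, 0, 0, 0, 0, 0, 0, 0, 0, 0],
  [1, 1, 3, 5, 5, 1, 0, 0, 0, 0, 0, 1, 0, 3, 0, 0, 0, 0, 0, 0, 0, 2, 0, 0, 6, 6, 0, 0, 0, 0, 2, 6, 0, 6, 0, 4, 0, 0, 0, 0, 0, 0, 0, 0, 0],
  [4, 5, 2, 4, 4, 2, 0, 0, 0, 1, 0, 3, 0, 3, 0, 0, 6, 0, 4, 0, 0, 3, 1, 0, 4, 4, 0, 0, 0, 0, 3, 5, 0, 4, 0, 5, 0, 5, 5, 0, 0, 0, 0, 0, 0],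
  [5, 3, 4, 1, 1, 3, 0, 6, 0, 4, 3, 6, 6, 4, 0, 4, 2, 4, 5, 5, 5, 0, 1, 5, 6, 6, 0, 3, 0, 0, 1, 1, 6, 1, 0, 3, 4, 0, 0, 0, 0, 0, 0, 0, 0],
  [0, 5, 2, 6, 0, 6, 0, 0, 0, 0, 6, 1, 0, 6, 0, 0, 6, 2, 3, 0, 0, 4, 2, 0, 5, 5, 0, 0, 0, 0, 2, 0, 0, 1, 0, 6, 0, 2, 1, 0, 0, 0, 0, 0, 0],
  [5, 1, 0, 3, 1, 2, 6, 6, 6, 4, 6, 1, 2, 1, 0, 5, 1, 5, 3, 5, 6, 4, 2, 5, 5, 5, 0, 2, 5, 0, 1, 3, 0, 5, 6, 1, 0, 2, 4, 0, 0, 0, 0, 0, 0],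
  [4, 4, 5, 1, 0, 6, 0, 0, 0, 4, 1, 4, 0, 6, 0, 0, 1, 3, 6, 0, 0, 5, 3, 0, 3, 3, 0, 0, 0, 0, 4, 0, 0, 0, 0, 6, 0, 0, 5, 0, 0, 0, 0, 0, 0],
  [0, 5, 4, 0, 3, 2, 0, 2, 0, 0, 4, 5, 6, 1, 0, 5, 6, 5, 1, 3, 5, 5, 3, 2, 1, 1, 0, 1, 4, 0, 6, 1, 0, 1, 0, 3, 1, 0, 0, 0, 0, 0, 0, 0, 0],
  [3, 3, 4, 0, 6, 4, 0, 0, 0, 4, 6, 6, 0, 4, 0, 0, 2, 4, 5, 0, 0, 0, 1, 0, 2, 2, 0, 0, 0, 0, 5, 2, 0, 2, 0, 6, 0, 6, 5, 0, 0, 0, 0, 0, 0],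
  [4, 4, 3, 0, 1, 3, 0, 0, 0, 3, 1, 1, 0, 3, 0, 0, 5, 3, 2, 0, 0, 0, 6, 0, 5, 5, 0, 0, 0, 0, 2, 5, 0, 5, 0, 1, 0, 0, 1, 0, 0, 0, 0, 0, 0],
  [3, 3, 5, 4, 5, 1, 0, 0, 1, 5, 6, 5, 0, 1, 0, 0, 0, 5, 3, 0, 5, 6, 0, 4, 4, 6, 4, 2, 3, 6, 2, 5, 5, 4, 1, 6, 4, 5, 4, 1, 6, 0, 0, 0, 0],
  [5, 5, 1, 2, 4, 5, 0, 0, 0, 1, 4, 4, 0, 5, 0, 0, 2, 2, 0, 0, 0, 3, 0, 0, 0, 0, 0, 0, 0, 0, 4, 0, 0, 0, 0, 0, 0, 0, 5, 0, 6, 0, 0, 0, 0],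
  [2, 3, 4, 5, 4, 1, 5, 5, 5, 1, 4, 5, 4, 5, 4, 5, 2, 4, 6, 0, 3, 3, 4, 0, 1, 3, 6, 0, 5, 4, 4, 6, 0, 2, 0, 2, 0, 6, 2, 0, 0, 6, 2, 5, 0],
  [6, 5, 3, 6, 1, 1, 6, 5, 6, 3, 3, 5, 1, 2, 6, 4, 2, 5, 3, 5, 2, 1, 2, 0, 5, 3, 3, 2, 2, 6, 5, 0, 0, 0, 0, 1, 0, 1, 2, 0, 0, 0, 2, 4, 0],
  [2, 5, 3, 4, 0, 3, 6, 4, 6, 1, 4, 0, 0, 2, 2, 5, 3, 2, 0, 2, 3, 4, 6, 6, 2, 2, 6, 5, 1, 2, 4, 0, 0, 0, 0, 5, 0, 5, 3, 0, 0, 0, 1, 5, 0],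
  [1, 3, 6, 2, 3, 1, 6, 4, 5, 1, 6, 5, 1, 5, 5, 3, 4, 6, 0, 0, 4, 4, 3, 0, 0, 1, 3, 2, 3, 2, 3, 5, 3, 4, 2, 1, 1, 3, 2, 0, 5, 4, 6, 2, 1]]

/-- the transposed matrix of the letter 4 -/
def tE : LM := [
  [6, 3, 4, 2, 1, 0, 0, 0, 6, 4, 2, 5, 1, 2, 1, 0, 6, 5, 2, 3, 1, 1, 1, 2, 5, 3, 0, 4, 2, 1, 5, 4, 2, 6, 2, 5, 6, 1, 5, 2, 2, 0, 4, 6, 6],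
  [0, 4, 0, 0, 0, 0, 0, 0, 0, 4, 4, 1, 5, 3, 0, 0, 0, 0, 0, 4, 0, 0, 0, 0, 0, 0, 0, 0, 0, 0, 0, 0, 0, 0, 0, 0, 0, 0, 0, 0, 0, 0, 0, 0, 0],
  [1, 6, 3, 0, 6, 0, 0, 2, 1, 5, 6, 2, 1, 5, 6, 3, 1, 1, 6, 5, 3, 1, 2, 5, 0, 2, 0, 2, 0, 6, 0, 5, 1, 3, 5, 1, 3, 6, 2, 4, 5, 0, 3, 1, 1],
  [6, 6, 2, 4, 4, 5, 0, 3, 3, 6, 1, 0, 1, 0, 0, 1, 2, 3, 2, 5, 1, 2, 0, 1, 6, 5, 5, 0, 1, 4, 1, 3, 2, 0, 3, 3, 5, 1, 5, 1, 4, 0, 0, 0, 0],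
  [5, 0, 0, 4, 0, 3, 3, 3, 0, 0, 4, 6, 2, 6, 6, 1, 0, 3, 6, 1, 4, 6, 1, 1, 6, 1, 0, 4, 3, 4, 4, 6, 2, 1, 5, 4, 5, 3, 6, 5, 4, 6, 4, 6, 6],
  [3, 3, 3, 3, 2, 6, 6, 3, 2, 3, 4, 3, 5, 1, 0, 3, 4, 3, 4, 2, 3, 6, 2, 6, 0, 1, 2, 4, 6, 6, 4, 6, 5, 3, 4, 3, 3, 0, 3, 3, 1, 5, 2, 3, 3],
  [2, 0, 0, 5, 4, 6, 5, 6, 5, 1, 0, 0, 6, 4, 3, 0, 0, 1, 1, 2, 6, 2, 6, 5, 2, 1, 1, 4, 2, 5, 3, 3, 6, 4, 0, 4, 2, 3, 1, 3, 0, 4, 5, 2, 3],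
  [5, 1, 6, 4, 6, 4, 0, 5, 5, 1, 5, 0, 0, 0, 0, 5, 1, 3, 3, 6, 6, 1, 6, 4, 5, 1, 6, 2, 5, 2, 3, 0, 4, 2, 5, 4, 3, 4, 6, 0, 2, 0, 0, 0, 0],
  [5, 2, 2, 3, 5, 3, 0, 5, 4, 2, 5, 5, 5, 6, 5, 2, 0, 1, 6, 3, 5, 2, 2, 4, 0, 4, 5, 3, 6, 3, 4, 2, 0, 1, 1, 3, 6, 6, 4, 5, 1, 0, 5, 3, 0],
  [0, 4, 0, 0, 0, 0, 0, 0, 0, 5, 6, 5, 4, 1, 0, 0, 0, 0, 0, 6, 0, 0, 0, 0, 0, 0, 0, 0, 0, 0, 0, 0, 0, 0, 0, 0, 0, 0, 0, 0, 0, 0, 0, 0, 0],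
  [0, 6, 0, 0, 0, 0, 0, 0, 0, 2, 3, 4, 6, 5, 0, 0, 0, 0, 0, 6, 0, 0, 0, 0, 0, 0, 0, 0, 0, 0, 0, 0, 0, 0, 0, 0, 0, 0, 0, 0, 0, 0, 0, 0, 0],
  [0, 1, 0, 0, 0, 0, 0, 0, 0, 1, 2, 6, 6, 0, 3, 0, 0, 0, 0, 5, 0, 0, 0, 0, 0, 0, 0, 0, 0, 0, 0, 0, 0, 0, 0, 0, 0, 0, 0, 0, 0, 0, 0, 0, 0],
  [0, 4, 0, 0, 0, 0, 0, 0, 0, 6, 1, 5, 3, 1, 0, 0, 0, 0, 0, 3, 0, 0, 0, 0, 0, 0, 0, 0, 0, 0, 0, 0, 0, 0, 0, 0, 0, 0, 0, 0, 0, 0, 0, 0, 0],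
  [0, 2, 0, 0, 0, 0, 0, 0, 0, 2, 5, 0, 5, 6, 6, 0, 0, 0, 0, 5, 0, 0, 0, 0, 0, 0, 0, 0, 0, 0, 0, 0, 0, 0, 0, 0, 0, 0, 0, 0, 0, 0, 0, 0, 0],
  [0, 0, 0, 0, 0, 0, 0, 0, 0, 2, 2, 5, 1, 1, 1, 0, 0, 0, 0, 1, 0, 0, 0, 0, 0, 0, 0, 0, 0, 0, 0, 0, 0, 0, 0, 0, 0, 0, 0, 0, 0, 0, 0, 0, 0],
  [1, 2, 4, 3, 4, 5, 0, 0, 0, 2, 1, 0, 1, 0, 0, 2, 0, 4, 3, 0, 1, 5, 2, 4, 6, 6, 0, 4, 2, 0, 1, 4, 4, 4, 0, 5, 4, 0, 0, 1, 0, 0, 0, 0, 0],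
  [2, 3, 0, 0, 3, 4, 0, 4, 6, 2, 4, 3, 2, 6, 1, 4, 4, 3, 5, 2, 0, 0, 6, 2, 6, 6, 1, 0, 1, 3, 3, 2, 2, 3, 6, 4, 4, 6, 0, 5, 4, 1, 4, 5, 2],
  [5, 0, 4, 3, 0, 5, 0, 0, 6, 5, 0, 0, 1, 3, 6, 1, 2, 1, 2, 4, 2, 2, 5, 0, 6, 2, 5, 6, 2, 6, 0, 5, 0, 6, 6, 0, 0, 5, 6, 2, 5, 6, 3, 2, 5],
  [6, 0, 6, 4, 1, 0, 0, 1, 0, 1, 1, 0, 1, 1, 0, 1, 6, 2, 6, 2, 3, 1, 1, 6, 3, 6, 5, 5, 5, 3, 5, 2, 0, 4, 6, 3, 3, 4, 3, 1, 3, 5, 0, 2, 1],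
  [0, 4, 0, 0, 0, 0, 0, 0, 0, 6, 6, 5, 4, 1, 0, 0, 0, 0, 0, 5, 0, 0, 0, 0, 0, 0, 0, 0, 0, 0, 0, 0, 0, 0, 0, 0, 0, 0, 0, 0, 0, 0, 0, 0, 0],
  [2, 6, 0, 6, 2, 6, 0, 6, 4, 3, 1, 3, 2, 2, 0, 6, 1, 4, 1, 2, 1, 1, 2, 5, 2, 3, 2, 1, 6, 3, 5, 4, 5, 0, 4, 4, 3, 6, 2, 3, 3, 0, 0, 0, 0],
  [4, 3, 1, 6, 3, 2, 0, 4, 4, 3, 3, 0, 3, 0, 0, 2, 5, 6, 3, 5, 3, 2, 1, 3, 1, 2, 2, 4, 4, 3, 5, 6, 1, 2, 4, 3, 0, 6, 2, 0, 3, 0, 0, 0, 0],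
  [5, 6, 0, 2, 2, 4, 0, 0, 1, 0, 1, 5, 4, 4, 2, 1, 0, 2, 6, 6, 3, 0, 2, 2, 0, 5, 3, 0, 1, 2, 6, 0, 2, 3, 6, 5, 0, 0, 4, 6, 4, 5, 1, 0, 6],
  [5, 3, 0, 0, 5, 1, 0, 0, 2, 3, 2, 0, 1, 0, 0, 1, 6, 3, 5, 5, 5, 6, 4, 1, 1, 5, 1, 0, 3, 5, 0, 3, 3, 1, 2, 5, 1, 3, 1, 4, 5, 0, 0, 0, 0],
  [0, 0, 6, 5, 6, 2, 3, 6, 5, 4, 0, 1, 6, 4, 5, 4, 6, 5, 0, 4, 4, 1, 5, 2, 1, 5, 0, 2, 2, 5, 2, 4, 1, 5, 0, 2, 1, 5, 4, 1, 0, 2, 2, 1, 3],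
  [5, 5, 1, 0, 6, 6, 4, 2, 0, 4, 3, 3, 1, 1, 2, 3, 3, 3, 6, 1, 3, 6, 3, 6, 1, 0, 6, 6, 5, 4, 3, 4, 4, 5, 5, 5, 0, 6, 2, 1, 2, 5, 5, 6, 4],
  [2, 4, 0, 6, 5, 6, 1, 4, 1, 6, 2, 4, 1, 6, 4, 3, 3, 1, 2, 1, 0, 3, 5, 1, 6, 3, 0, 1, 1, 0, 2, 0, 1, 5, 4, 6, 6, 5, 2, 5, 3, 3, 2, 5, 0],
  [3, 1, 2, 5, 1, 3, 0, 6, 0, 3, 3, 5, 6, 1, 0, 0, 4, 1, 3, 4, 5, 6, 2, 3, 1, 1, 0, 2, 6, 0, 4, 4, 0, 4, 0, 5, 4, 0, 0, 4, 0, 0, 0, 0, 0],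
  [6, 5, 3, 6, 3, 2, 0, 5, 4, 0, 5, 5, 2, 1, 0, 3, 4, 3, 5, 1, 3, 2, 0, 3, 0, 1, 2, 3, 0, 3, 3, 5, 2, 1, 4, 0, 3, 6, 2, 6, 3, 0, 0, 0, 0],
  [4, 0, 1, 1, 3, 4, 1, 5, 2, 1, 1, 6, 4, 3, 4, 2, 6, 2, 5, 1, 5, 4, 5, 5, 2, 5, 1, 5, 3, 1, 4, 1, 6, 2, 5, 3, 6, 3, 6, 4, 2, 3, 6, 5, 3],
  [2, 2, 3, 3, 6, 4, 0, 2, 2, 5, 3, 4, 6, 5, 0, 4, 4, 5, 1, 4, 4, 6, 6, 5, 6, 3, 1, 4, 3, 5, 3, 4, 2, 2, 2, 1, 3, 3, 1, 4, 5, 0, 0, 0, 0],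
  [5, 5, 2, 6, 4, 4, 6, 4, 6, 3, 3, 1, 6, 2, 4, 2, 1, 2, 5, 3, 5, 4, 6, 1, 1, 4, 0, 6, 4, 4, 0, 3, 2, 5, 6, 0, 3, 0, 4, 6, 0, 1, 0, 0, 0],
  [5, 0, 6, 2, 6, 4, 0, 0, 6, 2, 1, 5, 5, 1, 0, 5, 3, 3, 6, 6, 1, 6, 6, 5, 6, 4, 3, 3, 3, 1, 5, 6, 2, 0, 6, 6, 6, 2, 3, 4, 1, 0, 0, 0, 0],
  [5, 6, 5, 5, 5, 5, 0, 0, 1, 1, 6, 4, 1, 6, 5, 5, 5, 2, 6, 1, 4, 6, 2, 3, 4, 6, 1, 5, 5, 6, 4, 2, 5, 1, 4, 2, 2, 6, 2, 1, 4, 0, 4, 6, 6],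
  [0, 0, 2, 2, 4, 2, 6, 0, 1, 3, 5, 4, 4, 1, 4, 4, 6, 3, 0, 0, 1, 2, 6, 5, 2, 1, 2, 3, 3, 3, 0, 6, 5, 5, 3, 2, 4, 5, 2, 3, 1, 3, 2, 5, 4],
  [6, 6, 6, 6, 5, 0, 5, 1, 0, 5, 0, 4, 6, 5, 4, 5, 5, 1, 1, 1, 2, 0, 2, 3, 5, 1, 2, 0, 3, 6, 3, 0, 4, 2, 6, 2, 5, 5, 5, 1, 1, 2, 1, 5, 5],
  [3, 4, 0, 0, 3, 2, 0, 1, 4, 5, 6, 6, 5, 4, 0, 3, 0, 4, 0, 0, 6, 5, 6, 5, 2, 3, 2, 3, 6, 3, 6, 6, 5, 2, 4, 3, 0, 6, 2, 3, 3, 0, 0, 0, 0],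
  [2, 2, 2, 4, 0, 0, 0, 0, 6, 2, 2, 0, 0, 0, 0, 0, 6, 4, 1, 0, 2, 2, 5, 3, 6, 4, 3, 5, 4, 1, 5, 5, 2, 6, 6, 3, 3, 1, 3, 0, 1, 0, 0, 0, 0],
  [6, 6, 1, 4, 5, 1, 0, 0, 4, 1, 1, 5, 0, 1, 0, 0, 6, 5, 5, 0, 6, 5, 0, 2, 2, 3, 2, 1, 5, 3, 0, 6, 6, 2, 4, 3, 2, 1, 4, 2, 0, 0, 0, 0, 0],
  [2, 2, 6, 4, 3, 2, 0, 0, 1, 6, 4, 3, 0, 2, 0, 0, 4, 6, 6, 0, 5, 6, 2, 4, 1, 3, 4, 2, 3, 6, 5, 2, 5, 1, 1, 4, 4, 5, 4, 5, 6, 0, 0, 0, 0],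
  [1, 1, 1, 4, 0, 0, 0, 0, 5, 1, 6, 0, 0, 0, 0, 0, 4, 4, 5, 0, 4, 0, 5, 6, 2, 5, 6, 3, 1, 2, 1, 0, 4, 2, 5, 4, 6, 0, 0, 2, 0, 0, 0, 0, 0],
  [1, 4, 4, 6, 2, 1, 4, 2, 3, 0, 5, 2, 1, 3, 1, 1, 3, 3, 1, 6, 3, 2, 5, 4, 3, 5, 5, 2, 3, 4, 6, 1, 2, 3, 5, 1, 1, 6, 1, 3, 2, 5, 6, 2, 0],
  [0, 2, 5, 1, 0, 0, 4, 5, 4, 2, 1, 6, 2, 1, 4, 6, 1, 1, 2, 1, 6, 3, 1, 0, 0, 6, 6, 6, 6, 5, 1, 6, 2, 1, 1, 3, 6, 4, 1, 0, 6, 6, 3, 2, 0],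
  [0, 4, 0, 0, 3, 3, 3, 2, 0, 3, 4, 3, 1, 3, 3, 3, 6, 4, 0, 3, 4, 6, 3, 0, 4, 5, 6, 3, 5, 0, 5, 0, 6, 6, 2, 5, 1, 0, 0, 1, 5, 2, 4, 2, 1],
  [5, 4, 0, 1, 4, 0, 0, 3, 1, 5, 3, 4, 5, 1, 2, 1, 2, 2, 4, 4, 2, 0, 5, 4, 2, 0, 4, 4, 6, 4, 6, 1, 1, 0, 0, 5, 6, 3, 2, 1, 2, 1, 0, 3, 0]]

/-- the transposed matrix of the letter 5 -/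
def tF : LM := [
  [6, 0, 0, 0, 0, 0, 0, 0, 0, 0, 0, 0, 0, 0, 0, 0, 0, 0, 0, 0, 0, 0, 0, 0, 0, 0, 0, 0, 0, 0, 0, 0, 0, 0, 0, 0, 0, 0, 0, 0, 0, 0, 0, 0, 0],
  [0, 6, 0, 0, 0, 0, 0, 0, 0, 0, 0, 0, 0, 0, 0, 0, 0, 0, 0, 0, 0, 0, 0, 0, 0, 0, 0, 0, 0, 0, 0, 0, 0, 0, 0, 0, 0, 0, 0, 0, 0, 0, 0, 0, 0],
  [0, 0, 6, 0, 0, 0, 0, 0, 0, 0, 0, 0, 0, 0, 0, 0, 0, 0, 0, 0, 0, 0, 0, 0, 0, 0, 0, 0, 0, 0, 0, 0, 0, 0, 0, 0, 0, 0, 0, 0, 0, 0, 0, 0, 0],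
  [0, 0, 0, 6, 0, 0, 0, 0, 0, 0, 0, 0, 0, 0, 0, 0, 0, 0, 0, 0, 0, 0, 0, 0, 0, 0, 0, 0, 0, 0, 0, 0, 0, 0, 0, 0, 0, 0, 0, 0, 0, 0, 0, 0, 0],
  [0, 0, 0, 0, 6, 0, 0, 0, 0, 0, 0, 0, 0, 0, 0, 0, 0, 0, 0, 0, 0, 0, 0, 0, 0, 0, 0, 0, 0, 0, 0, 0, 0, 0, 0, 0, 0, 0, 0, 0, 0, 0, 0, 0, 0],
  [0, 0, 0, 0, 0, 6, 0, 0, 0, 0, 0, 0, 0, 0, 0, 0, 0, 0, 0, 0, 0, 0, 0, 0, 0, 0, 0, 0, 0, 0, 0, 0, 0, 0, 0, 0, 0, 0, 0, 0, 0, 0, 0, 0, 0],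
  [5, 0, 4, 2, 3, 5, 1, 0, 0, 0, 0, 0, 0, 0, 0, 0, 0, 0, 0, 0, 0, 0, 0, 0, 0, 0, 0, 0, 0, 0, 0, 0, 0, 0, 0, 0, 0, 0, 0, 0, 0, 0, 0, 0, 0],
  [4, 0, 3, 4, 1, 3, 0, 1, 0, 0, 0, 0, 0, 0, 0, 0, 0, 0, 0, 0, 0, 0, 0, 0, 0, 0, 0, 0, 0, 0, 0, 0, 0, 0, 0, 0, 0, 0, 0, 0, 0, 0, 0, 0, 0],
  [0, 0, 0, 0, 0, 0, 0, 0, 1, 0, 0, 0, 0, 0, 0, 0, 5, 4, 3, 0, 0, 2, 5, 0, 0, 0, 0, 0, 0, 0, 0, 0, 0, 0, 0, 0, 0, 0, 0, 0, 0, 0, 0, 0, 0],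
  [0, 0, 0, 0, 0, 0, 0, 0, 0, 6, 0, 0, 0, 0, 0, 0, 0, 0, 0, 0, 0, 0, 0, 0, 0, 0, 0, 0, 0, 0, 0, 0, 0, 0, 0, 0, 0, 0, 0, 0, 0, 0, 0, 0, 0],
  [0, 0, 0, 0, 0, 0, 0, 0, 0, 0, 6, 0, 0, 0, 0, 0, 0, 0, 0, 0, 0, 0, 0, 0, 0, 0, 0, 0, 0, 0, 0, 0, 0, 0, 0, 0, 0, 0, 0, 0, 0, 0, 0, 0, 0],
  [0, 0, 0, 0, 0, 0, 0, 0, 0, 0, 0, 6, 0, 0, 0, 0, 0, 0, 0, 0, 0, 0, 0, 0, 0, 0, 0, 0, 0, 0, 0, 0, 0, 0, 0, 0, 0, 0, 0, 0, 0, 0, 0, 0, 0],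
  [0, 4, 0, 0, 0, 0, 0, 0, 0, 3, 4, 1, 1, 3, 0, 0, 0, 0, 0, 0, 0, 0, 0, 0, 0, 0, 0, 0, 0, 0, 0, 0, 0, 0, 0, 0, 0, 0, 0, 0, 0, 0, 0, 0, 0],
  [0, 0, 0, 0, 0, 0, 0, 0, 0, 0, 0, 0, 0, 6, 0, 0, 0, 0, 0, 0, 0, 0, 0, 0, 0, 0, 0, 0, 0, 0, 0, 0, 0, 0, 0, 0, 0, 0, 0, 0, 0, 0, 0, 0, 0],
  [0, 5, 0, 0, 0, 0, 0, 0, 0, 4, 2, 3, 0, 5, 1, 0, 0, 0, 0, 0, 0, 0, 0, 0, 0, 0, 0, 0, 0, 0, 0, 0, 0, 0, 0, 0, 0, 0, 0, 0, 0, 0, 0, 0, 0],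
  [6, 0, 3, 1, 3, 2, 0, 0, 0, 0, 0, 0, 0, 0, 0, 1, 0, 0, 0, 0, 0, 0, 0, 0, 0, 0, 0, 0, 0, 0, 0, 0, 0, 0, 0, 0, 0, 0, 0, 0, 0, 0, 0, 0, 0],
  [0, 0, 0, 0, 0, 0, 0, 0, 0, 0, 0, 0, 0, 0, 0, 0, 6, 0, 0, 0, 0, 0, 0, 0, 0, 0, 0, 0, 0, 0, 0, 0, 0, 0, 0, 0, 0, 0, 0, 0, 0, 0, 0, 0, 0],
  [0, 0, 0, 0, 0, 0, 0, 0, 0, 0, 0, 0, 0, 0, 0, 0, 0, 6, 0, 0, 0, 0, 0, 0, 0, 0, 0, 0, 0, 0, 0, 0, 0, 0, 0, 0, 0, 0, 0, 0, 0, 0, 0, 0, 0],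
  [0, 0, 0, 0, 0, 0, 0, 0, 0, 0, 0, 0, 0, 0, 0, 0, 0, 0, 6, 0, 0, 0, 0, 0, 0, 0, 0, 0, 0, 0, 0, 0, 0, 0, 0, 0, 0, 0, 0, 0, 0, 0, 0, 0, 0],
  [0, 6, 0, 0, 0, 0, 0, 0, 0, 3, 1, 3, 0, 2, 0, 0, 0, 0, 0, 1, 0, 0, 0, 0, 0, 0, 0, 0, 0, 0, 0, 0, 0, 0, 0, 0, 0, 0, 0, 0, 0, 0, 0, 0, 0],
  [0, 0, 0, 0, 0, 0, 0, 0, 0, 0, 0, 0, 0, 0, 0, 0, 4, 3, 1, 0, 1, 4, 3, 0, 0, 0, 0, 0, 0, 0, 0, 0, 0, 0, 0, 0, 0, 0, 0, 0, 0, 0, 0, 0, 0],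
  [0, 0, 0, 0, 0, 0, 0, 0, 0, 0, 0, 0, 0, 0, 0, 0, 0, 0, 0, 0, 0, 6, 0, 0, 0, 0, 0, 0, 0, 0, 0, 0, 0, 0, 0, 0, 0, 0, 0, 0, 0, 0, 0, 0, 0],
  [0, 0, 0, 0, 0, 0, 0, 0, 0, 0, 0, 0, 0, 0, 0, 0, 0, 0, 0, 0, 0, 0, 6, 0, 0, 0, 0, 0, 0, 0, 0, 0, 0, 0, 0, 0, 0, 0, 0, 0, 0, 0, 0, 0, 0],
  [0, 0, 0, 0, 0, 0, 0, 0, 0, 0, 0, 0, 0, 0, 0, 0, 6, 3, 3, 0, 0, 1, 2, 1, 0, 0, 0, 0, 0, 0, 0, 0, 0, 0, 0, 0, 0, 0, 0, 0, 0, 0, 0, 0, 0],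
  [0, 0, 0, 0, 0, 0, 0, 0, 0, 0, 0, 0, 0, 0, 0, 0, 0, 0, 0, 0, 0, 0, 0, 0, 6, 0, 0, 0, 0, 0, 0, 0, 0, 0, 0, 0, 0, 0, 0, 0, 0, 0, 0, 0, 0],
  [0, 0, 0, 0, 0, 0, 0, 0, 0, 0, 0, 0, 0, 0, 0, 0, 0, 0, 0, 0, 0, 0, 0, 0, 0, 6, 0, 0, 0, 0, 0, 0, 0, 0, 0, 0, 0, 0, 0, 0, 0, 0, 0, 0, 0],
  [0, 0, 0, 0, 0, 0, 0, 0, 0, 0, 0, 0, 0, 0, 0, 0, 0, 0, 0, 0, 0, 0, 0, 0, 0, 0, 6, 0, 0, 0, 0, 0, 0, 0, 0, 0, 0, 0, 0, 0, 0, 0, 0, 0, 0],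
  [0, 0, 3, 4, 4, 5, 0, 0, 0, 3, 1, 4, 0, 5, 0, 0, 0, 4, 3, 0, 0, 3, 2, 0, 4, 4, 0, 1, 0, 0, 0, 0, 0, 0, 0, 0, 0, 0, 0, 0, 0, 0, 0, 0, 0],
  [0, 0, 6, 0, 1, 3, 0, 0, 0, 6, 3, 1, 0, 3, 0, 0, 0, 0, 0, 0, 0, 6, 0, 0, 6, 6, 0, 0, 1, 0, 0, 0, 0, 0, 0, 0, 0, 0, 0, 0, 0, 0, 0, 0, 0],
  [0, 0, 5, 2, 2, 6, 0, 0, 0, 5, 4, 2, 0, 6, 0, 0, 0, 2, 5, 0, 0, 5, 1, 0, 5, 1, 6, 0, 0, 1, 0, 0, 0, 0, 0, 0, 0, 0, 0, 0, 0, 0, 0, 0, 0],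
  [0, 0, 0, 0, 0, 0, 0, 0, 0, 0, 0, 0, 0, 0, 0, 0, 0, 0, 0, 0, 0, 0, 0, 0, 0, 0, 0, 0, 0, 0, 6, 0, 0, 0, 0, 0, 0, 0, 0, 0, 0, 0, 0, 0, 0],
  [0, 0, 0, 0, 0, 0, 0, 0, 0, 0, 0, 0, 0, 0, 0, 0, 0, 0, 0, 0, 0, 0, 0, 0, 0, 0, 0, 0, 0, 0, 0, 6, 0, 0, 0, 0, 0, 0, 0, 0, 0, 0, 0, 0, 0],
  [3, 3, 4, 5, 6, 4, 0, 0, 0, 4, 1, 6, 0, 4, 0, 0, 0, 4, 3, 0, 0, 1, 2, 0, 4, 4, 0, 0, 0, 0, 3, 1, 1, 1, 0, 3, 0, 0, 0, 0, 0, 0, 0, 0, 0],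
  [0, 0, 0, 0, 0, 0, 0, 0, 0, 0, 0, 0, 0, 0, 0, 0, 0, 0, 0, 0, 0, 0, 0, 0, 0, 0, 0, 0, 0, 0, 0, 0, 0, 6, 0, 0, 0, 0, 0, 0, 0, 0, 0, 0, 0],
  [4, 4, 3, 2, 1, 3, 0, 0, 0, 3, 6, 1, 0, 3, 0, 0, 0, 3, 4, 0, 0, 6, 5, 0, 3, 3, 0, 0, 0, 0, 3, 3, 0, 1, 1, 5, 0, 0, 0, 0, 0, 0, 0, 0, 0],
  [0, 0, 0, 0, 0, 0, 0, 0, 0, 0, 0, 0, 0, 0, 0, 0, 0, 0, 0, 0, 0, 0, 0, 0, 0, 0, 0, 0, 0, 0, 0, 0, 0, 0, 0, 6, 0, 0, 0, 0, 0, 0, 0, 0, 0],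
  [3, 3, 4, 5, 6, 4, 0, 0, 0, 4, 1, 6, 0, 4, 0, 0, 0, 4, 3, 0, 0, 1, 2, 0, 4, 4, 0, 0, 0, 0, 0, 3, 0, 3, 0, 2, 1, 0, 0, 0, 0, 0, 0, 0, 0],
  [0, 0, 0, 0, 0, 0, 0, 0, 0, 0, 0, 0, 0, 0, 0, 0, 0, 0, 0, 0, 0, 0, 0, 0, 0, 0, 0, 0, 0, 0, 0, 0, 0, 0, 0, 0, 0, 6, 0, 0, 0, 0, 0, 0, 0],
  [0, 0, 0, 0, 0, 0, 0, 0, 0, 0, 0, 0, 0, 0, 0, 0, 0, 0, 0, 0, 0, 0, 0, 0, 0, 0, 0, 0, 0, 0, 0, 0, 0, 0, 0, 0, 0, 0, 6, 0, 0, 0, 0, 0, 0],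
  [4, 4, 6, 0, 5, 1, 0, 0, 0, 6, 6, 5, 0, 1, 0, 0, 3, 3, 0, 0, 0, 1, 0, 0, 0, 0, 0, 0, 0, 0, 5, 0, 0, 0, 0, 0, 0, 0, 0, 1, 0, 0, 0, 0, 0],
  [0, 0, 1, 5, 6, 4, 0, 0, 0, 1, 6, 6, 0, 4, 0, 0, 6, 0, 6, 0, 0, 4, 4, 0, 1, 1, 0, 0, 0, 0, 2, 1, 0, 1, 0, 3, 0, 4, 6, 0, 1, 0, 0, 0, 0],
  [4, 1, 1, 2, 1, 3, 0, 0, 0, 2, 0, 6, 0, 1, 0, 0, 4, 1, 6, 0, 0, 3, 1, 0, 4, 1, 5, 0, 0, 0, 1, 1, 0, 3, 0, 5, 0, 5, 2, 0, 0, 1, 0, 0, 0],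
  [6, 4, 0, 3, 5, 1, 0, 0, 0, 3, 4, 1, 0, 3, 0, 0, 6, 1, 6, 0, 0, 4, 3, 0, 2, 1, 5, 0, 0, 0, 0, 3, 0, 0, 0, 6, 0, 6, 3, 0, 0, 0, 1, 0, 0],
  [3, 6, 5, 1, 3, 3, 0, 0, 0, 0, 3, 1, 0, 3, 0, 0, 1, 5, 4, 0, 0, 1, 0, 0, 3, 1, 5, 0, 0, 0, 4, 2, 0, 1, 0, 6, 0, 5, 5, 0, 0, 0, 0, 1, 0],
  [3, 1, 5, 2, 1, 1, 0, 0, 0, 3, 3, 0, 0, 1, 0, 0, 1, 5, 0, 0, 0, 2, 2, 0, 2, 0, 0, 0, 0, 0, 6, 0, 0, 2, 0, 1, 0, 4, 2, 0, 0, 0, 0, 0, 1]]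

/-- the transposed matrix of the letter 6 -/
def tG : LM := [
  [0, 1, 0, 0, 0, 0, 0, 0, 0, 0, 0, 0, 0, 0, 0, 0, 0, 0, 0, 0, 0, 0, 0, 0, 0, 0, 0, 0, 0, 0, 0, 0, 0, 0, 0, 0, 0, 0, 0, 0, 0, 0, 0, 0, 0],
  [5, 0, 1, 3, 5, 1, 0, 0, 0, 0, 0, 0, 0, 0, 0, 0, 0, 0, 0, 0, 0, 0, 0, 0, 0, 0, 0, 0, 0, 0, 0, 0, 0, 0, 0, 0, 0, 0, 0, 0, 0, 0, 0, 0, 0],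
  [0, 0, 0, 0, 0, 0, 0, 0, 0, 1, 0, 0, 0, 0, 0, 0, 0, 0, 0, 0, 0, 0, 0, 0, 0, 0, 0, 0, 0, 0, 0, 0, 0, 0, 0, 0, 0, 0, 0, 0, 0, 0, 0, 0, 0],
  [0, 0, 0, 0, 0, 0, 0, 0, 0, 0, 1, 0, 0, 0, 0, 0, 0, 0, 0, 0, 0, 0, 0, 0, 0, 0, 0, 0, 0, 0, 0, 0, 0, 0, 0, 0, 0, 0, 0, 0, 0, 0, 0, 0, 0],
  [0, 0, 0, 0, 0, 0, 0, 0, 0, 0, 0, 1, 0, 0, 0, 0, 0, 0, 0, 0, 0, 0, 0, 0, 0, 0, 0, 0, 0, 0, 0, 0, 0, 0, 0, 0, 0, 0, 0, 0, 0, 0, 0, 0, 0],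
  [0, 0, 0, 0, 0, 0, 0, 0, 0, 0, 0, 0, 0, 1, 0, 0, 0, 0, 0, 0, 0, 0, 0, 0, 0, 0, 0, 0, 0, 0, 0, 0, 0, 0, 0, 0, 0, 0, 0, 0, 0, 0, 0, 0, 0],
  [0, 0, 0, 0, 0, 0, 0, 0, 0, 0, 0, 0, 0, 0, 1, 0, 0, 0, 0, 0, 0, 0, 0, 0, 0, 0, 0, 0, 0, 0, 0, 0, 0, 0, 0, 0, 0, 0, 0, 0, 0, 0, 0, 0, 0],
  [0, 0, 0, 0, 0, 0, 0, 0, 0, 0, 0, 0, 1, 0, 0, 0, 0, 0, 0, 0, 0, 0, 0, 0, 0, 0, 0, 0, 0, 0, 0, 0, 0, 0, 0, 0, 0, 0, 0, 0, 0, 0, 0, 0, 0],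
  [0, 0, 6, 4, 1, 3, 0, 0, 0, 6, 6, 1, 0, 3, 0, 0, 0, 4, 3, 0, 0, 6, 2, 0, 0, 3, 6, 3, 1, 1, 0, 0, 0, 0, 0, 0, 0, 0, 0, 0, 0, 0, 0, 0, 0],
  [3, 0, 0, 4, 2, 6, 0, 0, 0, 0, 0, 0, 0, 0, 0, 0, 0, 0, 0, 0, 0, 0, 0, 0, 0, 0, 0, 0, 0, 0, 0, 0, 0, 0, 0, 0, 0, 0, 0, 0, 0, 0, 0, 0, 0],
  [0, 0, 0, 1, 0, 0, 0, 0, 0, 0, 0, 0, 0, 0, 0, 0, 0, 0, 0, 0, 0, 0, 0, 0, 0, 0, 0, 0, 0, 0, 0, 0, 0, 0, 0, 0, 0, 0, 0, 0, 0, 0, 0, 0, 0],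
  [5, 0, 0, 1, 4, 1, 0, 0, 0, 0, 0, 0, 0, 0, 0, 0, 0, 0, 0, 0, 0, 0, 0, 0, 0, 0, 0, 0, 0, 0, 0, 0, 0, 0, 0, 0, 0, 0, 0, 0, 0, 0, 0, 0, 0],
  [3, 0, 4, 3, 6, 4, 0, 6, 0, 0, 0, 0, 0, 0, 0, 0, 0, 0, 0, 0, 0, 0, 0, 0, 0, 0, 0, 0, 0, 0, 0, 0, 0, 0, 0, 0, 0, 0, 0, 0, 0, 0, 0, 0, 0],
  [4, 0, 2, 1, 2, 5, 0, 0, 0, 0, 0, 0, 0, 0, 0, 0, 0, 0, 0, 0, 0, 0, 0, 0, 0, 0, 0, 0, 0, 0, 0, 0, 0, 0, 0, 0, 0, 0, 0, 0, 0, 0, 0, 0, 0],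
  [0, 0, 4, 1, 5, 4, 1, 3, 0, 0, 0, 0, 0, 0, 0, 1, 0, 0, 0, 0, 0, 0, 0, 0, 0, 0, 0, 0, 0, 0, 0, 0, 0, 0, 0, 0, 0, 0, 0, 0, 0, 0, 0, 0, 0],
  [0, 0, 0, 0, 0, 0, 0, 0, 0, 0, 0, 0, 0, 0, 0, 0, 0, 0, 0, 1, 0, 0, 0, 0, 0, 0, 0, 0, 0, 0, 0, 0, 0, 0, 0, 0, 0, 0, 0, 0, 0, 0, 0, 0, 0],
  [0, 0, 4, 4, 3, 2, 0, 0, 0, 4, 5, 3, 0, 2, 0, 0, 0, 4, 3, 0, 0, 4, 2, 0, 5, 6, 0, 0, 0, 0, 0, 0, 0, 0, 0, 0, 0, 0, 0, 0, 0, 0, 0, 0, 0],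
  [0, 0, 3, 3, 4, 5, 0, 0, 0, 3, 2, 4, 0, 5, 0, 0, 0, 3, 4, 0, 0, 3, 5, 0, 3, 2, 0, 0, 0, 0, 0, 0, 0, 0, 0, 0, 0, 0, 0, 0, 0, 0, 0, 0, 0],
  [0, 0, 6, 5, 1, 3, 0, 0, 0, 6, 5, 1, 0, 3, 0, 0, 0, 5, 2, 0, 0, 6, 6, 0, 5, 5, 6, 0, 0, 0, 0, 0, 0, 0, 0, 0, 0, 0, 0, 0, 0, 0, 0, 0, 0],
  [1, 0, 4, 6, 4, 5, 0, 0, 0, 0, 0, 0, 0, 0, 0, 6, 0, 0, 0, 0, 0, 0, 0, 0, 0, 0, 0, 0, 0, 0, 0, 0, 0, 0, 0, 0, 0, 0, 0, 0, 0, 0, 0, 0, 0],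
  [0, 0, 4, 3, 3, 2, 0, 0, 0, 4, 6, 3, 0, 2, 0, 0, 0, 3, 4, 0, 0, 4, 5, 0, 3, 3, 0, 6, 0, 0, 0, 0, 0, 0, 0, 0, 0, 0, 0, 0, 0, 0, 0, 0, 0],
  [0, 0, 6, 3, 1, 3, 0, 0, 0, 6, 0, 1, 0, 3, 0, 0, 0, 3, 4, 0, 0, 6, 5, 0, 0, 0, 0, 0, 0, 0, 0, 0, 0, 0, 0, 0, 0, 0, 0, 0, 0, 0, 0, 0, 0],
  [0, 0, 6, 6, 1, 3, 0, 0, 0, 6, 4, 1, 0, 3, 0, 0, 0, 6, 1, 0, 0, 6, 3, 0, 4, 6, 5, 0, 0, 0, 0, 0, 0, 0, 0, 0, 0, 0, 0, 0, 0, 0, 0, 0, 0],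
  [0, 0, 1, 0, 6, 4, 0, 0, 0, 1, 4, 6, 0, 4, 0, 0, 0, 0, 0, 0, 0, 1, 0, 0, 1, 1, 0, 0, 6, 0, 0, 0, 0, 0, 0, 0, 0, 0, 0, 0, 0, 0, 0, 0, 0],
  [0, 0, 0, 0, 0, 0, 0, 0, 0, 0, 0, 0, 0, 0, 0, 0, 1, 0, 0, 0, 0, 0, 0, 0, 0, 0, 0, 0, 0, 0, 0, 0, 0, 0, 0, 0, 0, 0, 0, 0, 0, 0, 0, 0, 0],
  [0, 0, 0, 0, 0, 0, 0, 0, 0, 0, 0, 0, 0, 0, 0, 0, 0, 1, 0, 0, 0, 0, 0, 0, 0, 0, 0, 0, 0, 0, 0, 0, 0, 0, 0, 0, 0, 0, 0, 0, 0, 0, 0, 0, 0],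
  [0, 0, 0, 0, 0, 0, 0, 0, 0, 0, 0, 0, 0, 0, 0, 0, 0, 0, 1, 0, 0, 0, 0, 0, 0, 0, 0, 0, 0, 0, 0, 0, 0, 0, 0, 0, 0, 0, 0, 0, 0, 0, 0, 0, 0],
  [0, 0, 0, 0, 0, 0, 0, 0, 0, 0, 0, 0, 0, 0, 0, 0, 0, 0, 0, 0, 1, 0, 0, 0, 0, 0, 0, 0, 0, 0, 0, 0, 0, 0, 0, 0, 0, 0, 0, 0, 0, 0, 0, 0, 0],
  [0, 0, 0, 0, 0, 0, 0, 0, 0, 0, 0, 0, 0, 0, 0, 0, 0, 0, 0, 0, 0, 0, 0, 1, 0, 0, 0, 0, 0, 0, 0, 0, 0, 0, 0, 0, 0, 0, 0, 0, 0, 0, 0, 0, 0],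
  [0, 0, 0, 0, 0, 0, 0, 0, 1, 0, 0, 0, 0, 0, 0, 0, 0, 0, 0, 0, 0, 0, 0, 0, 0, 0, 0, 0, 0, 0, 0, 0, 0, 0, 0, 0, 0, 0, 0, 0, 0, 0, 0, 0, 0],
  [4, 4, 4, 2, 0, 0, 0, 0, 0, 4, 3, 0, 0, 0, 0, 0, 0, 3, 4, 0, 0, 6, 5, 0, 3, 3, 0, 0, 0, 0, 2, 3, 0, 3, 0, 2, 0, 0, 0, 0, 0, 0, 0, 0, 0],
  [5, 5, 1, 2, 4, 5, 0, 0, 0, 1, 4, 4, 0, 5, 0, 0, 2, 2, 0, 0, 0, 3, 0, 0, 0, 0, 0, 0, 0, 0, 4, 0, 0, 0, 0, 0, 0, 0, 6, 0, 0, 0, 0, 0, 0],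
  [3, 3, 1, 0, 2, 6, 0, 0, 0, 1, 1, 2, 0, 6, 0, 0, 4, 4, 0, 0, 0, 6, 0, 0, 0, 0, 0, 0, 0, 0, 2, 0, 0, 0, 0, 0, 0, 0, 0, 6, 0, 0, 0, 0, 0],
  [1, 1, 4, 1, 4, 5, 0, 0, 0, 4, 0, 4, 0, 5, 0, 0, 1, 6, 2, 0, 0, 1, 6, 0, 5, 5, 0, 0, 0, 0, 5, 5, 0, 5, 0, 1, 0, 6, 0, 0, 0, 0, 0, 0, 0],
  [0, 0, 4, 5, 3, 2, 0, 0, 2, 4, 4, 3, 0, 2, 0, 0, 0, 2, 0, 0, 3, 3, 3, 1, 0, 4, 1, 4, 6, 5, 1, 2, 3, 0, 2, 2, 1, 0, 0, 0, 6, 0, 0, 0, 0],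
  [6, 6, 0, 6, 6, 4, 0, 0, 0, 0, 2, 6, 0, 4, 0, 0, 1, 1, 0, 0, 0, 5, 0, 0, 0, 0, 0, 0, 0, 0, 6, 0, 0, 0, 0, 0, 0, 5, 5, 0, 0, 0, 0, 0, 0],
  [4, 4, 6, 4, 5, 1, 0, 0, 5, 6, 2, 5, 0, 1, 0, 0, 3, 1, 0, 0, 4, 5, 4, 6, 0, 3, 6, 3, 1, 2, 0, 5, 4, 0, 5, 5, 6, 4, 6, 3, 2, 0, 0, 0, 0],
  [0, 0, 0, 0, 0, 0, 0, 0, 0, 0, 0, 0, 0, 0, 0, 0, 0, 0, 0, 0, 0, 0, 0, 0, 0, 0, 0, 0, 0, 0, 0, 0, 0, 1, 0, 0, 0, 0, 0, 0, 0, 0, 0, 0, 0],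
  [0, 0, 0, 0, 0, 0, 0, 0, 0, 0, 0, 0, 0, 0, 0, 0, 0, 0, 0, 0, 0, 0, 0, 0, 0, 0, 0, 0, 0, 0, 0, 1, 0, 0, 0, 0, 0, 0, 0, 0, 0, 0, 0, 0, 0],
  [0, 0, 0, 0, 0, 0, 0, 0, 0, 0, 0, 0, 0, 0, 0, 0, 0, 0, 0, 0, 0, 0, 0, 0, 0, 0, 0, 0, 0, 0, 0, 0, 1, 0, 0, 0, 0, 0, 0, 0, 0, 0, 0, 0, 0],
  [0, 0, 0, 0, 0, 0, 0, 0, 0, 0, 0, 0, 0, 0, 0, 0, 0, 0, 0, 0, 0, 0, 0, 0, 0, 0, 0, 0, 0, 0, 0, 0, 0, 0, 1, 0, 0, 0, 0, 0, 0, 0, 0, 0, 0],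
  [1, 6, 6, 2, 0, 0, 4, 3, 0, 4, 4, 6, 4, 3, 1, 1, 0, 1, 2, 4, 6, 0, 4, 4, 0, 4, 2, 5, 0, 4, 1, 2, 1, 6, 1, 5, 1, 1, 6, 4, 4, 6, 5, 3, 6],
  [3, 5, 1, 5, 5, 2, 0, 6, 4, 1, 2, 1, 4, 0, 6, 3, 4, 1, 1, 5, 5, 3, 4, 2, 6, 3, 1, 6, 4, 2, 4, 2, 0, 5, 4, 6, 1, 5, 5, 6, 1, 4, 1, 6, 2],
  [2, 0, 0, 1, 0, 6, 1, 5, 6, 2, 3, 6, 2, 4, 3, 1, 3, 1, 6, 6, 1, 5, 0, 1, 1, 0, 1, 4, 6, 3, 0, 2, 2, 3, 3, 0, 1, 1, 1, 2, 2, 6, 3, 1, 3],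
  [3, 6, 6, 4, 1, 2, 0, 4, 2, 0, 2, 2, 2, 2, 0, 4, 1, 0, 5, 0, 2, 1, 3, 6, 3, 2, 6, 6, 4, 6, 6, 1, 1, 6, 6, 4, 5, 6, 1, 6, 6, 3, 2, 2, 6]]

/-- the transposed matrix of the letter 7 -/
def tGi : LM := [
  [0, 5, 0, 0, 0, 0, 0, 0, 0, 1, 3, 5, 0, 1, 0, 0, 0, 0, 0, 0, 0, 0, 0, 0, 0, 0, 0, 0, 0, 0, 0, 0, 0, 0, 0, 0, 0, 0, 0, 0, 0, 0, 0, 0, 0],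
  [1, 0, 0, 0, 0, 0, 0, 0, 0, 0, 0, 0, 0, 0, 0, 0, 0, 0, 0, 0, 0, 0, 0, 0, 0, 0, 0, 0, 0, 0, 0, 0, 0, 0, 0, 0, 0, 0, 0, 0, 0, 0, 0, 0, 0],
  [0, 3, 0, 0, 0, 0, 0, 0, 0, 0, 4, 2, 0, 6, 0, 0, 0, 0, 0, 0, 0, 0, 0, 0, 0, 0, 0, 0, 0, 0, 0, 0, 0, 0, 0, 0, 0, 0, 0, 0, 0, 0, 0, 0, 0],
  [0, 0, 0, 0, 0, 0, 0, 0, 0, 0, 1, 0, 0, 0, 0, 0, 0, 0, 0, 0, 0, 0, 0, 0, 0, 0, 0, 0, 0, 0, 0, 0, 0, 0, 0, 0, 0, 0, 0, 0, 0, 0, 0, 0, 0],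
  [0, 5, 0, 0, 0, 0, 0, 0, 0, 0, 1, 4, 0, 1, 0, 0, 0, 0, 0, 0, 0, 0, 0, 0, 0, 0, 0, 0, 0, 0, 0, 0, 0, 0, 0, 0, 0, 0, 0, 0, 0, 0, 0, 0, 0],
  [0, 4, 0, 0, 0, 0, 0, 0, 0, 2, 1, 2, 0, 5, 0, 0, 0, 0, 0, 0, 0, 0, 0, 0, 0, 0, 0, 0, 0, 0, 0, 0, 0, 0, 0, 0, 0, 0, 0, 0, 0, 0, 0, 0, 0],
  [0, 0, 0, 0, 0, 0, 0, 0, 0, 4, 1, 5, 3, 4, 1, 0, 0, 0, 0, 1, 0, 0, 0, 0, 0, 0, 0, 0, 0, 0, 0, 0, 0, 0, 0, 0, 0, 0, 0, 0, 0, 0, 0, 0, 0],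
  [0, 3, 0, 0, 0, 0, 0, 0, 0, 4, 3, 6, 6, 4, 0, 0, 0, 0, 0, 0, 0, 0, 0, 0, 0, 0, 0, 0, 0, 0, 0, 0, 0, 0, 0, 0, 0, 0, 0, 0, 0, 0, 0, 0, 0],
  [0, 0, 0, 0, 0, 0, 0, 0, 0, 0, 0, 0, 0, 0, 0, 0, 0, 0, 0, 0, 0, 0, 0, 0, 0, 0, 0, 0, 0, 1, 0, 0, 0, 0, 0, 0, 0, 0, 0, 0, 0, 0, 0, 0, 0],
  [0, 0, 1, 0, 0, 0, 0, 0, 0, 0, 0, 0, 0, 0, 0, 0, 0, 0, 0, 0, 0, 0, 0, 0, 0, 0, 0, 0, 0, 0, 0, 0, 0, 0, 0, 0, 0, 0, 0, 0, 0, 0, 0, 0, 0],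
  [0, 0, 0, 1, 0, 0, 0, 0, 0, 0, 0, 0, 0, 0, 0, 0, 0, 0, 0, 0, 0, 0, 0, 0, 0, 0, 0, 0, 0, 0, 0, 0, 0, 0, 0, 0, 0, 0, 0, 0, 0, 0, 0, 0, 0],
  [0, 0, 0, 0, 1, 0, 0, 0, 0, 0, 0, 0, 0, 0, 0, 0, 0, 0, 0, 0, 0, 0, 0, 0, 0, 0, 0, 0, 0, 0, 0, 0, 0, 0, 0, 0, 0, 0, 0, 0, 0, 0, 0, 0, 0],
  [0, 0, 0, 0, 0, 0, 0, 1, 0, 0, 0, 0, 0, 0, 0, 0, 0, 0, 0, 0, 0, 0, 0, 0, 0, 0, 0, 0, 0, 0, 0, 0, 0, 0, 0, 0, 0, 0, 0, 0, 0, 0, 0, 0, 0],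
  [0, 0, 0, 0, 0, 1, 0, 0, 0, 0, 0, 0, 0, 0, 0, 0, 0, 0, 0, 0, 0, 0, 0, 0, 0, 0, 0, 0, 0, 0, 0, 0, 0, 0, 0, 0, 0, 0, 0, 0, 0, 0, 0, 0, 0],
  [0, 0, 0, 0, 0, 0, 1, 0, 0, 0, 0, 0, 0, 0, 0, 0, 0, 0, 0, 0, 0, 0, 0, 0, 0, 0, 0, 0, 0, 0, 0, 0, 0, 0, 0, 0, 0, 0, 0, 0, 0, 0, 0, 0, 0],
  [0, 1, 0, 0, 0, 0, 0, 0, 0, 4, 6, 4, 0, 5, 0, 0, 0, 0, 0, 6, 0, 0, 0, 0, 0, 0, 0, 0, 0, 0, 0, 0, 0, 0, 0, 0, 0, 0, 0, 0, 0, 0, 0, 0, 0],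
  [0, 0, 0, 0, 0, 0, 0, 0, 0, 0, 0, 0, 0, 0, 0, 0, 0, 0, 0, 0, 0, 0, 0, 0, 1, 0, 0, 0, 0, 0, 0, 0, 0, 0, 0, 0, 0, 0, 0, 0, 0, 0, 0, 0, 0],
  [0, 0, 0, 0, 0, 0, 0, 0, 0, 0, 0, 0, 0, 0, 0, 0, 0, 0, 0, 0, 0, 0, 0, 0, 0, 1, 0, 0, 0, 0, 0, 0, 0, 0, 0, 0, 0, 0, 0, 0, 0, 0, 0, 0, 0],
  [0, 0, 0, 0, 0, 0, 0, 0, 0, 0, 0, 0, 0, 0, 0, 0, 0, 0, 0, 0, 0, 0, 0, 0, 0, 0, 1, 0, 0, 0, 0, 0, 0, 0, 0, 0, 0, 0, 0, 0, 0, 0, 0, 0, 0],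
  [0, 0, 0, 0, 0, 0, 0, 0, 0, 0, 0, 0, 0, 0, 0, 1, 0, 0, 0, 0, 0, 0, 0, 0, 0, 0, 0, 0, 0, 0, 0, 0, 0, 0, 0, 0, 0, 0, 0, 0, 0, 0, 0, 0, 0],
  [0, 0, 0, 0, 0, 0, 0, 0, 0, 0, 0, 0, 0, 0, 0, 0, 0, 0, 0, 0, 0, 0, 0, 0, 0, 0, 0, 1, 0, 0, 0, 0, 0, 0, 0, 0, 0, 0, 0, 0, 0, 0, 0, 0, 0],
  [0, 0, 6, 3, 1, 3, 0, 0, 0, 6, 0, 1, 0, 3, 0, 0, 0, 3, 4, 0, 0, 6, 5, 0, 0, 0, 0, 0, 0, 0, 0, 0, 0, 0, 0, 0, 0, 0, 0, 0, 0, 0, 0, 0, 0],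
  [0, 0, 0, 2, 0, 0, 0, 0, 0, 0, 5, 0, 0, 0, 0, 0, 0, 2, 5, 0, 0, 0, 1, 0, 0, 5, 2, 0, 0, 0, 0, 0, 0, 0, 0, 0, 0, 0, 0, 0, 0, 0, 0, 0, 0],
  [0, 0, 0, 0, 0, 0, 0, 0, 0, 0, 0, 0, 0, 0, 0, 0, 0, 0, 0, 0, 0, 0, 0, 0, 0, 0, 0, 0, 1, 0, 0, 0, 0, 0, 0, 0, 0, 0, 0, 0, 0, 0, 0, 0, 0],
  [0, 0, 0, 0, 0, 0, 0, 0, 0, 0, 0, 0, 0, 0, 0, 0, 5, 1, 5, 0, 0, 3, 1, 0, 0, 0, 0, 0, 0, 0, 0, 0, 0, 0, 0, 0, 0, 0, 0, 0, 0, 0, 0, 0, 0],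
  [0, 0, 0, 0, 0, 0, 0, 0, 0, 0, 0, 0, 0, 0, 0, 0, 3, 0, 2, 0, 0, 4, 6, 0, 0, 0, 0, 0, 0, 0, 0, 0, 0, 0, 0, 0, 0, 0, 0, 0, 0, 0, 0, 0, 0],
  [0, 0, 0, 0, 0, 0, 0, 0, 0, 0, 0, 0, 0, 0, 0, 0, 5, 0, 4, 0, 0, 1, 1, 0, 0, 0, 0, 0, 0, 0, 0, 0, 0, 0, 0, 0, 0, 0, 0, 0, 0, 0, 0, 0, 0],
  [0, 0, 0, 0, 0, 0, 0, 0, 0, 0, 0, 0, 0, 0, 0, 0, 3, 4, 6, 0, 6, 3, 4, 0, 0, 0, 0, 0, 0, 0, 0, 0, 0, 0, 0, 0, 0, 0, 0, 0, 0, 0, 0, 0, 0],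
  [0, 0, 0, 0, 0, 0, 0, 0, 0, 0, 0, 0, 0, 0, 0, 0, 1, 4, 4, 0, 0, 6, 5, 6, 0, 0, 0, 0, 0, 0, 0, 0, 0, 0, 0, 0, 0, 0, 0, 0, 0, 0, 0, 0, 0],
  [0, 0, 0, 0, 0, 0, 0, 0, 1, 0, 0, 0, 0, 0, 0, 0, 0, 4, 5, 0, 3, 1, 4, 1, 0, 0, 0, 0, 0, 0, 0, 0, 0, 0, 0, 0, 0, 0, 0, 0, 0, 0, 0, 0, 0],
  [4, 4, 4, 2, 0, 0, 0, 0, 0, 4, 3, 0, 0, 0, 0, 0, 0, 3, 4, 0, 0, 6, 5, 0, 3, 3, 0, 0, 0, 0, 2, 3, 0, 3, 0, 2, 0, 0, 0, 0, 0, 0, 0, 0, 0],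
  [0, 0, 0, 0, 0, 0, 0, 0, 0, 0, 0, 0, 0, 0, 0, 0, 0, 0, 0, 0, 0, 0, 0, 0, 0, 0, 0, 0, 0, 0, 0, 0, 0, 0, 0, 0, 0, 0, 1, 0, 0, 0, 0, 0, 0],
  [0, 0, 0, 0, 0, 0, 0, 0, 0, 0, 0, 0, 0, 0, 0, 0, 0, 0, 0, 0, 0, 0, 0, 0, 0, 0, 0, 0, 0, 0, 0, 0, 0, 0, 0, 0, 0, 0, 0, 1, 0, 0, 0, 0, 0],
  [0, 0, 0, 0, 0, 0, 0, 0, 0, 0, 0, 0, 0, 0, 0, 0, 0, 0, 0, 0, 0, 0, 0, 0, 0, 0, 0, 0, 0, 0, 0, 0, 0, 0, 0, 0, 0, 1, 0, 0, 0, 0, 0, 0, 0],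
  [0, 0, 0, 0, 0, 0, 0, 0, 0, 0, 0, 0, 0, 0, 0, 0, 0, 0, 0, 0, 0, 0, 0, 0, 0, 0, 0, 0, 0, 0, 0, 0, 0, 0, 0, 0, 0, 0, 0, 0, 1, 0, 0, 0, 0],
  [1, 1, 4, 0, 4, 5, 0, 0, 0, 4, 1, 4, 0, 5, 0, 0, 2, 6, 3, 0, 0, 4, 2, 0, 4, 4, 0, 0, 0, 0, 2, 4, 0, 4, 0, 5, 0, 2, 2, 0, 0, 0, 0, 0, 0],
  [5, 5, 4, 2, 1, 3, 0, 0, 2, 4, 2, 1, 0, 3, 0, 0, 3, 4, 1, 0, 3, 2, 6, 1, 6, 3, 1, 4, 6, 5, 3, 1, 3, 6, 2, 6, 1, 3, 1, 4, 5, 0, 0, 0, 0],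
  [1, 1, 6, 4, 2, 6, 0, 0, 0, 6, 5, 2, 0, 6, 0, 0, 0, 6, 1, 0, 0, 5, 3, 0, 6, 6, 0, 0, 0, 0, 5, 5, 0, 4, 0, 1, 0, 0, 0, 0, 0, 0, 0, 0, 0],
  [0, 0, 0, 0, 0, 0, 0, 0, 0, 0, 0, 0, 0, 0, 0, 0, 0, 0, 0, 0, 0, 0, 0, 0, 0, 0, 0, 0, 0, 0, 1, 4, 0, 5, 0, 1, 0, 0, 0, 0, 0, 0, 0, 0, 0],
  [4, 4, 3, 2, 1, 3, 0, 0, 0, 3, 6, 1, 0, 3, 0, 0, 0, 3, 4, 0, 0, 6, 5, 0, 3, 3, 0, 0, 0, 0, 4, 6, 6, 6, 0, 4, 0, 0, 0, 0, 0, 0, 0, 0, 0],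
  [4, 4, 3, 2, 1, 3, 0, 0, 0, 3, 6, 1, 0, 3, 0, 0, 0, 3, 4, 0, 0, 6, 5, 0, 3, 3, 0, 0, 0, 0, 2, 5, 3, 3, 1, 4, 1, 0, 0, 0, 0, 0, 0, 0, 0],
  [6, 3, 0, 0, 4, 1, 4, 1, 1, 4, 4, 1, 6, 2, 1, 3, 5, 0, 4, 0, 5, 4, 0, 2, 1, 5, 5, 0, 6, 3, 2, 1, 3, 0, 2, 1, 4, 0, 6, 2, 3, 6, 5, 3, 6],
  [2, 3, 4, 6, 1, 4, 0, 6, 1, 4, 2, 2, 4, 3, 6, 6, 6, 4, 1, 6, 2, 2, 2, 0, 1, 3, 5, 3, 6, 5, 0, 6, 0, 1, 1, 1, 1, 6, 6, 3, 4, 4, 1, 6, 2],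
  [1, 1, 1, 6, 3, 1, 1, 5, 4, 6, 6, 1, 6, 4, 3, 4, 6, 3, 1, 3, 3, 0, 2, 3, 2, 0, 3, 3, 4, 5, 4, 0, 0, 3, 1, 4, 5, 6, 0, 1, 4, 6, 3, 1, 3],
  [4, 4, 1, 0, 5, 6, 0, 6, 1, 6, 1, 4, 6, 6, 0, 1, 2, 0, 3, 0, 3, 5, 6, 5, 6, 3, 5, 6, 4, 0, 4, 0, 1, 1, 5, 4, 0, 4, 2, 0, 0, 3, 2, 2, 6]]

/-- the transposed matrix of the letter 8 -/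
def tZ : LM := [
  [4, 0, 0, 0, 0, 0, 0, 0, 0, 0, 0, 0, 0, 0, 0, 0, 0, 0, 0, 0, 0, 0, 0, 0, 0, 0, 0, 0, 0, 0, 0, 0, 0, 0, 0, 0, 0, 0, 0, 0, 0, 0, 0, 0, 0],
  [0, 4, 0, 0, 0, 0, 0, 0, 0, 0, 0, 0, 0, 0, 0, 0, 0, 0, 0, 0, 0, 0, 0, 0, 0, 0, 0, 0, 0, 0, 0, 0, 0, 0, 0, 0, 0, 0, 0, 0, 0, 0, 0, 0, 0],
  [0, 0, 4, 0, 0, 0, 0, 0, 0, 0, 0, 0, 0, 0, 0, 0, 0, 0, 0, 0, 0, 0, 0, 0, 0, 0, 0, 0, 0, 0, 0, 0, 0, 0, 0, 0, 0, 0, 0, 0, 0, 0, 0, 0, 0],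
  [0, 0, 0, 4, 0, 0, 0, 0, 0, 0, 0, 0, 0, 0, 0, 0, 0, 0, 0, 0, 0, 0, 0, 0, 0, 0, 0, 0, 0, 0, 0, 0, 0, 0, 0, 0, 0, 0, 0, 0, 0, 0, 0, 0, 0],
  [0, 0, 0, 0, 4, 0, 0, 0, 0, 0, 0, 0, 0, 0, 0, 0, 0, 0, 0, 0, 0, 0, 0, 0, 0, 0, 0, 0, 0, 0, 0, 0, 0, 0, 0, 0, 0, 0, 0, 0, 0, 0, 0, 0, 0],
  [0, 0, 0, 0, 0, 4, 0, 0, 0, 0, 0, 0, 0, 0, 0, 0, 0, 0, 0, 0, 0, 0, 0, 0, 0, 0, 0, 0, 0, 0, 0, 0, 0, 0, 0, 0, 0, 0, 0, 0, 0, 0, 0, 0, 0],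
  [0, 0, 0, 0, 0, 0, 4, 0, 0, 0, 0, 0, 0, 0, 0, 0, 0, 0, 0, 0, 0, 0, 0, 0, 0, 0, 0, 0, 0, 0, 0, 0, 0, 0, 0, 0, 0, 0, 0, 0, 0, 0, 0, 0, 0],
  [0, 0, 0, 0, 0, 0, 0, 4, 0, 0, 0, 0, 0, 0, 0, 0, 0, 0, 0, 0, 0, 0, 0, 0, 0, 0, 0, 0, 0, 0, 0, 0, 0, 0, 0, 0, 0, 0, 0, 0, 0, 0, 0, 0, 0],
  [0, 0, 0, 0, 0, 0, 0, 0, 4, 0, 0, 0, 0, 0, 0, 0, 0, 0, 0, 0, 0, 0, 0, 0, 0, 0, 0, 0, 0, 0, 0, 0, 0, 0, 0, 0, 0, 0, 0, 0, 0, 0, 0, 0, 0],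
  [0, 0, 0, 0, 0, 0, 0, 0, 0, 4, 0, 0, 0, 0, 0, 0, 0, 0, 0, 0, 0, 0, 0, 0, 0, 0, 0, 0, 0, 0, 0, 0, 0, 0, 0, 0, 0, 0, 0, 0, 0, 0, 0, 0, 0],
  [0, 0, 0, 0, 0, 0, 0, 0, 0, 0, 4, 0, 0, 0, 0, 0, 0, 0, 0, 0, 0, 0, 0, 0, 0, 0, 0, 0, 0, 0, 0, 0, 0, 0, 0, 0, 0, 0, 0, 0, 0, 0, 0, 0, 0],
  [0, 0, 0, 0, 0, 0, 0, 0, 0, 0, 0, 4, 0, 0, 0, 0, 0, 0, 0, 0, 0, 0, 0, 0, 0, 0, 0, 0, 0, 0, 0, 0, 0, 0, 0, 0, 0, 0, 0, 0, 0, 0, 0, 0, 0],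
  [0, 0, 0, 0, 0, 0, 0, 0, 0, 0, 0, 0, 4, 0, 0, 0, 0, 0, 0, 0, 0, 0, 0, 0, 0, 0, 0, 0, 0, 0, 0, 0, 0, 0, 0, 0, 0, 0, 0, 0, 0, 0, 0, 0, 0],
  [0, 0, 0, 0, 0, 0, 0, 0, 0, 0, 0, 0, 0, 4, 0, 0, 0, 0, 0, 0, 0, 0, 0, 0, 0, 0, 0, 0, 0, 0, 0, 0, 0, 0, 0, 0, 0, 0, 0, 0, 0, 0, 0, 0, 0],
  [0, 0, 0, 0, 0, 0, 0, 0, 0, 0, 0, 0, 0, 0, 4, 0, 0, 0, 0, 0, 0, 0, 0, 0, 0, 0, 0, 0, 0, 0, 0, 0, 0, 0, 0, 0, 0, 0, 0, 0, 0, 0, 0, 0, 0],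
  [0, 0, 0, 0, 0, 0, 0, 0, 0, 0, 0, 0, 0, 0, 0, 4, 0, 0, 0, 0, 0, 0, 0, 0, 0, 0, 0, 0, 0, 0, 0, 0, 0, 0, 0, 0, 0, 0, 0, 0, 0, 0, 0, 0, 0],
  [0, 0, 0, 0, 0, 0, 0, 0, 0, 0, 0, 0, 0, 0, 0, 0, 4, 0, 0, 0, 0, 0, 0, 0, 0, 0, 0, 0, 0, 0, 0, 0, 0, 0, 0, 0, 0, 0, 0, 0, 0, 0, 0, 0, 0],
  [0, 0, 0, 0, 0, 0, 0, 0, 0, 0, 0, 0, 0, 0, 0, 0, 0, 4, 0, 0, 0, 0, 0, 0, 0, 0, 0, 0, 0, 0, 0, 0, 0, 0, 0, 0, 0, 0, 0, 0, 0, 0, 0, 0, 0],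
  [0, 0, 0, 0, 0, 0, 0, 0, 0, 0, 0, 0, 0, 0, 0, 0, 0, 0, 4, 0, 0, 0, 0, 0, 0, 0, 0, 0, 0, 0, 0, 0, 0, 0, 0, 0, 0, 0, 0, 0, 0, 0, 0, 0, 0],
  [0, 0, 0, 0, 0, 0, 0, 0, 0, 0, 0, 0, 0, 0, 0, 0, 0, 0, 0, 4, 0, 0, 0, 0, 0, 0, 0, 0, 0, 0, 0, 0, 0, 0, 0, 0, 0, 0, 0, 0, 0, 0, 0, 0, 0],
  [0, 0, 0, 0, 0, 0, 0, 0, 0, 0, 0, 0, 0, 0, 0, 0, 0, 0, 0, 0, 4, 0, 0, 0, 0, 0, 0, 0, 0, 0, 0, 0, 0, 0, 0, 0, 0, 0, 0, 0, 0, 0, 0, 0, 0],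
  [0, 0, 0, 0, 0, 0, 0, 0, 0, 0, 0, 0, 0, 0, 0, 0, 0, 0, 0, 0, 0, 4, 0, 0, 0, 0, 0, 0, 0, 0, 0, 0, 0, 0, 0, 0, 0, 0, 0, 0, 0, 0, 0, 0, 0],
  [0, 0, 0, 0, 0, 0, 0, 0, 0, 0, 0, 0, 0, 0, 0, 0, 0, 0, 0, 0, 0, 0, 4, 0, 0, 0, 0, 0, 0, 0, 0, 0, 0, 0, 0, 0, 0, 0, 0, 0, 0, 0, 0, 0, 0],
  [0, 0, 0, 0, 0, 0, 0, 0, 0, 0, 0, 0, 0, 0, 0, 0, 0, 0, 0, 0, 0, 0, 0, 4, 0, 0, 0, 0, 0, 0, 0, 0, 0, 0, 0, 0, 0, 0, 0, 0, 0, 0, 0, 0, 0],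
  [0, 0, 0, 0, 0, 0, 0, 0, 0, 0, 0, 0, 0, 0, 0, 0, 0, 0, 0, 0, 0, 0, 0, 0, 4, 0, 0, 0, 0, 0, 0, 0, 0, 0, 0, 0, 0, 0, 0, 0, 0, 0, 0, 0, 0],
  [0, 0, 0, 0, 0, 0, 0, 0, 0, 0, 0, 0, 0, 0, 0, 0, 0, 0, 0, 0, 0, 0, 0, 0, 0, 4, 0, 0, 0, 0, 0, 0, 0, 0, 0, 0, 0, 0, 0, 0, 0, 0, 0, 0, 0],
  [0, 0, 0, 0, 0, 0, 0, 0, 0, 0, 0, 0, 0, 0, 0, 0, 0, 0, 0, 0, 0, 0, 0, 0, 0, 0, 4, 0, 0, 0, 0, 0, 0, 0, 0, 0, 0, 0, 0, 0, 0, 0, 0, 0, 0],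
  [0, 0, 0, 0, 0, 0, 0, 0, 0, 0, 0, 0, 0, 0, 0, 0, 0, 0, 0, 0, 0, 0, 0, 0, 0, 0, 0, 4, 0, 0, 0, 0, 0, 0, 0, 0, 0, 0, 0, 0, 0, 0, 0, 0, 0],
  [0, 0, 0, 0, 0, 0, 0, 0, 0, 0, 0, 0, 0, 0, 0, 0, 0, 0, 0, 0, 0, 0, 0, 0, 0, 0, 0, 0, 4, 0, 0, 0, 0, 0, 0, 0, 0, 0, 0, 0, 0, 0, 0, 0, 0],
  [0, 0, 0, 0, 0, 0, 0, 0, 0, 0, 0, 0, 0, 0, 0, 0, 0, 0, 0, 0, 0, 0, 0, 0, 0, 0, 0, 0, 0, 4, 0, 0, 0, 0, 0, 0, 0, 0, 0, 0, 0, 0, 0, 0, 0],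
  [0, 0, 0, 0, 0, 0, 0, 0, 0, 0, 0, 0, 0, 0, 0, 0, 0, 0, 0, 0, 0, 0, 0, 0, 0, 0, 0, 0, 0, 0, 4, 0, 0, 0, 0, 0, 0, 0, 0, 0, 0, 0, 0, 0, 0],
  [0, 0, 0, 0, 0, 0, 0, 0, 0, 0, 0, 0, 0, 0, 0, 0, 0, 0, 0, 0, 0, 0, 0, 0, 0, 0, 0, 0, 0, 0, 0, 4, 0, 0, 0, 0, 0, 0, 0, 0, 0, 0, 0, 0, 0],
  [0, 0, 0, 0, 0, 0, 0, 0, 0, 0, 0, 0, 0, 0, 0, 0, 0, 0, 0, 0, 0, 0, 0, 0, 0, 0, 0, 0, 0, 0, 0, 0, 4, 0, 0, 0, 0, 0, 0, 0, 0, 0, 0, 0, 0],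
  [0, 0, 0, 0, 0, 0, 0, 0, 0, 0, 0, 0, 0, 0, 0, 0, 0, 0, 0, 0, 0, 0, 0, 0, 0, 0, 0, 0, 0, 0, 0, 0, 0, 4, 0, 0, 0, 0, 0, 0, 0, 0, 0, 0, 0],
  [0, 0, 0, 0, 0, 0, 0, 0, 0, 0, 0, 0, 0, 0, 0, 0, 0, 0, 0, 0, 0, 0, 0, 0, 0, 0, 0, 0, 0, 0, 0, 0, 0, 0, 4, 0, 0, 0, 0, 0, 0, 0, 0, 0, 0],
  [0, 0, 0, 0, 0, 0, 0, 0, 0, 0, 0, 0, 0, 0, 0, 0, 0, 0, 0, 0, 0, 0, 0, 0, 0, 0, 0, 0, 0, 0, 0, 0, 0, 0, 0, 4, 0, 0, 0, 0, 0, 0, 0, 0, 0],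
  [0, 0, 0, 0, 0, 0, 0, 0, 0, 0, 0, 0, 0, 0, 0, 0, 0, 0, 0, 0, 0, 0, 0, 0, 0, 0, 0, 0, 0, 0, 0, 0, 0, 0, 0, 0, 4, 0, 0, 0, 0, 0, 0, 0, 0],
  [0, 0, 0, 0, 0, 0, 0, 0, 0, 0, 0, 0, 0, 0, 0, 0, 0, 0, 0, 0, 0, 0, 0, 0, 0, 0, 0, 0, 0, 0, 0, 0, 0, 0, 0, 0, 0, 4, 0, 0, 0, 0, 0, 0, 0],
  [0, 0, 0, 0, 0, 0, 0, 0, 0, 0, 0, 0, 0, 0, 0, 0, 0, 0, 0, 0, 0, 0, 0, 0, 0, 0, 0, 0, 0, 0, 0, 0, 0, 0, 0, 0, 0, 0, 4, 0, 0, 0, 0, 0, 0],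
  [0, 0, 0, 0, 0, 0, 0, 0, 0, 0, 0, 0, 0, 0, 0, 0, 0, 0, 0, 0, 0, 0, 0, 0, 0, 0, 0, 0, 0, 0, 0, 0, 0, 0, 0, 0, 0, 0, 0, 4, 0, 0, 0, 0, 0],
  [0, 0, 0, 0, 0, 0, 0, 0, 0, 0, 0, 0, 0, 0, 0, 0, 0, 0, 0, 0, 0, 0, 0, 0, 0, 0, 0, 0, 0, 0, 0, 0, 0, 0, 0, 0, 0, 0, 0, 0, 4, 0, 0, 0, 0],
  [0, 0, 0, 0, 0, 0, 0, 0, 0, 0, 0, 0, 0, 0, 0, 0, 0, 0, 0, 0, 0, 0, 0, 0, 0, 0, 0, 0, 0, 0, 0, 0, 0, 0, 0, 0, 0, 0, 0, 0, 0, 4, 0, 0, 0],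
  [0, 0, 0, 0, 0, 0, 0, 0, 0, 0, 0, 0, 0, 0, 0, 0, 0, 0, 0, 0, 0, 0, 0, 0, 0, 0, 0, 0, 0, 0, 0, 0, 0, 0, 0, 0, 0, 0, 0, 0, 0, 0, 4, 0, 0],
  [0, 0, 0, 0, 0, 0, 0, 0, 0, 0, 0, 0, 0, 0, 0, 0, 0, 0, 0, 0, 0, 0, 0, 0, 0, 0, 0, 0, 0, 0, 0, 0, 0, 0, 0, 0, 0, 0, 0, 0, 0, 0, 0, 4, 0],
  [0, 0, 0, 0, 0, 0, 0, 0, 0, 0, 0, 0, 0, 0, 0, 0, 0, 0, 0, 0, 0, 0, 0, 0, 0, 0, 0, 0, 0, 0, 0, 0, 0, 0, 0, 0, 0, 0, 0, 0, 0, 0, 0, 0, 4]]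

/-- the transposed matrix of the letter 9 -/
def tZi : LM := [
  [2, 0, 0, 0, 0, 0, 0, 0, 0, 0, 0, 0, 0, 0, 0, 0, 0, 0, 0, 0, 0, 0, 0, 0, 0, 0, 0, 0, 0, 0, 0, 0, 0, 0, 0, 0, 0, 0, 0, 0, 0, 0, 0, 0, 0],
  [0, 2, 0, 0, 0, 0, 0, 0, 0, 0, 0, 0, 0, 0, 0, 0, 0, 0, 0, 0, 0, 0, 0, 0, 0, 0, 0, 0, 0, 0, 0, 0, 0, 0, 0, 0, 0, 0, 0, 0, 0, 0, 0, 0, 0],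
  [0, 0, 2, 0, 0, 0, 0, 0, 0, 0, 0, 0, 0, 0, 0, 0, 0, 0, 0, 0, 0, 0, 0, 0, 0, 0, 0, 0, 0, 0, 0, 0, 0, 0, 0, 0, 0, 0, 0, 0, 0, 0, 0, 0, 0],
  [0, 0, 0, 2, 0, 0, 0, 0, 0, 0, 0, 0, 0, 0, 0, 0, 0, 0, 0, 0, 0, 0, 0, 0, 0, 0, 0, 0, 0, 0, 0, 0, 0, 0, 0, 0, 0, 0, 0, 0, 0, 0, 0, 0, 0],
  [0, 0, 0, 0, 2, 0, 0, 0, 0, 0, 0, 0, 0, 0, 0, 0, 0, 0, 0, 0, 0, 0, 0, 0, 0, 0, 0, 0, 0, 0, 0, 0, 0, 0, 0, 0, 0, 0, 0, 0, 0, 0, 0, 0, 0],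
  [0, 0, 0, 0, 0, 2, 0, 0, 0, 0, 0, 0, 0, 0, 0, 0, 0, 0, 0, 0, 0, 0, 0, 0, 0, 0, 0, 0, 0, 0, 0, 0, 0, 0, 0, 0, 0, 0, 0, 0, 0, 0, 0, 0, 0],
  [0, 0, 0, 0, 0, 0, 2, 0, 0, 0, 0, 0, 0, 0, 0, 0, 0, 0, 0, 0, 0, 0, 0, 0, 0, 0, 0, 0, 0, 0, 0, 0, 0, 0, 0, 0, 0, 0, 0, 0, 0, 0, 0, 0, 0],
  [0, 0, 0, 0, 0, 0, 0, 2, 0, 0, 0, 0, 0, 0, 0, 0, 0, 0, 0, 0, 0, 0, 0, 0, 0, 0, 0, 0, 0, 0, 0, 0, 0, 0, 0, 0, 0, 0, 0, 0, 0, 0, 0, 0, 0],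
  [0, 0, 0, 0, 0, 0, 0, 0, 2, 0, 0, 0, 0, 0, 0, 0, 0, 0, 0, 0, 0, 0, 0, 0, 0, 0, 0, 0, 0, 0, 0, 0, 0, 0, 0, 0, 0, 0, 0, 0, 0, 0, 0, 0, 0],
  [0, 0, 0, 0, 0, 0, 0, 0, 0, 2, 0, 0, 0, 0, 0, 0, 0, 0, 0, 0, 0, 0, 0, 0, 0, 0, 0, 0, 0, 0, 0, 0, 0, 0, 0, 0, 0, 0, 0, 0, 0, 0, 0, 0, 0],
  [0, 0, 0, 0, 0, 0, 0, 0, 0, 0, 2, 0, 0, 0, 0, 0, 0, 0, 0, 0, 0, 0, 0, 0, 0, 0, 0, 0, 0, 0, 0, 0, 0, 0, 0, 0, 0, 0, 0, 0, 0, 0, 0, 0, 0],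
  [0, 0, 0, 0, 0, 0, 0, 0, 0, 0, 0, 2, 0, 0, 0, 0, 0, 0, 0, 0, 0, 0, 0, 0, 0, 0, 0, 0, 0, 0, 0, 0, 0, 0, 0, 0, 0, 0, 0, 0, 0, 0, 0, 0, 0],
  [0, 0, 0, 0, 0, 0, 0, 0, 0, 0, 0, 0, 2, 0, 0, 0, 0, 0, 0, 0, 0, 0, 0, 0, 0, 0, 0, 0, 0, 0, 0, 0, 0, 0, 0, 0, 0, 0, 0, 0, 0, 0, 0, 0, 0],
  [0, 0, 0, 0, 0, 0, 0, 0, 0, 0, 0, 0, 0, 2, 0, 0, 0, 0, 0, 0, 0, 0, 0, 0, 0, 0, 0, 0, 0, 0, 0, 0, 0, 0, 0, 0, 0, 0, 0, 0, 0, 0, 0, 0, 0],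
  [0, 0, 0, 0, 0, 0, 0, 0, 0, 0, 0, 0, 0, 0, 2, 0, 0, 0, 0, 0, 0, 0, 0, 0, 0, 0, 0, 0, 0, 0, 0, 0, 0, 0, 0, 0, 0, 0, 0, 0, 0, 0, 0, 0, 0],
  [0, 0, 0, 0, 0, 0, 0, 0, 0, 0, 0, 0, 0, 0, 0, 2, 0, 0, 0, 0, 0, 0, 0, 0, 0, 0, 0, 0, 0, 0, 0, 0, 0, 0, 0, 0, 0, 0, 0, 0, 0, 0, 0, 0, 0],
  [0, 0, 0, 0, 0, 0, 0, 0, 0, 0, 0, 0, 0, 0, 0, 0, 2, 0, 0, 0, 0, 0, 0, 0, 0, 0, 0, 0, 0, 0, 0, 0, 0, 0, 0, 0, 0, 0, 0, 0, 0, 0, 0, 0, 0],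
  [0, 0, 0, 0, 0, 0, 0, 0, 0, 0, 0, 0, 0, 0, 0, 0, 0, 2, 0, 0, 0, 0, 0, 0, 0, 0, 0, 0, 0, 0, 0, 0, 0, 0, 0, 0, 0, 0, 0, 0, 0, 0, 0, 0, 0],
  [0, 0, 0, 0, 0, 0, 0, 0, 0, 0, 0, 0, 0, 0, 0, 0, 0, 0, 2, 0, 0, 0, 0, 0, 0, 0, 0, 0, 0, 0, 0, 0, 0, 0, 0, 0, 0, 0, 0, 0, 0, 0, 0, 0, 0],
  [0, 0, 0, 0, 0, 0, 0, 0, 0, 0, 0, 0, 0, 0, 0, 0, 0, 0, 0, 2, 0, 0, 0, 0, 0, 0, 0, 0, 0, 0, 0, 0, 0, 0, 0, 0, 0, 0, 0, 0, 0, 0, 0, 0, 0],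
  [0, 0, 0, 0, 0, 0, 0, 0, 0, 0, 0, 0, 0, 0, 0, 0, 0, 0, 0, 0, 2, 0, 0, 0, 0, 0, 0, 0, 0, 0, 0, 0, 0, 0, 0, 0, 0, 0, 0, 0, 0, 0, 0, 0, 0],
  [0, 0, 0, 0, 0, 0, 0, 0, 0, 0, 0, 0, 0, 0, 0, 0, 0, 0, 0, 0, 0, 2, 0, 0, 0, 0, 0, 0, 0, 0, 0, 0, 0, 0, 0, 0, 0, 0, 0, 0, 0, 0, 0, 0, 0],
  [0, 0, 0, 0, 0, 0, 0, 0, 0, 0, 0, 0, 0, 0, 0, 0, 0, 0, 0, 0, 0, 0, 2, 0, 0, 0, 0, 0, 0, 0, 0, 0, 0, 0, 0, 0, 0, 0, 0, 0, 0, 0, 0, 0, 0],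
  [0, 0, 0, 0, 0, 0, 0, 0, 0, 0, 0, 0, 0, 0, 0, 0, 0, 0, 0, 0, 0, 0, 0, 2, 0, 0, 0, 0, 0, 0, 0, 0, 0, 0, 0, 0, 0, 0, 0, 0, 0, 0, 0, 0, 0],
  [0, 0, 0, 0, 0, 0, 0, 0, 0, 0, 0, 0, 0, 0, 0, 0, 0, 0, 0, 0, 0, 0, 0, 0, 2, 0, 0, 0, 0, 0, 0, 0, 0, 0, 0, 0, 0, 0, 0, 0, 0, 0, 0, 0, 0],
  [0, 0, 0, 0, 0, 0, 0, 0, 0, 0, 0, 0, 0, 0, 0, 0, 0, 0, 0, 0, 0, 0, 0, 0, 0, 2, 0, 0, 0, 0, 0, 0, 0, 0, 0, 0, 0, 0, 0, 0, 0, 0, 0, 0, 0],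
  [0, 0, 0, 0, 0, 0, 0, 0, 0, 0, 0, 0, 0, 0, 0, 0, 0, 0, 0, 0, 0, 0, 0, 0, 0, 0, 2, 0, 0, 0, 0, 0, 0, 0, 0, 0, 0, 0, 0, 0, 0, 0, 0, 0, 0],
  [0, 0, 0, 0, 0, 0, 0, 0, 0, 0, 0, 0, 0, 0, 0, 0, 0, 0, 0, 0, 0, 0, 0, 0, 0, 0, 0, 2, 0, 0, 0, 0, 0, 0, 0, 0, 0, 0, 0, 0, 0, 0, 0, 0, 0],
  [0, 0, 0, 0, 0, 0, 0, 0, 0, 0, 0, 0, 0, 0, 0, 0, 0, 0, 0, 0, 0, 0, 0, 0, 0, 0, 0, 0, 2, 0, 0, 0, 0, 0, 0, 0, 0, 0, 0, 0, 0, 0, 0, 0, 0],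
  [0, 0, 0, 0, 0, 0, 0, 0, 0, 0, 0, 0, 0, 0, 0, 0, 0, 0, 0, 0, 0, 0, 0, 0, 0, 0, 0, 0, 0, 2, 0, 0, 0, 0, 0, 0, 0, 0, 0, 0, 0, 0, 0, 0, 0],
  [0, 0, 0, 0, 0, 0, 0, 0, 0, 0, 0, 0, 0, 0, 0, 0, 0, 0, 0, 0, 0, 0, 0, 0, 0, 0, 0, 0, 0, 0, 2, 0, 0, 0, 0, 0, 0, 0, 0, 0, 0, 0, 0, 0, 0],
  [0, 0, 0, 0, 0, 0, 0, 0, 0, 0, 0, 0, 0, 0, 0, 0, 0, 0, 0, 0, 0, 0, 0, 0, 0, 0, 0, 0, 0, 0, 0, 2, 0, 0, 0, 0, 0, 0, 0, 0, 0, 0, 0, 0, 0],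
  [0, 0, 0, 0, 0, 0, 0, 0, 0, 0, 0, 0, 0, 0, 0, 0, 0, 0, 0, 0, 0, 0, 0, 0, 0, 0, 0, 0, 0, 0, 0, 0, 2, 0, 0, 0, 0, 0, 0, 0, 0, 0, 0, 0, 0],
  [0, 0, 0, 0, 0, 0, 0, 0, 0, 0, 0, 0, 0, 0, 0, 0, 0, 0, 0, 0, 0, 0, 0, 0, 0, 0, 0, 0, 0, 0, 0, 0, 0, 2, 0, 0, 0, 0, 0, 0, 0, 0, 0, 0, 0],
  [0, 0, 0, 0, 0, 0, 0, 0, 0, 0, 0, 0, 0, 0, 0, 0, 0, 0, 0, 0, 0, 0, 0, 0, 0, 0, 0, 0, 0, 0, 0, 0, 0, 0, 2, 0, 0, 0, 0, 0, 0, 0, 0, 0, 0],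
  [0, 0, 0, 0, 0, 0, 0, 0, 0, 0, 0, 0, 0, 0, 0, 0, 0, 0, 0, 0, 0, 0, 0, 0, 0, 0, 0, 0, 0, 0, 0, 0, 0, 0, 0, 2, 0, 0, 0, 0, 0, 0, 0, 0, 0],
  [0, 0, 0, 0, 0, 0, 0, 0, 0, 0, 0, 0, 0, 0, 0, 0, 0, 0, 0, 0, 0, 0, 0, 0, 0, 0, 0, 0, 0, 0, 0, 0, 0, 0, 0, 0, 2, 0, 0, 0, 0, 0, 0, 0, 0],
  [0, 0, 0, 0, 0, 0, 0, 0, 0, 0, 0, 0, 0, 0, 0, 0, 0, 0, 0, 0, 0, 0, 0, 0, 0, 0, 0, 0, 0, 0, 0, 0, 0, 0, 0, 0, 0, 2, 0, 0, 0, 0, 0, 0, 0],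
  [0, 0, 0, 0, 0, 0, 0, 0, 0, 0, 0, 0, 0, 0, 0, 0, 0, 0, 0, 0, 0, 0, 0, 0, 0, 0, 0, 0, 0, 0, 0, 0, 0, 0, 0, 0, 0, 0, 2, 0, 0, 0, 0, 0, 0],
  [0, 0, 0, 0, 0, 0, 0, 0, 0, 0, 0, 0, 0, 0, 0, 0, 0, 0, 0, 0, 0, 0, 0, 0, 0, 0, 0, 0, 0, 0, 0, 0, 0, 0, 0, 0, 0, 0, 0, 2, 0, 0, 0, 0, 0],
  [0, 0, 0, 0, 0, 0, 0, 0, 0, 0, 0, 0, 0, 0, 0, 0, 0, 0, 0, 0, 0, 0, 0, 0, 0, 0, 0, 0, 0, 0, 0, 0, 0, 0, 0, 0, 0, 0, 0, 0, 2, 0, 0, 0, 0],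
  [0, 0, 0, 0, 0, 0, 0, 0, 0, 0, 0, 0, 0, 0, 0, 0, 0, 0, 0, 0, 0, 0, 0, 0, 0, 0, 0, 0, 0, 0, 0, 0, 0, 0, 0, 0, 0, 0, 0, 0, 0, 2, 0, 0, 0],
  [0, 0, 0, 0, 0, 0, 0, 0, 0, 0, 0, 0, 0, 0, 0, 0, 0, 0, 0, 0, 0, 0, 0, 0, 0, 0, 0, 0, 0, 0, 0, 0, 0, 0, 0, 0, 0, 0, 0, 0, 0, 0, 2, 0, 0],
  [0, 0, 0, 0, 0, 0, 0, 0, 0, 0, 0, 0, 0, 0, 0, 0, 0, 0, 0, 0, 0, 0, 0, 0, 0, 0, 0, 0, 0, 0, 0, 0, 0, 0, 0, 0, 0, 0, 0, 0, 0, 0, 0, 2, 0],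
  [0, 0, 0, 0, 0, 0, 0, 0, 0, 0, 0, 0, 0, 0, 0, 0, 0, 0, 0, 0, 0, 0, 0, 0, 0, 0, 0, 0, 0, 0, 0, 0, 0, 0, 0, 0, 0, 0, 0, 0, 0, 0, 0, 0, 2]]

/-- the transposed matrices of the letters -/
def tbl : List LM := [tA, tB, tC, tD, tE, tF, tG, tGi, tZ, tZi]

/-- the transposed matrix of a letter -/
def T (x : ℕ) : LM := tbl.getD x idL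

theorem wf_tbl : (tbl.all wfM) = true := by decide +kernel

theorem wf_idL : wfM idL = true := by decide +kernel

theorem wf_T (x : ℕ) : wfM (T x) = true := by
  unfold T
  by_cases h : x < tbl.length
  · rw [List.getD_eq_getElem _ _ h]
    exact List.all_eq_true.1 wf_tbl _ (List.getElem_mem h)
  · rw [List.getD_eq_default _ _ (not_lt.1 h)]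
    exact wf_idL

end Cfsg.Agent.Lib.Lead.ON45
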