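import Cfsg.Agent.Lib.Lead.ON45.Words
import Cfsg.Agent.Lib.Lead.ON3.Cover

/-! # The triple cover of the presented O'Nan group acts on a space of dimension 45 over the field with seven elements

The matrices of the letters satisfy the relators of the cover (checked in `Chk0 … Chk5`, collected in `Words`), so they give a homomorphism
`phi : Cov →* GL₄₅(𝔽₇)`, and the central element `z` goes to the scalar matrix `4`. -/

set_option autoImplicit false
set_option maxRecDepth 100000
set_option maxHeartbeats 4000000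
set_option linter.unusedSimpArgs false
set_option linter.constructorNameAsVariable false

noncomputable section

namespace Cfsg.Agent.Lib.Lead.ON45

open Matrix Cfsg.Spor Cfsg.Agent.Lib.Lead.ON3 Cfsg.Agent.Lib.Helper6.TCG

/-- the matrix of a letter -/
def mat (x : ℕ) : M45 := (ev (T x))ᵀ

theorem word_one {w : List ℕ} (hw : w ∈ allWords) : (w.map mat).prod = 1 := by
  have h := ev_evalW T wf_T w
  rw [mem_chk hw, ev_idL] at h
  exact h.symm

/-- the inverse letter -/
def ivl (x : ℕ) : ℕ :=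
  if x = 6 then 7 else if x = 7 then 6 else if x = 8 then 9 else if x = 9 then 8 else x

theorem ivl_ivl (x : ℕ) : ivl (ivl x) = x := by
  unfold ivl
  split_ifs <;> omega

theorem mat_big {x : ℕ} (hx : 10 ≤ x) : mat x = 1 := by
  unfold mat T
  rw [List.getD_eq_default _ _ (by simpa [tbl] using hx), ev_idL, Matrix.transpose_one]

theorem ivl_big {x : ℕ} (hx : 10 ≤ x) : ivl x = x := by
  unfold ivl
  split_ifs <;> omega

theorem mat_mul_ivl (x : ℕ) : mat x * mat (ivl x) = 1 := by
  by_cases hx : x < 10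
  · have key : ∀ y, y < 10 → [y, ivl y] ∈ allWords := by decide +kernel
    have := word_one (key x hx)
    simpa using this
  · rw [ivl_big (not_lt.1 hx), mat_big (not_lt.1 hx), mul_one]

/-- the unit of a letter -/
def F (x : ℕ) : M45ˣ :=
  ⟨mat x, mat (ivl x), mat_mul_ivl x, by simpa [ivl_ivl] using mat_mul_ivl (ivl x)⟩

theorem F_inv (x : ℕ) : (F x)⁻¹ = F (ivl x) := by
  apply Units.ext
  show mat (ivl x) = mat (ivl x)
  rfl

theorem F_word {w : List ℕ} (hw : w ∈ allWords) : (w.map F).prod = 1 := by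
  apply Units.ext
  have h := map_list_prod (Units.coeHom M45) (w.map F)
  rw [List.map_map] at h
  have h2 : (w.map (⇑(Units.coeHom M45) ∘ F)) = w.map mat := by
    apply List.map_congr_left
    intro x _
    rfl
  rw [h2, word_one hw] at h
  exact h

/-- the image of a generator -/
def fgen (c : CGen) : M45ˣ := F (ccode c)

theorem prod_replicate_pair (i j m : ℕ) :
    (((List.replicate m [i, j]).flatten).map F).prod = (F i * F j) ^ m := by
  induction m with
  | zero => simp
  | succ m ih =>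
    rw [List.replicate_succ, List.flatten_cons, List.map_append, List.prod_append, ih, pow_succ']
    simp

/-- the labels of the graph on the letters -/
def lab (i j : ℕ) : ℕ :=
  if i = j then 1 else if (i = 2 ∧ j = 3) ∨ (i = 3 ∧ j = 2) then 8 else if i + 1 = j ∨ j + 1 = i then 3 else 2

theorem cox_ok : ∀ x ∈ coxNodes cedges, ∀ y ∈ coxNodes cedges,
    (fgen x * fgen y) ^ coxLabel cedges x y = 1 := by
  have h1 : ∀ x ∈ coxNodes cedges, ∀ y ∈ coxNodes cedges,
      coxLabel cedges x y = lab (ccode x) (ccode y) ∧ ccode x < 6 ∧ ccode y < 6 := by decide +kernel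
  have h2 : ∀ i, i < 6 → ∀ j, j < 6 → (List.replicate (lab i j) [i, j]).flatten ∈ allWords := by decide +kernel
  intro x hx y hy
  obtain ⟨e1, e2, e3⟩ := h1 x hx y hy
  rw [e1]
  unfold fgen
  rw [← prod_replicate_pair]
  exact F_word (h2 _ e2 _ e3)

/-- the further relators of the cover as powers of words of letters -/
def extraPow45 : List (List ℕ × ℕ) := [([0, 5, 7, 7], 1), ([0, 5, 3, 2, 3, 2, 3, 2, 3, 2], 1), ([2, 7, 3, 7, 3, 2, 3, 6, 3, 6], 1), ([3, 7, 2, 7, 2, 3, 2, 6, 2, 6], 1), ([1, 2, 3, 6, 1, 2, 3, 6, 1, 2, 3, 6, 1, 2, 3, 6, 1, 2, 3, 6, 9], 1), ([6, 1, 2, 6, 2, 1, 6, 1, 2, 6, 2, 9], 1), ([6, 4, 3, 6, 3, 4, 6, 4, 3, 6, 3, 9], 1), ([8, 6, 9, 7], 1), ([8, 0, 9, 0], 1), ([8, 1, 9, 1], 1), ([8, 2, 9, 2], 1), ([8, 3, 9, 3], 1), ([8, 4, 9, 4], 1), ([8, 5, 9, 5], 1), ([8], 3)]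

theorem extra_iff45 {K : Type} [Group K] (f : CGen → K)
    (hf : ∀ a ∈ coxNodes cedges, f a * f a = 1) :
    (∀ r ∈ cextra, FreeGroup.lift f r = 1) ↔
      ∀ p ∈ extraPow45, (((List.replicate p.2 p.1).flatten).map
        (fun x => FreeGroup.lift f (Cfsg.Agent.Lib.Helper6.TCG.lt cgen csgn x))).prod = 1 := by
  have ha : (f .a)⁻¹ = f .a := inv_eq_of_mul_eq_one_left (hf _ (by decide))
  have hb : (f .b)⁻¹ = f .b := inv_eq_of_mul_eq_one_left (hf _ (by decide))
  have hc : (f .c)⁻¹ = f .c := inv_eq_of_mul_eq_one_left (hf _ (by decide))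
  have hd : (f .d)⁻¹ = f .d := inv_eq_of_mul_eq_one_left (hf _ (by decide))
  have he : (f .e)⁻¹ = f .e := inv_eq_of_mul_eq_one_left (hf _ (by decide))
  have hff : (f .f)⁻¹ = f .f := inv_eq_of_mul_eq_one_left (hf _ (by decide))
  simp only [cextra, extraPow45, List.forall_mem_cons, List.not_mem_nil, false_imp_iff,
    implies_true, and_true, IsEmpty.forall_iff]
  simp only [CGen.wg, CGen.wa, CGen.wb, CGen.wc, CGen.wd, CGen.we, CGen.wf, CGen.wz, map_mul, map_inv, map_pow,
    FreeGroup.lift_apply_of, List.map_cons, List.map_nil, List.prod_cons, List.prod_nil, cgen, csgn, Cfsg.Agent.Lib.Helper6.TCG.lt,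
    List.replicate, List.flatten_cons, List.flatten_nil, List.cons_append, List.nil_append, List.append_nil,
    cond_true, cond_false,
    _root_.mul_inv_rev, inv_pow, inv_inv, ha, hb, hc, hd, he, hff, pow_succ, pow_zero, one_mul, mul_one, mul_assoc]

theorem lift_lt45 (x : ℕ) (hx : x < 10) : FreeGroup.lift fgen (Cfsg.Agent.Lib.Helper6.TCG.lt cgen csgn x) = F x := by
  interval_cases x <;>
    simp [Cfsg.Agent.Lib.Helper6.TCG.lt, cgen, csgn, fgen, ccode, F_inv, ivl]

theorem extra_words_ok : ∀ p ∈ extraPow45, (List.replicate p.2 p.1).flatten ∈ allWords ∧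
    ∀ x ∈ (List.replicate p.2 p.1).flatten, x < 10 := by decide +kernel

theorem hnode45 : ∀ a ∈ coxNodes cedges, fgen a * fgen a = 1 := by
  intro a ha
  have := cox_ok a ha a ha
  have hl : coxLabel cedges a a = 1 := by simp [coxLabel]
  rwa [hl, pow_one] at this

theorem extra_pow_ok (p : List ℕ × ℕ) (hp : p ∈ extraPow45) :
    (((List.replicate p.2 p.1).flatten).map
      (fun x => FreeGroup.lift fgen (Cfsg.Agent.Lib.Helper6.TCG.lt cgen csgn x))).prod = 1 := by
  obtain ⟨hm, hl⟩ := extra_words_ok p hp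
  have : ((List.replicate p.2 p.1).flatten.map
      fun x => FreeGroup.lift fgen (Cfsg.Agent.Lib.Helper6.TCG.lt cgen csgn x)) =
      (List.replicate p.2 p.1).flatten.map F := by
    apply List.map_congr_left
    intro x hx
    exact lift_lt45 x (hl x hx)
  rw [this]
  exact F_word hm

theorem extra_ok : ∀ r ∈ cextra, FreeGroup.lift fgen r = 1 := by
  have h := @extra_iff45 M45ˣ _ fgen hnode45
  exact h.2 extra_pow_ok

theorem lift_eq_one45 : ∀ r ∈ crels, FreeGroup.lift fgen r = 1 := by
  intro r hr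
  rcases hr with ⟨x, hx, y, hy, rfl⟩ | hr
  · rw [map_pow, map_mul, FreeGroup.lift_apply_of, FreeGroup.lift_apply_of]
    exact cox_ok x hx y hy
  · exact extra_ok r hr

/-- the action of the cover on the space of dimension 45 -/
def phi : Cov →* M45ˣ := PresentedGroup.toGroup lift_eq_one45

theorem phi_zC : phi zC = F 8 := by
  unfold phi zC cg
  rw [PresentedGroup.toGroup.of]
  rfl

theorem F8_ne_one : F 8 ≠ 1 := by
  intro h
  have h1 : ((F 8 : M45ˣ) : M45) 0 0 = (1 : M45) 0 0 := by rw [h]; rfl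
  have h2 : ((F 8 : M45ˣ) : M45) 0 0 = 4 := by
    show (ev (T 8))ᵀ 0 0 = 4
    rw [Matrix.transpose_apply]
    unfold ev
    decide +kernel
  rw [h2, Matrix.one_apply_eq] at h1
  exact absurd h1 (by decide)

end Cfsg.Agent.Lib.Lead.ON45
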