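import Mathlib

/-! # Square matrices of size 45 over the field with seven elements, as lists of rows of natural numbers

The product `mulT P T` takes its second argument transposed: its rows are the columns of the right factor. A word in
letters is evaluated from the left, starting from the identity; the kernel computes with lists of natural numbers, and
`ev_evalW` moves the result to Mathlib's matrices. -/

set_option autoImplicit false

namespace Cfsg.Agent.Lib.Lead.ON45

open Matrix

/-- the matrices -/
abbrev M45 : Type := Matrix (Fin 45) (Fin 45) (ZMod 7)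

/-- matrices as lists of rows -/
abbrev LM : Type := List (List ℕ)

/-- the dot product of two lists -/
def ldot : List ℕ → List ℕ → ℕ
  | a :: r, b :: c => a * b + ldot r c
  | [], _ => 0
  | _ :: _, [] => 0

/-- the product of `P` with the transpose of `T`, reduced modulo 7 -/
def mulT (P T : LM) : LM := P.map fun r => T.map fun c => ldot r c % 7

/-- the identity matrix -/
def idL : LM := (List.range 45).map fun i => (List.range 45).map fun j => if i = j then 1 else 0

/-- the matrix of a list of rows -/
def ev (A : LM) : M45 := fun i j => (((A.getD i.1 []).getD j.1 0 : ℕ) : ZMod 7)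

/-- all rows are there and have the right length -/
def wfM (A : LM) : Bool := A.length == 45 && A.all fun r => r.length == 45

theorem ldot_nil_right (r : List ℕ) : ldot r [] = 0 := by
  cases r <;> rfl

theorem ldot_cast (n : ℕ) : ∀ (r c : List ℕ), c.length = n →
    ((ldot r c : ℕ) : ZMod 7) = ∑ k : Fin n, ((r.getD k.1 0 : ℕ) : ZMod 7) * ((c.getD k.1 0 : ℕ) : ZMod 7) := by
  induction n with
  | zero =>
    intro r c hc
    have : c = [] := List.length_eq_zero_iff.1 hc
    subst this
    simp [ldot_nil_right]
  | succ n ih =>
    intro r c hc
    match c, hc with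
    | b :: c', hc =>
      have hc' : c'.length = n := by simpa using hc
      match r with
      | [] =>
        simp [ldot]
      | a :: r' =>
        rw [Fin.sum_univ_succ]
        simp only [ldot, Nat.cast_add, Nat.cast_mul, Fin.val_zero, List.getD_cons_zero, Fin.val_succ,
          List.getD_cons_succ]
        rw [ih r' c' hc']

theorem wfM_length {A : LM} (h : wfM A = true) : A.length = 45 := by
  unfold wfM at h
  rw [Bool.and_eq_true] at h
  exact beq_iff_eq.1 h.1

theorem wfM_row {A : LM} (h : wfM A = true) {r : List ℕ} (hr : r ∈ A) : r.length = 45 := by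
  unfold wfM at h
  rw [Bool.and_eq_true] at h
  exact beq_iff_eq.1 (List.all_eq_true.1 h.2 r hr)

theorem mulT_length (P T : LM) : (mulT P T).length = P.length := by
  unfold mulT
  rw [List.length_map]

theorem ev_mulT {P T : LM} (hP : P.length = 45) (hT : wfM T = true) :
    ev (mulT P T) = ev P * (ev T)ᵀ := by
  have hTl := wfM_length hT
  ext i j
  have hi : i.1 < P.length := by rw [hP]; exact i.2
  have hj : j.1 < T.length := by rw [hTl]; exact j.2
  have hi' : i.1 < (mulT P T).length := by rw [mulT_length]; exact hi
  rw [Matrix.mul_apply]
  simp only [Matrix.transpose_apply, ev]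
  rw [List.getD_eq_getElem _ _ hi', List.getD_eq_getElem _ _ hi]
  have h1 : (mulT P T)[i.1] = T.map fun c => ldot P[i.1] c % 7 := by
    simp [mulT]
  rw [h1]
  have hj' : j.1 < (T.map fun c => ldot P[i.1] c % 7).length := by rw [List.length_map]; exact hj
  rw [List.getD_eq_getElem _ _ hj', List.getElem_map, ZMod.natCast_mod,
    ldot_cast 45 _ _ (wfM_row hT (List.getElem_mem hj))]
  apply Finset.sum_congr rfl
  intro k _
  rw [List.getD_eq_getElem (l := T) _ hj]

theorem ev_idL : ev idL = 1 := by
  ext i j
  have hi : i.1 < idL.length := by simp [idL]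
  simp only [ev]
  rw [List.getD_eq_getElem _ _ hi]
  have h1 : idL[i.1] = (List.range 45).map fun j => if i.1 = j then 1 else 0 := by
    simp [idL]
  rw [h1]
  have hj : j.1 < ((List.range 45).map fun j => if i.1 = j then 1 else 0).length := by simp
  rw [List.getD_eq_getElem _ _ hj, List.getElem_map, List.getElem_range, Matrix.one_apply]
  by_cases h : i = j
  · subst h
    simp
  · have : i.1 ≠ j.1 := fun h' => h (Fin.ext h')
    simp [h, this]

/-- a word of letters, evaluated from the left -/
def evalW (T : ℕ → LM) (w : List ℕ) : LM := w.foldl (fun P x => mulT P (T x)) idL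

theorem ev_foldl (T : ℕ → LM) (hT : ∀ x, wfM (T x) = true) (w : List ℕ) :
    ∀ P : LM, P.length = 45 →
      ev (w.foldl (fun P x => mulT P (T x)) P) = ev P * (w.map fun x => (ev (T x))ᵀ).prod := by
  induction w with
  | nil =>
    intro P _
    simp
  | cons x w ih =>
    intro P hP
    rw [List.foldl_cons, ih _ (by rw [mulT_length]; exact hP), ev_mulT hP (hT x), List.map_cons,
      List.prod_cons, mul_assoc]

theorem ev_evalW (T : ℕ → LM) (hT : ∀ x, wfM (T x) = true) (w : List ℕ) :
    ev (evalW T w) = (w.map fun x => (ev (T x))ᵀ).prod := by
  unfold evalW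
  rw [ev_foldl T hT w idL (by simp [idL]), ev_idL, one_mul]

end Cfsg.Agent.Lib.Lead.ON45
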