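import Cfsg.Agent.Lib.Lead.ON45.Hom
import Cfsg.Agent.Lib.Helper6.ONSimple
import Cfsg.Prelude.Def_Sporadic

/-! # A triple cover of the O'Nan group inside `SL₄₅(𝔽₇)`

The presented triple cover `Cov` of `Lib/Lead/ON3` acts faithfully on the space of dimension 45 of `Hom.lean`: the
kernel of the action is a normal subgroup that does not contain the central element `z` (it acts as the scalar `4`), and
`Cov / ⟨z⟩` is the simple group `ON`. The determinant is trivial on `Cov`, since `Cov` has no commutative quotient.
The first part is about an abstract group `G` with a central element `z` of order three, `G / ⟨z⟩` simple and not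
commutative, and `z` trivial in every commutative quotient. -/

set_option autoImplicit false
set_option maxHeartbeats 1000000

noncomputable section

namespace Cfsg.Agent.Lib.Lead.ON45

section abstract

variable {G E : Type} [Group G] [Group E] (s : G →* E) (hs : Function.Surjective s)
  (z : G) (hker : s.ker = Subgroup.zpowers z) (hz3 : z ^ 3 = 1) (hzc : z ∈ Subgroup.center G)
  (hnc : ¬ ∀ a b : E, a * b = b * a)
  (hab : ∀ {B : Type} [CommGroup B] (χ : G →* B), χ z = 1)

include hnc in
/-- a homomorphism from a simple group that is not commutative to a commutative group is trivial -/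
theorem simple_hom_comm [IsSimpleGroup E] {B : Type} [CommGroup B] (χ : E →* B) (x : E) : χ x = 1 := by
  rcases χ.normal_ker.eq_bot_or_eq_top with h | h
  · exfalso
    apply hnc
    intro a b
    apply (MonoidHom.ker_eq_bot_iff χ).1 h
    rw [map_mul, map_mul, mul_comm]
  · have : x ∈ χ.ker := by rw [h]; exact Subgroup.mem_top x
    exact this

include hs hker hnc hab in
/-- a homomorphism from the cover to a commutative group is trivial -/
theorem cover_hom_comm [IsSimpleGroup E] {B : Type} [CommGroup B] (χ : G →* B) (x : G) : χ x = 1 := by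
  have hk : s.ker ≤ χ.ker := by
    rw [hker, Subgroup.zpowers_le]
    exact hab χ
  have h : (s.liftOfRightInverse (Function.surjInv hs)
      (Function.rightInverse_surjInv hs) ⟨χ, hk⟩) (s x) = χ x :=
    MonoidHom.liftOfRightInverse_comp_apply s (Function.surjInv hs)
      (Function.rightInverse_surjInv hs) ⟨χ, hk⟩ x
  rw [← h]
  exact simple_hom_comm hnc _ _

include hs hker hz3 hnc hab in
/-- a homomorphism from the cover that does not kill `z` is injective -/
theorem cover_hom_ker [IsSimpleGroup E] {A : Type} [Group A] (φ : G →* A) (hφ : φ z ≠ 1) : φ.ker = ⊥ := by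
  have ho : orderOf (φ z) = 3 := by
    haveI : Fact (Nat.Prime 3) := ⟨by norm_num⟩
    apply orderOf_eq_prime
    · rw [← map_pow, hz3, map_one]
    · exact hφ
  have hn : (φ.ker.map s).Normal := Subgroup.Normal.map φ.normal_ker s hs
  rcases hn.eq_bot_or_eq_top with h | h
  · rw [eq_bot_iff]
    intro x hx
    have hx1 : s x = 1 := by
      have : s x ∈ φ.ker.map s := Subgroup.mem_map_of_mem s hx
      rw [h] at this
      exact this
    have hx2 : x ∈ Subgroup.zpowers z := by
      rw [← hker]
      exact hx1
    obtain ⟨k, rfl⟩ := Subgroup.mem_zpowers_iff.1 hx2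
    have hk : φ z ^ k = 1 := by
      have : φ (z ^ k) = 1 := hx
      rwa [map_zpow] at this
    have hdvd : (3 : ℤ) ∣ k := by
      have := orderOf_dvd_iff_zpow_eq_one.2 hk
      rwa [ho] at this
    obtain ⟨m, rfl⟩ := hdvd
    rw [Subgroup.mem_bot, zpow_mul]
    have : z ^ (3 : ℤ) = 1 := by
      exact_mod_cast hz3
    rw [this, one_zpow]
  · exfalso
    have hrange : ∀ x : G, φ x ∈ Subgroup.zpowers (φ z) := by
      intro x
      have : s x ∈ φ.ker.map s := by rw [h]; exact Subgroup.mem_top _
      obtain ⟨n, hn, hnx⟩ := Subgroup.mem_map.1 this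
      have h1 : x * n⁻¹ ∈ Subgroup.zpowers z := by
        rw [← hker, MonoidHom.mem_ker, map_mul, map_inv, hnx, mul_inv_cancel]
      obtain ⟨k, hk⟩ := Subgroup.mem_zpowers_iff.1 h1
      have h2 : φ x = φ z ^ k := by
        have h3 : x = z ^ k * n := by rw [hk]; group
        have hn' : φ n = 1 := hn
        rw [h3, map_mul, map_zpow, hn', mul_one]
      rw [h2]
      exact Subgroup.zpow_mem_zpowers _ _
    letI : CommGroup (Subgroup.zpowers (φ z)) :=
      { (inferInstance : Group (Subgroup.zpowers (φ z))) with mul_comm := mul_comm' }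
    let χ : G →* Subgroup.zpowers (φ z) := φ.codRestrict _ hrange
    have h1 := cover_hom_comm s hs z hker hnc hab χ z
    have h2 : φ z = 1 := congrArg Subtype.val h1
    exact hφ h2

include hs hker hzc hnc in
/-- the centre of the cover is generated by `z` -/
theorem cover_center [IsSimpleGroup E] : Subgroup.center G = s.ker := by
  apply le_antisymm
  · intro c hc
    have hcen : s c ∈ Subgroup.center E := by
      rw [Subgroup.mem_center_iff]
      intro y
      obtain ⟨x, rfl⟩ := hs y
      rw [← map_mul, ← map_mul, (Subgroup.mem_center_iff.1 hc) x]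
    rcases (inferInstance : (Subgroup.center E).Normal).eq_bot_or_eq_top with h | h
    · rw [h] at hcen
      exact hcen
    · exfalso
      apply hnc
      intro a b
      have : b ∈ Subgroup.center E := by rw [h]; exact Subgroup.mem_top _
      exact (Subgroup.mem_center_iff.1 this) a
  · rw [hker, Subgroup.zpowers_le]
    exact hzc

/-- the centre goes to the centre under an isomorphism (as in helper6's `J3Unitary`) -/
theorem map_center_eq45 {G H : Type*} [Group G] [Group H] (e : G ≃* H) :
    (Subgroup.center G).map (e : G →* H) = Subgroup.center H := by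
  ext y
  rw [Subgroup.mem_map]
  constructor
  · rintro ⟨x, hx, rfl⟩
    rw [Subgroup.mem_center_iff] at hx ⊢
    intro h
    have := hx (e.symm h)
    have h2 := congrArg e this
    rw [map_mul, map_mul, e.apply_symm_apply] at h2
    exact h2
  · intro hy
    refine ⟨e.symm y, ?_, e.apply_symm_apply y⟩
    rw [Subgroup.mem_center_iff] at hy ⊢
    intro g
    have := hy (e g)
    apply e.injective
    rw [map_mul, map_mul, e.apply_symm_apply]
    exact this

include hs in
/-- the image of a faithful representation of the cover: its centre and its central quotient -/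
theorem cover_image [IsSimpleGroup E] (hcen : Subgroup.center G = s.ker) {S : Type} [Group S] (ψ : G →* S)
    (hψ : Function.Injective ψ) :
    Nat.card (Subgroup.center ψ.range) = Nat.card (Subgroup.center G) ∧
      IsSimpleGroup (ψ.range ⧸ Subgroup.center ψ.range) ∧
      Nat.card (ψ.range ⧸ Subgroup.center ψ.range) = Nat.card E := by
  let e : G ≃* ψ.range := MonoidHom.ofInjective hψ
  have e1 : G ⧸ Subgroup.center G ≃* ψ.range ⧸ Subgroup.center ψ.range :=
    QuotientGroup.congr _ _ e (map_center_eq45 e)
  have e2 : G ⧸ Subgroup.center G ≃* G ⧸ s.ker := QuotientGroup.quotientMulEquivOfEq hcen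
  have e3 : G ⧸ s.ker ≃* E := QuotientGroup.quotientKerEquivOfSurjective s hs
  let e4 : E ≃* ψ.range ⧸ Subgroup.center ψ.range := (e3.symm.trans e2.symm).trans e1
  refine ⟨(Nat.card_congr (Subgroup.centerCongr e).toEquiv).symm, ?_, (Nat.card_congr e4.toEquiv).symm⟩
  exact e4.symm.isSimpleGroup

end abstract

open Cfsg.Spor Cfsg.Agent.Lib.Lead.ON3

theorem on_simple : IsSimpleGroup ON := Cfsg.Agent.Lib.Helper6.ONSimple.main.1

theorem on_card : Nat.card ON = 460815505920 := Cfsg.Agent.Lib.Helper6.ONSimple.main.2

/-- the O'Nan group is not commutative -/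
theorem on_not_comm : ¬ ∀ a b : ON, a * b = b * a := by
  intro h
  letI : CommGroup ON := { (inferInstance : Group ON) with mul_comm := h }
  haveI : IsSimpleGroup ON := on_simple
  haveI : Finite ON := Nat.finite_of_card_ne_zero (by rw [on_card]; norm_num)
  have hp : (Nat.card ON).Prime := IsSimpleGroup.prime_card
  rw [on_card] at hp
  exact absurd hp (by norm_num)

theorem zC_ab' : ∀ {B : Type} [CommGroup B] (χ : Cov →* B), χ zC = 1 := fun χ => zC_ab χ

/-- the determinant is trivial on the cover -/
theorem det_phi (x : Cov) : ((phi x : M45ˣ) : M45).det = 1 := by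
  haveI : IsSimpleGroup ON := on_simple
  have h := cover_hom_comm σ σ_surjective zC ker_σ on_not_comm zC_ab'
    (Matrix.GeneralLinearGroup.det.comp phi) x
  have h2 := congrArg Units.val h
  rw [MonoidHom.comp_apply, Matrix.GeneralLinearGroup.val_det_apply] at h2
  exact h2

/-- the action, with values in the special linear group -/
def psi : Cov →* Matrix.SpecialLinearGroup (Fin 45) (ZMod 7) where
  toFun x := ⟨((phi x : M45ˣ) : M45), det_phi x⟩
  map_one' := by
    apply Subtype.ext
    show ((phi 1 : M45ˣ) : M45) = 1
    rw [map_one]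
    rfl
  map_mul' x y := by
    apply Subtype.ext
    show ((phi (x * y) : M45ˣ) : M45) = ((phi x : M45ˣ) : M45) * ((phi y : M45ˣ) : M45)
    rw [map_mul]
    rfl

theorem psi_val (x : Cov) : ((psi x).1 : M45) = ((phi x : M45ˣ) : M45) := rfl

theorem phi_zC_ne : phi zC ≠ 1 := by
  rw [phi_zC]
  exact F8_ne_one

/-- the action is faithful -/
theorem phi_ker : phi.ker = ⊥ := by
  haveI : IsSimpleGroup ON := on_simple
  exact cover_hom_ker σ σ_surjective zC ker_σ zC_pow on_not_comm zC_ab' phi phi_zC_ne

theorem psi_injective : Function.Injective psi := by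
  rw [← MonoidHom.ker_eq_bot_iff, eq_bot_iff]
  intro x hx
  have h0 : psi x = 1 := hx
  have h1 : ((phi x : M45ˣ) : M45) = 1 := by
    rw [← psi_val, h0]
    rfl
  have h2 : phi x = 1 := Units.ext h1
  have : x ∈ phi.ker := h2
  rwa [phi_ker] at this

theorem orderOf_zC45 : orderOf zC = 3 := by
  haveI : Fact (Nat.Prime 3) := ⟨by norm_num⟩
  apply orderOf_eq_prime zC_pow
  intro h
  apply phi_zC_ne
  rw [h, map_one]

/-- the centre of the cover is generated by `z` -/
theorem center_cov : Subgroup.center Cov = σ.ker := by
  haveI : IsSimpleGroup ON := on_simple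
  exact cover_center σ σ_surjective zC ker_σ zC_central on_not_comm

theorem card_center_cov : Nat.card (Subgroup.center Cov) = 3 := by
  rw [center_cov, ker_σ, Nat.card_zpowers, orderOf_zC45]

/-- **the triple cover of the O'Nan group in dimension 45 over the field with seven elements** -/
theorem main : ∃ H : Subgroup (Matrix.SpecialLinearGroup (Fin 45) (ZMod 7)),
    Nat.card (Subgroup.center H) = 3 ∧ Cfsg.IsON (H ⧸ Subgroup.center H) := by
  haveI : IsSimpleGroup ON := on_simple
  obtain ⟨h1, h2, h3⟩ := cover_image σ σ_surjective center_cov psi psi_injective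
  refine ⟨psi.range, ?_, h2, ?_⟩
  · rw [h1, card_center_cov]
  · rw [h3, on_card]

end Cfsg.Agent.Lib.Lead.ON45
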