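import Cfsg.Agent.Lib.Lead.ON45.Chk0
import Cfsg.Agent.Lib.Lead.ON45.Chk1
import Cfsg.Agent.Lib.Lead.ON45.Chk2
import Cfsg.Agent.Lib.Lead.ON45.Chk3
import Cfsg.Agent.Lib.Lead.ON45.Chk4
import Cfsg.Agent.Lib.Lead.ON45.Chk5

/-! # All relator words of the triple cover evaluate to the identity on the 45-dimensional module (generated) -/

set_option autoImplicit false
set_option maxRecDepth 1000000
set_option maxHeartbeats 4000000

namespace Cfsg.Agent.Lib.Lead.ON45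

/-- all words that were checked -/
def allWords : List (List ℕ) := [[0, 0],
  [0, 1, 0, 1, 0, 1],
  [0, 2, 0, 2],
  [0, 3, 0, 3],
  [0, 4, 0, 4],
  [0, 5, 0, 5],
  [1, 0, 1, 0, 1, 0],
  [1, 1],
  [1, 2, 1, 2, 1, 2],
  [1, 3, 1, 3],
  [1, 4, 1, 4],
  [1, 5, 1, 5],
  [2, 0, 2, 0],
  [2, 1, 2, 1, 2, 1],
  [2, 2],
  [2, 3, 2, 3, 2, 3, 2, 3, 2, 3, 2, 3, 2, 3, 2, 3],
  [2, 4, 2, 4],
  [2, 5, 2, 5],
  [3, 0, 3, 0],
  [3, 1, 3, 1],
  [3, 2, 3, 2, 3, 2, 3, 2, 3, 2, 3, 2, 3, 2, 3, 2],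
  [3, 3],
  [3, 4, 3, 4, 3, 4],
  [3, 5, 3, 5],
  [4, 0, 4, 0],
  [4, 1, 4, 1],
  [4, 2, 4, 2],
  [4, 3, 4, 3, 4, 3],
  [4, 4],
  [4, 5, 4, 5, 4, 5],
  [5, 0, 5, 0],
  [5, 1, 5, 1],
  [5, 2, 5, 2],
  [5, 3, 5, 3],
  [5, 4, 5, 4, 5, 4],
  [5, 5],
  [6, 7],
  [7, 6],
  [8, 9],
  [9, 8],
  [0, 5, 7, 7],
  [0, 5, 3, 2, 3, 2, 3, 2, 3, 2],
  [2, 7, 3, 7, 3, 2, 3, 6, 3, 6],
  [3, 7, 2, 7, 2, 3, 2, 6, 2, 6],
  [1, 2, 3, 6, 1, 2, 3, 6, 1, 2, 3, 6, 1, 2, 3, 6, 1, 2, 3, 6, 9],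
  [6, 1, 2, 6, 2, 1, 6, 1, 2, 6, 2, 9],
  [6, 4, 3, 6, 3, 4, 6, 4, 3, 6, 3, 9],
  [8, 6, 9, 7],
  [8, 0, 9, 0],
  [8, 1, 9, 1],
  [8, 2, 9, 2],
  [8, 3, 9, 3],
  [8, 4, 9, 4],
  [8, 5, 9, 5],
  [8, 8, 8]]

theorem mem_chk {w : List ℕ} (hw : w ∈ allWords) : evalW T w = idL := by
  simp only [allWords, List.mem_cons, List.not_mem_nil, or_false] at hw
  rcases hw with rfl | rfl | rfl | rfl | rfl | rfl | rfl | rfl | rfl | rfl | rfl | rfl | rfl | rfl | rfl | rfl | rfl | rfl | rfl | rfl | rfl | rfl | rfl | rfl | rfl | rfl | rfl | rfl | rfl | rfl | rfl | rfl | rfl | rfl | rfl | rfl | rfl | rfl | rfl | rfl | rfl | rfl | rfl | rfl | rfl | rfl | rfl | rfl | rfl | rfl | rfl | rfl | rfl | rfl | rfl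
  · exact wd0
  · exact wd1
  · exact wd2
  · exact wd3
  · exact wd4
  · exact wd5
  · exact wd6
  · exact wd7
  · exact wd8
  · exact wd9
  · exact wd10
  · exact wd11
  · exact wd12
  · exact wd13
  · exact wd14
  · exact wd15
  · exact wd16
  · exact wd17
  · exact wd18
  · exact wd19
  · exact wd20
  · exact wd21
  · exact wd22
  · exact wd23
  · exact wd24
  · exact wd25
  · exact wd26
  · exact wd27
  · exact wd28
  · exact wd29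
  · exact wd30
  · exact wd31
  · exact wd32
  · exact wd33
  · exact wd34
  · exact wd35
  · exact wd36
  · exact wd37
  · exact wd38
  · exact wd39
  · exact wd40
  · exact wd41
  · exact wd42
  · exact wd43
  · exact wd44
  · exact wd45
  · exact wd46
  · exact wd47
  · exact wd48
  · exact wd49
  · exact wd50
  · exact wd51
  · exact wd52
  · exact wd53
  · exact wd54

end Cfsg.Agent.Lib.Lead.ON45
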